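import Cfsg.Agent.Lib.Spor.JankoFourSeven.Basic
import Cfsg.Agent.Lib.PGroups.Basic

/-!
The side of the centraliser of the central involution in the order-seven analysis of a group of
Janko-four type: the centraliser of an element of order seven in `Aut M22` has order `14`, and
the centraliser of the subgroup of order seven in `C(z)` has order `84`.
-/

set_option autoImplicit false
set_option linter.unusedSectionVars false
set_option linter.style.haveILetI false

namespace CfsgLib.Spor.JankoFourSeven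

open Cfsg CfsgLib.Spor CfsgLib.Spor.JankoFourCentral
open scoped Pointwise commutatorElement

universe u

section General

variable {G : Type u} [Group G] [Finite G]

theorem le_normalizer_of_conj {H A : Subgroup G} (h : ∀ g ∈ H, ∀ a ∈ A, g * a * g⁻¹ ∈ A) :
    H ≤ Subgroup.normalizer (A : Set G) := fun g hg => Subgroup.mem_normalizer_iff.2 fun a =>
  ⟨h g hg a, fun ha => by simpa [mul_assoc] using h g⁻¹ (inv_mem hg) _ ha⟩

theorem conj_mem_of_normalizer {A : Subgroup G} {g a : G}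
    (hg : g ∈ Subgroup.normalizer (A : Set G)) (ha : a ∈ A) : g * a * g⁻¹ ∈ A :=
  (Subgroup.mem_normalizer_iff.1 hg a).1 ha

/-- fixed points of a subgroup of order seven -/
theorem card_inf_cent_modEq {S A : Subgroup G} (hS : Nat.card S = 7)
    (hn : S ≤ Subgroup.normalizer (A : Set G)) :
    Nat.card ↥(A ⊓ Subgroup.centralizer (S : Set G)) % 7 = Nat.card A % 7 := by
  haveI : Fact (Nat.Prime 7) := ⟨by norm_num⟩
  letI : MulAction S A :=
    { smul := fun s a => ⟨(s : G) * a * (s : G)⁻¹, conj_mem_of_normalizer (hn s.2) a.2⟩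
      one_smul := fun a => Subtype.ext (by show (1 : G) * a * (1 : G)⁻¹ = a; group)
      mul_smul := fun s t a => Subtype.ext (by
        show ((s : G) * t) * a * ((s : G) * t)⁻¹ = (s : G) * ((t : G) * a * (t : G)⁻¹) * (s : G)⁻¹
        group) }
  have hp : IsPGroup 7 S := IsPGroup.of_card (n := 1) (by rw [hS, pow_one])
  have h := hp.card_modEq_card_fixedPoints A
  have e : Nat.card (MulAction.fixedPoints S A) =
      Nat.card ↥(A ⊓ Subgroup.centralizer (S : Set G)) := Nat.card_congr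
    { toFun := fun a => ⟨a.1.1, a.1.2, Subgroup.mem_centralizer_iff.2 fun s hs =>
          mul_inv_eq_iff_eq_mul.1 (congrArg Subtype.val (a.2 ⟨s, hs⟩) : s * a.1.1 * s⁻¹ = a.1.1)⟩
      invFun := fun a => ⟨⟨a.1, a.2.1⟩, fun s => Subtype.ext (by
        show (s : G) * a.1 * (s : G)⁻¹ = a.1
        rw [Subgroup.mem_centralizer_iff.1 a.2.2 s s.2, mul_inv_cancel_right])⟩
      left_inv := fun _ => rfl
      right_inv := fun _ => rfl }
  rw [← e]
  exact h.symm

theorem eq_zpowers_gen {S : Subgroup G} {p : ℕ} [Fact p.Prime] (hS : Nat.card S = p) :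
    ∃ s, orderOf s = p ∧ S = Subgroup.zpowers s := by
  obtain ⟨⟨s, hsS⟩, hs⟩ := exists_prime_orderOf_dvd_card' (G := S) p (by rw [hS])
  rw [Subgroup.orderOf_mk] at hs
  exact ⟨s, hs, (Subgroup.eq_of_le_of_card_ge (Subgroup.zpowers_le.2 hsS)
    (by rw [hS, Nat.card_zpowers, hs])).symm⟩

theorem centralizer_zpowers_eq (s : G) :
    Subgroup.centralizer ({s} : Set G) = Subgroup.centralizer (Subgroup.zpowers s : Set G) := by
  refine le_antisymm (fun g hg => Subgroup.mem_centralizer_iff.2 ?_) (fun g hg => ?_)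
  · rintro _ ⟨i, rfl⟩
    exact (Commute.zpow_right (Subgroup.mem_centralizer_singleton_iff.1 hg) i).eq.symm
  · exact Subgroup.mem_centralizer_singleton_iff.2
      (Subgroup.mem_centralizer_iff.1 hg s (Subgroup.mem_zpowers s)).symm

theorem card_cent_map {K : Type*} [Group K] (e : G ≃* K) (a : G) :
    Nat.card ↥(Subgroup.centralizer ({e a} : Set K)) =
      Nat.card ↥(Subgroup.centralizer ({a} : Set G)) :=
  (Nat.card_congr (e.toEquiv.subtypeEquiv fun g => by
    show g ∈ Subgroup.centralizer ({a} : Set G) ↔ e g ∈ Subgroup.centralizer ({e a} : Set K)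
    rw [Subgroup.mem_centralizer_singleton_iff, Subgroup.mem_centralizer_singleton_iff,
      ← map_mul, ← map_mul, e.injective.eq_iff])).symm

theorem two_mul_card_le {A B : Subgroup G} (h : A ≤ B) {b : G} (hb : b ∈ B) (hb' : b ∉ A) :
    2 * Nat.card A ≤ Nat.card B := by
  obtain ⟨k, hk⟩ := Subgroup.card_dvd_of_le h
  have hne : k ≠ 1 := fun e => hb' (by
    rw [Subgroup.eq_of_le_of_card_ge h (by rw [hk, e, mul_one])]; exact hb)
  have h0 : k ≠ 0 := fun e => Nat.card_pos.ne' (by rw [hk, e, mul_zero] : Nat.card B = 0)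
  rw [hk, mul_comm 2]
  exact Nat.mul_le_mul_left _ (by omega)

end General

section Aut

/-- the centraliser of an element of order seven in the duad stabiliser -/
theorem exists_cent_duadStab :
    ∃ y : ↥(M24 ⊓ MulAction.stabilizer (Equiv.Perm GolayPt) ({none, some 0} : Set GolayPt)),
      orderOf y = 7 ∧ Nat.card ↥(Subgroup.centralizer
        ({y} : Set ↥(M24 ⊓ MulAction.stabilizer (Equiv.Perm GolayPt)
          ({none, some 0} : Set GolayPt)))) = 14 := by
  classical
  obtain ⟨F⟩ := exists_cfg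
  have h2 := CfsgLib.Spor.isMultiplyPretransitive_le_five (k := 2) (by norm_num)
  have e1 : Function.Injective ![F.p, F.q] := by
    intro i j h; fin_cases i <;> fin_cases j <;> simp_all [F.hpq, F.hpq.symm]
  have e2 : Function.Injective ![(none : GolayPt), some 0] := by
    intro i j h; fin_cases i <;> fin_cases j <;> simp_all
  obtain ⟨⟨g, hg⟩, hgpq⟩ := MulAction.isMultiplyPretransitive_iff.1 h2 ⟨_, e1⟩ ⟨_, e2⟩
  have gp : g F.p = none := DFunLike.congr_fun hgpq 0
  have gq : g F.q = some 0 := DFunLike.congr_fun hgpq 1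
  have gp' : g⁻¹ none = F.p := (Equiv.symm_apply_eq g).2 gp.symm
  have gq' : g⁻¹ (some 0) = F.q := (Equiv.symm_apply_eq g).2 gq.symm
  set K := M24 ⊓ MulAction.stabilizer (Equiv.Perm GolayPt) ({none, some 0} : Set GolayPt) with hK
  have hmem : ∀ c : Equiv.Perm GolayPt, c ∈ M24 →
      ((c F.p = F.p ∧ c F.q = F.q) ∨ (c F.p = F.q ∧ c F.q = F.p)) → g * c * g⁻¹ ∈ K := by
    intro c hc hset
    refine ⟨M24.mul_mem (M24.mul_mem hg hc) (M24.inv_mem hg), mem_duadStab_iff.2 ?_⟩
    simp only [Equiv.Perm.mul_apply, gp', gq']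
    rcases hset with ⟨a, b⟩ | ⟨a, b⟩
    · exact Or.inl ⟨by rw [a, gp], by rw [b, gq]⟩
    · exact Or.inr ⟨by rw [a, gq], by rw [b, gp]⟩
  have yp : ∀ i : ℕ, (F.y ^ i) F.p = F.p ∧ (F.y ^ i) F.q = F.q := fun i =>
    ⟨F.pow_fix ((F.yfix _).2 (Or.inl rfl)), F.pow_fix ((F.yfix _).2 (Or.inr (Or.inl rfl)))⟩
  have hy : g * F.y * g⁻¹ ∈ K := hmem _ F.hy (Or.inl (by simpa using yp 1))
  let f : Bool × Fin 7 → ↥(Subgroup.centralizer ({⟨_, hy⟩} : Set K)) := fun x =>
    ⟨⟨g * ((bif x.1 then F.s else 1) * F.y ^ (x.2 : ℕ)) * g⁻¹, hmem _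
        (mul_mem (by cases x.1 <;> [exact one_mem _; exact F.hs]) (pow_mem F.hy _))
        (by
          rcases x with ⟨b, i⟩
          cases b
          · exact Or.inl (by simpa using yp i)
          · exact Or.inr (by simp [yp, F.sp, F.sq]))⟩,
      Subgroup.mem_centralizer_singleton_iff.2 (Subtype.ext (by
        have hc : Commute ((bif x.1 then F.s else 1) * F.y ^ (x.2 : ℕ)) F.y :=
          Commute.mul_left (by cases x.1 <;> [exact Commute.one_left _; exact F.sy])
            ((Commute.refl F.y).pow_left _)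
        show g * _ * g⁻¹ * (g * F.y * g⁻¹) = g * F.y * g⁻¹ * (g * _ * g⁻¹)
        rw [conj_mul, conj_mul, hc.eq]))⟩
  have hord : orderOf (⟨_, hy⟩ : K) = 7 := by
    rw [Subgroup.orderOf_mk, ← MulAut.conj_apply, MulEquiv.orderOf_eq, F.orderOf_y]
  refine ⟨⟨_, hy⟩, hord, ?_⟩
  rw [← Nat.card_eq_of_bijective f ⟨?_, ?_⟩]
  · simp [Nat.card_eq_fintype_card]
  · rintro ⟨b, i⟩ ⟨c, j⟩ e
    have e' : (bif b then F.s else 1) * F.y ^ (i : ℕ) = (bif c then F.s else 1) * F.y ^ (j : ℕ) :=
      mul_left_cancel (mul_right_cancel (congrArg (fun w => w.1.1) e))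
    have hbc : b = c := by
      have e'' := Equiv.congr_fun e' F.p
      cases b <;> cases c <;> simp [yp, F.sp, F.hpq, F.hpq.symm] at e'' ⊢
    subst hbc
    have e3 := mul_left_cancel e'
    rw [pow_inj_mod, F.orderOf_y, Nat.mod_eq_of_lt i.2, Nat.mod_eq_of_lt j.2] at e3
    exact Prod.ext rfl (Fin.ext e3)
  · rintro ⟨⟨c, hcM, hcS⟩, hc⟩
    have hcy : c * (g * F.y * g⁻¹) = g * F.y * g⁻¹ * c :=
      congrArg Subtype.val (Subgroup.mem_centralizer_singleton_iff.1 hc)
    have h1 : g⁻¹ * c * g * F.y = F.y * (g⁻¹ * c * g) := by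
      calc g⁻¹ * c * g * F.y = g⁻¹ * (c * (g * F.y * g⁻¹)) * g := by group
        _ = g⁻¹ * (g * F.y * g⁻¹ * c) * g := by rw [hcy]
        _ = F.y * (g⁻¹ * c * g) := by group
    have h3 : ((g⁻¹ * c * g) F.p = F.p ∧ (g⁻¹ * c * g) F.q = F.q) ∨
        ((g⁻¹ * c * g) F.p = F.q ∧ (g⁻¹ * c * g) F.q = F.p) := by
      simp only [Equiv.Perm.mul_apply, gp, gq]
      rcases mem_duadStab_iff.1 hcS with ⟨a, b⟩ | ⟨a, b⟩
      · exact Or.inl ⟨by rw [a, gp'], by rw [b, gq']⟩
      · exact Or.inr ⟨by rw [a, gq'], by rw [b, gp']⟩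
    obtain ⟨i, hi⟩ := F.cent_set (mul_mem (mul_mem (inv_mem hg) hcM) hg) h1 h3
    have hmod : F.y ^ i = F.y ^ (i % 7) := pow_eq_pow_mod i F.y7
    rw [hmod] at hi
    rcases hi with hi | hi
    · refine ⟨(false, ⟨i % 7, Nat.mod_lt _ (by norm_num)⟩), Subtype.ext (Subtype.ext ?_)⟩
      show g * (1 * F.y ^ (i % 7)) * g⁻¹ = c
      rw [one_mul, ← hi]; group
    · refine ⟨(true, ⟨i % 7, Nat.mod_lt _ (by norm_num)⟩), Subtype.ext (Subtype.ext ?_)⟩
      show g * (F.s * F.y ^ (i % 7)) * g⁻¹ = c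
      rw [← hi]; group

/-- An element of order seven of the automorphism group of `M22` has centraliser of order `14`. -/
theorem card_cent_seven_mulAut (q : MulAut ↥Cfsg.Spor.M22) (hq : orderOf q = 7) :
    Nat.card ↥(Subgroup.centralizer ({q} : Set (MulAut ↥Cfsg.Spor.M22))) = 14 := by
  haveI : Fact (Nat.Prime 7) := ⟨by norm_num⟩
  obtain ⟨y, hy, hy14⟩ := exists_cent_duadStab
  obtain ⟨e⟩ := nonempty_duadStab_autM22
  obtain ⟨q, rfl⟩ := e.surjective q
  rw [card_cent_map e q]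
  rw [MulEquiv.orderOf_eq] at hq
  obtain ⟨c, -, hc⟩ := exists_conj_seven
    (H := (⊤ : Subgroup ↥(M24 ⊓ MulAction.stabilizer (Equiv.Perm GolayPt)
      ({none, some 0} : Set GolayPt))))
    (by rw [Subgroup.card_top, natCard_duadStab]; norm_num)
    (S := Subgroup.zpowers q) (T := Subgroup.zpowers y) le_top le_top
    (by rw [Nat.card_zpowers, hq]) (by rw [Nat.card_zpowers, hy])
  rw [MonoidHom.map_zpowers] at hc
  have h1 : Subgroup.centralizer ({MulAut.conj c q} : Set _) = Subgroup.centralizer ({y} : Set _) := by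
    rw [centralizer_zpowers_eq, centralizer_zpowers_eq y]
    exact congrArg (fun K : Subgroup _ => Subgroup.centralizer (SetLike.coe K)) hc
  rw [← card_cent_map (MulAut.conj c) q, h1, hy14]

end Aut

variable {G : Type u} [Group G] [Finite G] {z : G}

/-- the data of the centraliser of the central involution -/
structure HData (z : G) where
  E : Subgroup G
  N : Subgroup G
  π : ↥(Subgroup.centralizer ({z} : Set G)) →* MulAut ↥Cfsg.Spor.M22
  z_ord : orderOf z = 2
  EN : E ≤ N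
  NH : N ≤ Subgroup.centralizer ({z} : Set G)
  nE : Subgroup.centralizer ({z} : Set G) ≤ Subgroup.normalizer (E : Set G)
  nN : Subgroup.centralizer ({z} : Set G) ≤ Subgroup.normalizer (N : Set G)
  cardE : Nat.card E = 2 ^ 13
  cardN : Nat.card N = 3 * 2 ^ 13
  zE : z ∈ E
  isTwo : IsPGroup 2 E
  sq : ∀ a ∈ E, a * a = 1 ∨ a * a = z
  comm : ∀ a ∈ E, ∀ b ∈ E, a * b * a⁻¹ * b⁻¹ = 1 ∨ a * b * a⁻¹ * b⁻¹ = z
  center : ∀ a ∈ E, (∀ b ∈ E, b * a = a * b) → a = 1 ∨ a = z
  cent : ∀ g ∈ Subgroup.centralizer ({z} : Set G), (∀ b ∈ E, b * g = g * b) → g ∈ E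
  ker : ∀ h, π h = 1 ↔ (h : G) ∈ N
  surj : Function.Surjective π

theorem exists_hdata (hJ : Cfsg.IsOfJankoFourTypeAt z) : Nonempty (HData z) := by
  classical
  obtain ⟨P, hz, hEx, hcard, hcent, ⟨N, hEN, hNH, hHN, hNcard, ⟨hNn, ⟨eN⟩⟩, hPN⟩, -⟩ := hJ
  obtain ⟨⟨h2E, hfr, hcm⟩, hc2⟩ := hEx
  haveI := hNn
  have hzH : z ∈ Subgroup.centralizer ({z} : Set G) := Subgroup.mem_centralizer_singleton_iff.2 rfl
  have hzE : z ∈ twoCoreOfCentralizer z := hcent ⟨hzH, Subgroup.mem_centralizer_iff.2 fun b hb => by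
    obtain ⟨⟨b', hb'⟩, -, rfl⟩ := hb
    exact Subgroup.mem_centralizer_singleton_iff.1 hb'⟩
  have hz1 : z ≠ 1 := by intro h; rw [h, orderOf_one] at hz; norm_num at hz
  have hcases : ∀ a : ↥(twoCoreOfCentralizer z), a ∈ Subgroup.center ↥(twoCoreOfCentralizer z) →
      (a : G) = 1 ∨ (a : G) = z := by
    intro a ha
    obtain ⟨w, -, huniq⟩ := (Nat.card_eq_two_iff' (1 : Subgroup.center ↥(twoCoreOfCentralizer z))).1 hc2
    have hzc : (⟨z, hzE⟩ : ↥(twoCoreOfCentralizer z)) ∈ Subgroup.center _ :=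
      Subgroup.mem_center_iff.2 fun b => Subtype.ext (by
        obtain ⟨⟨b', hb'⟩, -, hbe⟩ := b.2
        show (b : G) * z = z * b
        rw [← hbe]
        exact Subgroup.mem_centralizer_singleton_iff.1 hb')
    by_cases h : (a : G) = 1
    · exact Or.inl h
    right
    have e1 := huniq ⟨a, ha⟩ (fun e => h (congrArg (fun w => w.1.1) e))
    have e2 := huniq ⟨_, hzc⟩ (fun e => hz1 (congrArg (fun w => w.1.1) e))
    exact congrArg (fun w => w.1.1) (e1.trans e2.symm)
  refine ⟨{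
    E := twoCoreOfCentralizer z
    N := N
    π := eN.toMonoidHom.comp (QuotientGroup.mk' _)
    z_ord := hz
    EN := hEN
    NH := hNH
    nE := le_normalizer_of_conj fun g hg a ha => by
      obtain ⟨⟨a', ha'⟩, hac, rfl⟩ := ha
      exact ⟨⟨g, hg⟩ * ⟨a', ha'⟩ * ⟨g, hg⟩⁻¹,
        Subgroup.Normal.conj_mem inferInstance _ hac _, rfl⟩
    nN := hHN
    cardE := hcard
    cardN := by rw [hNcard, hcard]
    zE := hzE
    isTwo := h2E
    sq := fun a ha => ?_
    comm := fun a ha b hb => ?_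
    center := fun a ha h => hcases ⟨a, ha⟩ (Subgroup.mem_center_iff.2 fun b => Subtype.ext (h b b.2))
    cent := fun g hg h => hcent ⟨hg, Subgroup.mem_centralizer_iff.2 h⟩
    ker := fun h => ?_
    surj := eN.surjective.comp (QuotientGroup.mk'_surjective _) }⟩
  · haveI : Fact (Nat.Prime 2) := ⟨by norm_num⟩
    have := CfsgLib.PGroups.pow_mem_frattini h2E ⟨a, ha⟩
    rw [hfr, pow_two] at this
    exact hcases _ this
  · have : ⁅(⟨a, ha⟩ : ↥(twoCoreOfCentralizer z)), (⟨b, hb⟩ : ↥(twoCoreOfCentralizer z))⁆ ∈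
        commutator ↥(twoCoreOfCentralizer z) :=
      Subgroup.commutator_mem_commutator (Subgroup.mem_top _) (Subgroup.mem_top _)
    rw [hcm] at this
    exact hcases _ this
  · rw [MonoidHom.comp_apply, MulEquiv.coe_toMonoidHom, map_eq_one_iff _ eN.injective,
      QuotientGroup.mk'_apply, QuotientGroup.eq_one_iff, Subgroup.mem_subgroupOf]

/-- The centraliser of the involution has a Sylow `7`-subgroup of order seven. -/
theorem seven_cent_z (hJ : Cfsg.IsOfJankoFourTypeAt z) :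
    ¬ 49 ∣ Nat.card ↥(Subgroup.centralizer ({z} : Set G)) := by
  obtain ⟨D⟩ := exists_hdata hJ
  have hk : D.π.ker = D.N.subgroupOf (Subgroup.centralizer ({z} : Set G)) := by
    ext h; rw [MonoidHom.mem_ker, D.ker, Subgroup.mem_subgroupOf]
  rw [← D.π.ker.card_mul_index, Subgroup.index_ker, MonoidHom.range_eq_top.2 D.surj,
    Subgroup.card_top, natCard_mulAut_M22, hk,
    Nat.card_congr (Subgroup.subgroupOfEquivOfLe D.NH).toEquiv, D.cardN]
  norm_num

namespace HData

variable (D : HData z) {S : Subgroup G}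

theorem z_comm {g : G} (hg : g ∈ Subgroup.centralizer ({z} : Set G)) : g * z = z * g :=
  Subgroup.mem_centralizer_singleton_iff.1 hg

theorem z_sq (D : HData z) : z * z = 1 := by rw [← pow_two, ← D.z_ord, pow_orderOf_eq_one]

theorem z_ne_one (D : HData z) : z ≠ 1 := by
  intro h; have := D.z_ord; rw [h, orderOf_one] at this; norm_num at this

theorem mem_H {a : G} (ha : a ∈ D.E) : a ∈ Subgroup.centralizer ({z} : Set G) := D.NH (D.EN ha)

theorem two_le (D : HData z) {T : Subgroup G} (hT : T ≤ D.N) (h2 : IsPGroup 2 T) : T ≤ D.E := by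
  haveI : Fact (Nat.Prime 2) := ⟨by norm_num⟩
  have hn : T ≤ Subgroup.normalizer (D.E : Set G) := (hT.trans D.NH).trans D.nE
  have hsup : T ⊔ D.E ≤ D.N := sup_le hT D.EN
  have h2' : IsPGroup 2 ↥(T ⊔ D.E) := h2.to_sup_of_normal_right' D.isTwo hn
  obtain ⟨m, hm⟩ := IsPGroup.iff_card.1 h2'
  have hd := Subgroup.card_dvd_of_le hsup
  rw [hm, D.cardN] at hd
  have h13 : 2 ^ m ∣ 2 ^ 13 :=
    Nat.Coprime.dvd_of_dvd_mul_left (Nat.Coprime.pow_left m (by norm_num)) hd
  have he : T ⊔ D.E = D.E := (Subgroup.eq_of_le_of_card_ge le_sup_right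
    (by rw [hm, D.cardE]; exact Nat.le_of_dvd (by norm_num) h13)).symm
  exact le_sup_left.trans he.le

/-- an element commuting modulo `z` with a subgroup of `E` centralises half of it -/
theorem card_le_two_mul {C : Subgroup G} (hC : C ≤ D.E) {u : G}
    (hu : ∀ c ∈ C, u * c * u⁻¹ = c ∨ u * c * u⁻¹ = c * z) :
    Nat.card C ≤ 2 * Nat.card ↥(C ⊓ Subgroup.centralizer ({u} : Set G)) := by
  classical
  set B := C ⊓ Subgroup.centralizer ({u} : Set G) with hB
  have hin : ∀ c ∈ C, c ∈ B ↔ u * c * u⁻¹ = c := fun c hc => by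
    rw [hB, Subgroup.mem_inf, Subgroup.mem_centralizer_singleton_iff, mul_inv_eq_iff_eq_mul]
    exact ⟨fun h => h.2.symm, fun h => ⟨hc, h.symm⟩⟩
  by_cases hall : C ≤ B
  · have := Subgroup.card_le_of_le hall
    omega
  obtain ⟨b, hb, hbB⟩ := SetLike.not_le_iff_exists.1 hall
  have hbz : u * b * u⁻¹ = b * z := (hu b hb).resolve_left fun h => hbB ((hin b hb).2 h)
  have hrel : ∀ c ∈ C, c ∉ B → c * b⁻¹ ∈ B := by
    intro c hc hcB
    rw [hin _ (mul_mem hc (inv_mem hb))]
    have hcz : u * c * u⁻¹ = c * z := (hu c hc).resolve_left fun h => hcB ((hin c hc).2 h)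
    calc u * (c * b⁻¹) * u⁻¹ = u * c * u⁻¹ * (u * b * u⁻¹)⁻¹ := by group
      _ = c * b⁻¹ := by rw [hcz, hbz]; group
  let f : C → B × Bool := fun c =>
    if h : (c : G) ∈ B then (⟨c, h⟩, false) else (⟨(c : G) * b⁻¹, hrel c c.2 h⟩, true)
  have hf : Function.Injective f := by
    intro c d e
    by_cases h1 : (c : G) ∈ B <;> by_cases h2 : (d : G) ∈ B <;>
      simp [f, h1, h2] at e ⊢ <;> first | exact e | exact Subtype.ext e
  have := Nat.card_le_card_of_injective f hf
  rw [Nat.card_prod, Nat.card_eq_fintype_card (α := Bool), Fintype.card_bool] at this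
  omega

theorem conj_cases {a b : G} (ha : a ∈ D.E) (hb : b ∈ D.E) :
    a * b * a⁻¹ = b ∨ a * b * a⁻¹ = b * z := by
  rcases D.comm a ha b hb with h | h
  · exact Or.inl (mul_inv_eq_one.1 h)
  · right
    rw [mul_inv_eq_iff_eq_mul.1 h, z_comm (D.mem_H hb)]

variable (hSz : S ≤ Subgroup.centralizer ({z} : Set G))
include hSz

theorem z_cent : z ∈ Subgroup.centralizer (S : Set G) :=
  Subgroup.mem_centralizer_iff.2 fun _ hs => z_comm (hSz hs)

variable (hS : Nat.card S = 7)
include hS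

theorem sixteen_excluded : Nat.card ↥(D.E ⊓ Subgroup.centralizer (S : Set G)) ≠ 16 := by
  classical
  set C := D.E ⊓ Subgroup.centralizer (S : Set G) with hC
  intro h16
  -- the centre of `C` is generated by `z`
  have hcen : ∀ c ∈ C, (∀ b ∈ C, b * c = c * b) → c = 1 ∨ c = z := by
    intro c hc hcomm
    refine D.center c hc.1 ?_
    set M := D.E ⊓ Subgroup.centralizer ({c} : Set G) with hM
    have hn : S ≤ Subgroup.normalizer (M : Set G) := le_normalizer_of_conj fun s hs m hm => by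
      refine ⟨conj_mem_of_normalizer (D.nE (hSz hs)) hm.1,
        Subgroup.mem_centralizer_singleton_iff.2 ?_⟩
      have h1 : Commute s c := (Subgroup.mem_centralizer_iff.1 hc.2 s hs)
      have h2 : Commute m c := Subgroup.mem_centralizer_singleton_iff.1 hm.2
      exact ((h1.mul_left h2).mul_left h1.inv_left).eq
    have hmod := card_inf_cent_modEq hS hn
    have hMC : M ⊓ Subgroup.centralizer (S : Set G) = C := le_antisymm
      (fun x hx => ⟨hx.1.1, hx.2⟩) fun x hx => ⟨⟨hx.1, Subgroup.mem_centralizer_singleton_iff.2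
        (hcomm x hx)⟩, hx.2⟩
    rw [hMC, h16] at hmod
    have hle : M ≤ D.E := inf_le_left
    have hhalf : Nat.card D.E ≤ 2 * Nat.card M :=
      D.card_le_two_mul le_rfl fun b hb => D.conj_cases hc.1 hb
    have hME : M = D.E := by
      refine Subgroup.eq_of_le_of_card_ge hle ?_
      obtain ⟨k, hk⟩ := Subgroup.card_dvd_of_le hle
      rw [D.cardE] at hk hhalf ⊢
      have hk2' : Nat.card M * k ≤ Nat.card M * 2 := by omega
      have hk2 : k ≤ 2 := Nat.le_of_mul_le_mul_left hk2' Nat.card_pos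
      interval_cases k <;> omega
    intro b hb
    exact Subgroup.mem_centralizer_singleton_iff.1 (hME ▸ hb : b ∈ M).2
  have hexu : ∃ u ∈ C, ¬ (u = 1 ∨ u = z) := by
    by_contra h
    push Not at h
    have hsub : (C : Set G) ⊆ {1, z} := fun x hx => by
      rcases h x hx with h' | h'
      · exact Or.inl h'
      · exact Or.inr h'
    have := Set.ncard_le_ncard hsub (Set.toFinite _)
    rw [← Nat.card_coe_set_eq] at this
    have h2 := Set.ncard_insert_le (1 : G) {z}
    rw [Set.ncard_singleton] at h2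
    change Nat.card C ≤ _ at this
    omega
  obtain ⟨u, huC, hu⟩ := hexu
  obtain ⟨v, hvC, hv⟩ : ∃ v ∈ C, v * u ≠ u * v := by
    by_contra h
    push Not at h
    exact hu (hcen u huC h)
  have hlow : ∀ C' : Subgroup G, C' ≤ D.E → ∀ a ∈ D.E,
      Nat.card C' ≤ 2 * Nat.card ↥(C' ⊓ Subgroup.centralizer ({a} : Set G)) :=
    fun C' hC' a ha => D.card_le_two_mul hC' fun c hc => D.conj_cases ha (hC' hc)
  set D0 := C ⊓ Subgroup.centralizer ({u} : Set G) ⊓ Subgroup.centralizer ({v} : Set G) with hD0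
  have hchain : ∀ M' : Subgroup G, D0 ≤ M' → u ∈ M' → v ∈ M' → M' ≤ C →
      4 * Nat.card D0 ≤ Nat.card M' := by
    intro M' h1 h2 h3 h4
    have a1 : 2 * Nat.card D0 ≤ Nat.card ↥(M' ⊓ Subgroup.centralizer ({u} : Set G)) :=
      two_mul_card_le (fun x hx => ⟨h1 hx, hx.1.2⟩)
        ⟨h2, Subgroup.mem_centralizer_singleton_iff.2 rfl⟩
        fun h => hv (Subgroup.mem_centralizer_singleton_iff.1 h.2).symm
    have a2 : 2 * Nat.card ↥(M' ⊓ Subgroup.centralizer ({u} : Set G)) ≤ Nat.card M' :=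
      two_mul_card_le inf_le_left h3 fun h => hv (Subgroup.mem_centralizer_singleton_iff.1 h.2)
    omega
  have hD4 : Nat.card D0 = 4 := by
    have a1 := hlow C inf_le_left u huC.1
    have a2 := hlow (C ⊓ Subgroup.centralizer ({u} : Set G))
      (inf_le_left.trans inf_le_left) v hvC.1
    have a3 := hchain C (inf_le_left.trans inf_le_left) huC hvC le_rfl
    rw [← hD0] at a2
    omega
  have hab : IsMulCommutative D0 := IsPGroup.isMulCommutative_of_card_eq_prime_sq (p := 2)
    (by rw [hD4]; norm_num)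
  obtain ⟨w, hw, hw'⟩ : ∃ w ∈ D0, ¬ (w = 1 ∨ w = z) := by
    by_contra h
    push Not at h
    have hsub : (D0 : Set G) ⊆ {1, z} := fun x hx => by
      rcases h x hx with h' | h'
      · exact Or.inl h'
      · exact Or.inr h'
    have := Set.ncard_le_ncard hsub (Set.toFinite _)
    rw [← Nat.card_coe_set_eq] at this
    have h2 := Set.ncard_insert_le (1 : G) {z}
    rw [Set.ncard_singleton] at h2
    change Nat.card D0 ≤ _ at this
    omega
  have hcu : w * u = u * w := Subgroup.mem_centralizer_singleton_iff.1 hw.1.2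
  have hcv : w * v = v * w := Subgroup.mem_centralizer_singleton_iff.1 hw.2
  have hfull : C ⊓ Subgroup.centralizer ({w} : Set G) = C := by
    refine Subgroup.eq_of_le_of_card_ge inf_le_left ?_
    have := hchain (C ⊓ Subgroup.centralizer ({w} : Set G))
      (fun x hx => ⟨hx.1.1, Subgroup.mem_centralizer_singleton_iff.2
        (congrArg Subtype.val (hab.is_comm.comm (⟨x, hx⟩ : D0) ⟨w, hw⟩))⟩)
      ⟨huC, Subgroup.mem_centralizer_singleton_iff.2 hcu.symm⟩
      ⟨hvC, Subgroup.mem_centralizer_singleton_iff.2 hcv.symm⟩ inf_le_left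
    omega
  exact hw' (hcen w hw.1.1 fun b hb =>
    Subgroup.mem_centralizer_singleton_iff.1 (hfull.symm ▸ hb : b ∈ C ⊓ _).2)

theorem card_cases : ∃ k, Nat.card ↥(D.E ⊓ Subgroup.centralizer (S : Set G)) = 2 ^ k ∧
    (k = 1 ∨ k = 7 ∨ k = 10) := by
  haveI : Fact (Nat.Prime 2) := ⟨by norm_num⟩
  obtain ⟨k, hk13, hk⟩ := (Nat.dvd_prime_pow (by norm_num : Nat.Prime 2)).1
    (D.cardE ▸ Subgroup.card_dvd_of_le
      (inf_le_left : D.E ⊓ Subgroup.centralizer (S : Set G) ≤ D.E))
  refine ⟨k, hk, ?_⟩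
  have hmod := card_inf_cent_modEq hS (hSz.trans D.nE)
  rw [hk, D.cardE] at hmod
  have hne4 := D.sixteen_excluded hSz hS
  rw [hk] at hne4
  have hne13 : k ≠ 13 := by
    rintro rfl
    have heq : D.E ⊓ Subgroup.centralizer (S : Set G) = D.E :=
      Subgroup.eq_of_le_of_card_ge inf_le_left (by rw [hk, D.cardE])
    have hSE : S ≤ D.E := fun s hs => D.cent s (hSz hs) fun b hb =>
      (Subgroup.mem_centralizer_iff.1 (heq.symm ▸ hb : b ∈ D.E ⊓ _).2 s hs).symm
    have := Subgroup.card_dvd_of_le hSE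
    rw [hS, D.cardE] at this
    norm_num at this
  interval_cases k <;> simp_all

theorem card_N_cent : Nat.card ↥(D.N ⊓ Subgroup.centralizer (S : Set G)) =
    3 * Nat.card ↥(D.E ⊓ Subgroup.centralizer (S : Set G)) := by
  haveI : Fact (Nat.Prime 2) := ⟨by norm_num⟩
  haveI : Fact (Nat.Prime 3) := ⟨by norm_num⟩
  set J := D.N ⊓ Subgroup.centralizer (S : Set G) with hJ
  set C := D.E ⊓ Subgroup.centralizer (S : Set G) with hC
  have hmod := card_inf_cent_modEq hS (hSz.trans D.nN)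
  rw [← hJ, D.cardN] at hmod
  have hd : Nat.card J ∣ 3 * 2 ^ 13 := D.cardN ▸ Subgroup.card_dvd_of_le inf_le_left
  have hCJ : C ≤ J := inf_le_inf D.EN le_rfl
  obtain ⟨T⟩ := (inferInstance : Nonempty (Sylow 2 J))
  have hTC : (T : Subgroup J).map J.subtype ≤ C := fun x hx => by
    refine ⟨D.two_le ((Subgroup.map_subtype_le _).trans inf_le_left) (T.isPGroup'.map _) hx, ?_⟩
    exact (Subgroup.map_subtype_le _ hx).2
  have hTcard : Nat.card ((T : Subgroup J).map J.subtype) = 2 ^ (Nat.card J).factorization 2 := by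
    rw [← Nat.card_congr ((T : Subgroup J).equivMapOfInjective _ Subtype.val_injective).toEquiv,
      Sylow.card_eq_multiplicity]
  obtain ⟨k, hk, -⟩ := D.card_cases hSz hS
  rw [← hC] at hk
  have hCk : Nat.card C = 2 ^ (Nat.card J).factorization 2 := by
    refine le_antisymm ?_ (hTcard ▸ Subgroup.card_le_of_le hTC)
    rw [hk]
    exact Nat.pow_le_pow_right (by norm_num)
      ((Nat.Prime.pow_dvd_iff_le_factorization (by norm_num) Nat.card_pos.ne').1
        (hk ▸ Subgroup.card_dvd_of_le hCJ))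
  obtain ⟨a, b, ha, hb, hab⟩ := Nat.dvd_mul.1 hd
  obtain ⟨j, hj, rfl⟩ := (Nat.dvd_prime_pow (by norm_num)).1 hb
  rcases (Nat.dvd_prime (by norm_num)).1 ha with rfl | rfl
  · exfalso
    rw [← hab, one_mul] at hmod
    interval_cases j <;> simp at hmod
  · have hf : (Nat.card J).factorization 2 = j := by
      rw [← hab, Nat.factorization_mul (by norm_num) (by positivity), Finsupp.add_apply,
        Nat.Prime.factorization_pow (by norm_num), Finsupp.single_eq_same,
        Nat.factorization_eq_zero_of_not_dvd (by norm_num), zero_add]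
    rw [hCk, hf, hab]

theorem surj_cent {s : G} (hs : orderOf s = 7) (hSs : S = Subgroup.zpowers s)
    {h : ↥(Subgroup.centralizer ({z} : Set G))}
    (hh : D.π h * D.π ⟨s, hSz (hSs ▸ Subgroup.mem_zpowers s)⟩ =
      D.π ⟨s, hSz (hSs ▸ Subgroup.mem_zpowers s)⟩ * D.π h) :
    ∃ x : ↥(Subgroup.centralizer ({z} : Set G)),
      (x : G) ∈ Subgroup.centralizer (S : Set G) ∧ D.π x = D.π h := by
  haveI : Fact (Nat.Prime 7) := ⟨by norm_num⟩
  have hsS : s ∈ S := hSs ▸ Subgroup.mem_zpowers s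
  set s' : ↥(Subgroup.centralizer ({z} : Set G)) := ⟨s, hSz hsS⟩ with hs'
  -- the preimage of the image of `S`
  set M : Subgroup G :=
    (((Subgroup.zpowers s').map D.π).comap D.π).map
      (Subgroup.centralizer ({z} : Set G)).subtype with hM
  have hMcard : Nat.card M = 3 * 2 ^ 13 * 7 := by
    rw [hM, ← Nat.card_congr (Subgroup.equivMapOfInjective _ _ Subtype.val_injective).toEquiv]
    have hord : orderOf (D.π s') = 7 := by
      refine orderOf_eq_prime ?_ fun e => ?_
      · rw [← map_pow, show s' ^ 7 = 1 from Subtype.ext (by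
          show s ^ 7 = 1; rw [← hs, pow_orderOf_eq_one]), map_one]
      · have h1 : S ≤ D.N := by rw [hSs, Subgroup.zpowers_le]; exact (D.ker s').1 e
        have := Subgroup.card_dvd_of_le h1
        rw [hS, D.cardN] at this
        norm_num at this
    set A := (Subgroup.zpowers s').map D.π with hA
    have hAc : Nat.card A = 7 := by rw [hA, MonoidHom.map_zpowers, Nat.card_zpowers, hord]
    let f : ↥(A.comap D.π) →* ↥A := D.π.subgroupComap A
    have hfs : Function.Surjective f := fun a => by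
      obtain ⟨x, hx⟩ := D.surj a.1
      exact ⟨⟨x, Subgroup.mem_comap.2 (hx ▸ a.2)⟩, Subtype.ext hx⟩
    rw [← f.ker.card_mul_index, Subgroup.index_ker, MonoidHom.range_eq_top.2 hfs,
      Subgroup.card_top, hAc]
    congr 1
    rw [← D.cardN]
    refine Nat.card_congr
      { toFun := fun x => ⟨x.1.1.1, (D.ker x.1.1).1 (congrArg Subtype.val x.2)⟩
        invFun := fun n => ⟨⟨⟨n.1, D.NH n.2⟩, Subgroup.mem_comap.2 (by
            rw [(D.ker ⟨n.1, D.NH n.2⟩).2 n.2]; exact one_mem _)⟩,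
          Subtype.ext ((D.ker ⟨n.1, D.NH n.2⟩).2 n.2)⟩
        left_inv := fun _ => rfl
        right_inv := fun _ => rfl }
  have hSM : S ≤ M := by
    rw [hSs, Subgroup.zpowers_le]
    exact ⟨s', Subgroup.mem_comap.2 ⟨s', Subgroup.mem_zpowers _, rfl⟩, rfl⟩
  have hcM : (h * s' * h⁻¹ : ↥(Subgroup.centralizer ({z} : Set G))).1 ∈ M := by
    refine ⟨h * s' * h⁻¹, Subgroup.mem_comap.2 ⟨s', Subgroup.mem_zpowers _, ?_⟩, rfl⟩
    rw [map_mul, map_mul, map_inv, hh, mul_inv_cancel_right]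
  have hT : S.map (MulAut.conj (h : G)).toMonoidHom ≤ M := by
    rw [hSs, MonoidHom.map_zpowers, Subgroup.zpowers_le]
    exact hcM
  obtain ⟨c, hc, hcS⟩ := exists_conj_seven (H := M) (by rw [hMcard]; norm_num) hT hSM
    (by rw [Subgroup.card_map_of_injective (MulAut.conj (h : G)).injective, hS]) hS
  obtain ⟨c', hc', rfl⟩ := hc
  obtain ⟨w, hw, hwe⟩ := hc'
  obtain ⟨i, rfl⟩ := Subgroup.mem_zpowers_iff.1 hw
  refine ⟨(s' ^ i)⁻¹ * c' * h, ?_, ?_⟩
  · set x := (s' ^ i)⁻¹ * c' * h with hx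
    have hxs : (x : G) * s * (x : G)⁻¹ ∈ S := by
      have h1 : (c' : G) * ((h : G) * s * (h : G)⁻¹) * (c' : G)⁻¹ ∈ S :=
        hcS ▸ ⟨_, ⟨s, hsS, rfl⟩, rfl⟩
      have h2 : (s : G) ^ i ∈ S := zpow_mem hsS i
      have := S.mul_mem (S.mul_mem (S.inv_mem h2) h1) h2
      have e : (x : G) = (s ^ i)⁻¹ * c' * h := by simp [hx, hs']
      rw [e]
      simpa [mul_assoc] using this
    have hπ : D.π x = D.π h := by
      rw [hx, map_mul, map_mul, map_inv, hwe, inv_mul_cancel, one_mul]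
    have h3 : (x : G) * s * (x : G)⁻¹ * s⁻¹ ∈ D.N ⊓ S := by
      refine ⟨(D.ker (x * s' * x⁻¹ * s'⁻¹)).1 ?_, S.mul_mem hxs (S.inv_mem hsS)⟩
      rw [map_mul, map_mul, map_mul, map_inv, map_inv, hπ, hh, mul_inv_cancel_right,
        mul_inv_cancel]
    have hb : D.N ⊓ S = ⊥ := Subgroup.inf_eq_bot_of_coprime (by rw [D.cardN, hS]; norm_num)
    rw [hb, Subgroup.mem_bot, mul_inv_eq_one, mul_inv_eq_iff_eq_mul] at h3
    rw [hSs, ← centralizer_zpowers_eq, Subgroup.mem_centralizer_singleton_iff]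
    exact h3
  · rw [map_mul, map_mul, map_inv, hwe, inv_mul_cancel, one_mul]

theorem card_X : Nat.card ↥(Subgroup.centralizer ({z} : Set G) ⊓ Subgroup.centralizer (S : Set G)) =
    14 * Nat.card ↥(D.N ⊓ Subgroup.centralizer (S : Set G)) := by
  haveI : Fact (Nat.Prime 7) := ⟨by norm_num⟩
  obtain ⟨s, hs, hSs⟩ := eq_zpowers_gen hS
  have hsS : s ∈ S := hSs ▸ Subgroup.mem_zpowers s
  set X := Subgroup.centralizer ({z} : Set G) ⊓ Subgroup.centralizer (S : Set G) with hX
  set s' : ↥(Subgroup.centralizer ({z} : Set G)) := ⟨s, hSz hsS⟩ with hs'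
  let f : ↥X →* MulAut ↥Cfsg.Spor.M22 := D.π.comp (Subgroup.inclusion inf_le_left)
  have hord : orderOf (D.π s') = 7 := by
    refine orderOf_eq_prime ?_ fun e => ?_
    · rw [← map_pow, show s' ^ 7 = 1 from Subtype.ext (by
        show s ^ 7 = 1; rw [← hs, pow_orderOf_eq_one]), map_one]
    · have h1 : S ≤ D.N := by rw [hSs, Subgroup.zpowers_le]; exact (D.ker s').1 e
      have := Subgroup.card_dvd_of_le h1
      rw [hS, D.cardN] at this
      norm_num at this
  have hrange : f.range = Subgroup.centralizer ({D.π s'} : Set (MulAut ↥Cfsg.Spor.M22)) := by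
    refine le_antisymm ?_ fun w hw => ?_
    · rintro _ ⟨x, rfl⟩
      rw [Subgroup.mem_centralizer_singleton_iff]
      show D.π _ * D.π s' = D.π s' * D.π _
      rw [← map_mul, ← map_mul]
      exact congrArg D.π (Subtype.ext (Subgroup.mem_centralizer_iff.1 x.2.2 s hsS).symm)
    · obtain ⟨h, rfl⟩ := D.surj w
      obtain ⟨x, hx, hxe⟩ := D.surj_cent hSz hS hs hSs (Subgroup.mem_centralizer_singleton_iff.1 hw)
      exact ⟨⟨x.1, x.2, hx⟩, hxe⟩
  rw [← f.ker.card_mul_index, Subgroup.index_ker, hrange, card_cent_seven_mulAut _ hord, mul_comm]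
  congr 1
  exact Nat.card_congr
    { toFun := fun x => ⟨x.1.1, (D.ker _).1 x.2, x.1.2.2⟩
      invFun := fun n => ⟨⟨n.1, D.NH n.2.1, n.2.2⟩, (D.ker ⟨n.1, D.NH n.2.1⟩).2 n.2.1⟩
      left_inv := fun _ => rfl
      right_inv := fun _ => rfl }

/-- a large centraliser in `E` contradicts the order `56` -/
theorem small_case (h49 : ¬ 49 ∣ Nat.card ↥(Subgroup.centralizer ({z} : Set G)))
    (ht : ∃ t ∈ Subgroup.centralizer (S : Set G), orderOf t = 2 ∧ ¬ IsConj z t)
    (hcard : ∀ t ∈ Subgroup.centralizer (S : Set G), orderOf t = 2 → ¬ IsConj z t →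
      Nat.card ↥(Subgroup.centralizer ({t} : Set G) ⊓ Subgroup.centralizer (S : Set G)) = 56)
    {k : ℕ} (hk : Nat.card ↥(D.E ⊓ Subgroup.centralizer (S : Set G)) = 2 ^ k) : k < 7 := by
  classical
  haveI : Fact (Nat.Prime 2) := ⟨by norm_num⟩
  by_contra hk7
  set Y := Subgroup.centralizer (S : Set G) with hY
  set C := D.E ⊓ Y with hC
  have hX : Nat.card ↥(Subgroup.centralizer ({z} : Set G) ⊓ Y) = 21 * 2 ^ (k + 1) := by
    rw [D.card_X hSz hS, D.card_N_cent hSz hS, hk, pow_succ]; ring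
  -- no subgroup of order at least 16 centralises such an involution
  have hbig : ∀ (T : Subgroup G), IsPGroup 2 T → 16 ≤ Nat.card T → ∀ t ∈ Y, orderOf t = 2 →
      ¬ IsConj z t → T ≤ Subgroup.centralizer ({t} : Set G) ⊓ Y → False := by
    intro T hT h16 t htY ht2 htz hle
    obtain ⟨m, hm⟩ := IsPGroup.iff_card.1 hT
    have hd := Subgroup.card_dvd_of_le hle
    rw [hcard t htY ht2 htz, hm] at hd
    rw [hm] at h16
    have h4 : 4 ≤ m := by
      by_contra h
      have : 2 ^ m ≤ 2 ^ 3 := Nat.pow_le_pow_right (by norm_num) (by omega)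
      omega
    have := (pow_dvd_pow 2 h4).trans hd
    norm_num at this
  obtain ⟨TY⟩ := (inferInstance : Nonempty (Sylow 2 Y))
  have hTYcard : 2 ^ (k + 1) ≤ Nat.card (TY : Subgroup Y) := by
    rw [Sylow.card_eq_multiplicity]
    refine Nat.pow_le_pow_right (by norm_num)
      ((Nat.Prime.pow_dvd_iff_le_factorization (by norm_num) Nat.card_pos.ne').1 ?_)
    exact (hX ▸ dvd_mul_left _ _).trans (Subgroup.card_dvd_of_le inf_le_right)
  have h256 : (256 : ℕ) ≤ 2 ^ (k + 1) := Nat.pow_le_pow_right (n := 2) (i := 8) (by norm_num) (by omega)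
  haveI : Nontrivial (TY : Subgroup Y) := Finite.one_lt_card_iff_nontrivial.1 (by omega)
  haveI : Nontrivial (Subgroup.center (TY : Subgroup Y)) := TY.isPGroup'.center_nontrivial
  obtain ⟨⟨⟨⟨c, hcY⟩, hcT⟩, hcc⟩, hc2⟩ := exists_prime_orderOf_dvd_card'
    (G := Subgroup.center (TY : Subgroup Y)) 2 (by
      obtain ⟨m, hm⟩ := IsPGroup.iff_card.1 (TY.isPGroup'.to_subgroup (Subgroup.center (TY : Subgroup Y)))
      have h1 : 1 < Nat.card (Subgroup.center (TY : Subgroup Y)) := Finite.one_lt_card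
      rw [hm] at h1 ⊢
      exact dvd_pow_self 2 (fun e => by rw [e] at h1; simp at h1))
  rw [Subgroup.orderOf_mk, Subgroup.orderOf_mk, Subgroup.orderOf_mk] at hc2
  set T := (TY : Subgroup Y).map Y.subtype with hT
  have hTle : T ≤ Subgroup.centralizer ({c} : Set G) ⊓ Y := by
    rintro _ ⟨w, hw, rfl⟩
    exact ⟨Subgroup.mem_centralizer_singleton_iff.2
      (congrArg (fun v => v.1.1) (Subgroup.mem_center_iff.1 hcc ⟨w, hw⟩)), w.2⟩
  have hTp : IsPGroup 2 T := TY.isPGroup'.map _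
  have hTcard : Nat.card T = Nat.card (TY : Subgroup Y) :=
    (Nat.card_congr ((TY : Subgroup Y).equivMapOfInjective _ Subtype.val_injective).toEquiv).symm
  have hcz : IsConj z c := by
    by_contra h
    exact hbig T hTp (by omega) c hcY hc2 h hTle
  obtain ⟨g, hg⟩ := isConj_iff.1 hcz
  -- move `c` to `z` inside the normaliser of `S`
  have hS' : S.map (MulAut.conj g⁻¹).toMonoidHom ≤ Subgroup.centralizer ({z} : Set G) := by
    rintro _ ⟨s, hs, rfl⟩
    rw [Subgroup.mem_centralizer_singleton_iff]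
    have h1 : s * c = c * s := Subgroup.mem_centralizer_iff.1 hcY s hs
    show g⁻¹ * s * g⁻¹⁻¹ * z = z * (g⁻¹ * s * g⁻¹⁻¹)
    rw [← hg] at h1
    calc g⁻¹ * s * g⁻¹⁻¹ * z = g⁻¹ * (s * (g * z * g⁻¹)) * g := by group
      _ = g⁻¹ * (g * z * g⁻¹ * s) * g := by rw [h1]
      _ = z * (g⁻¹ * s * g⁻¹⁻¹) := by group
  obtain ⟨h, hh, hhS⟩ := exists_conj_seven h49 hS' hSz
    (by rw [Subgroup.card_map_of_injective (MulAut.conj g⁻¹).injective, hS]) hS
  set n := h * g⁻¹ with hn
  have hnS : ∀ s ∈ S, n * s * n⁻¹ ∈ S := fun s hs => by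
    rw [← hhS]
    exact ⟨_, ⟨s, hs, rfl⟩, by simp [hn, mul_assoc]⟩
  have hnS' : n ∈ Subgroup.normalizer (S : Set G) :=
    Subgroup.mem_normalizer_fintype hnS
  have hnc : n * c * n⁻¹ = z := by
    rw [hn, ← hg]
    calc h * g⁻¹ * (g * z * g⁻¹) * (h * g⁻¹)⁻¹ = h * z * h⁻¹ := by group
      _ = z := by rw [z_comm hh, mul_inv_cancel_right]
  have hnY : ∀ y ∈ Y, n * y * n⁻¹ ∈ Y := fun y hy => Subgroup.mem_centralizer_iff.2 fun s hs => by
    have h1 : n⁻¹ * s * n ∈ S := by
      simpa using conj_mem_of_normalizer (Subgroup.inv_mem _ hnS') hs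
    have h2 := Subgroup.mem_centralizer_iff.1 hy _ h1
    calc s * (n * y * n⁻¹) = n * ((n⁻¹ * s * n) * y) * n⁻¹ := by group
      _ = n * (y * (n⁻¹ * s * n)) * n⁻¹ := by rw [h2]
      _ = n * y * n⁻¹ * s := by group
  set T' := T.map (MulAut.conj n).toMonoidHom with hT'
  have hT'z : T' ≤ Subgroup.centralizer ({z} : Set G) ⊓ Y := by
    rintro _ ⟨w, hw, rfl⟩
    refine ⟨Subgroup.mem_centralizer_singleton_iff.2 ?_, hnY w (hTle hw).2⟩
    have hw' : w * c = c * w := Subgroup.mem_centralizer_singleton_iff.1 (hTle hw).1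
    rw [← hnc]
    show n * w * n⁻¹ * (n * c * n⁻¹) = n * c * n⁻¹ * (n * w * n⁻¹)
    rw [conj_mul, conj_mul, hw']
  -- `T'` is a Sylow subgroup of `Y`; every involution of `Y` moves into it
  have hT'card : Nat.card (T'.subgroupOf Y) = 2 ^ (Nat.card Y).factorization 2 := by
    rw [Nat.card_congr (Subgroup.subgroupOfEquivOfLe (hT'z.trans inf_le_right)).toEquiv, hT',
      Subgroup.card_map_of_injective (MulAut.conj n).injective, hTcard, Sylow.card_eq_multiplicity]
  obtain ⟨t, htY, ht2, htz⟩ := ht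
  have hzt : IsPGroup 2 (Subgroup.zpowers (⟨t, htY⟩ : Y)) :=
    IsPGroup.of_card (n := 1) (by rw [Nat.card_zpowers, Subgroup.orderOf_mk, ht2, pow_one])
  obtain ⟨TS, hTS⟩ := hzt.exists_le_sylow
  obtain ⟨x, hx⟩ := MulAction.exists_smul_eq Y TS (Sylow.ofCard _ hT'card)
  have hu : ((x : G) * t * (x : G)⁻¹) ∈ T' := by
    have h1 : MulAut.conj x • (⟨t, htY⟩ : Y) ∈ (x • TS : Sylow 2 Y) :=
      Subgroup.smul_mem_pointwise_smul _ _ _ (hTS (Subgroup.mem_zpowers _))
    rw [hx] at h1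
    exact h1
  set u := (x : G) * t * (x : G)⁻¹ with hudef
  have hu2 : orderOf u = 2 := by
    rw [hudef, ← MulAut.conj_apply, MulEquiv.orderOf_eq, ht2]
  have huz : ¬ IsConj z u := fun h' => htz (h'.trans (isConj_iff.2 ⟨(x : G), rfl⟩).symm)
  obtain ⟨huH, huY⟩ := hT'z hu
  have huu : u * u = 1 := by rw [← pow_two, ← hu2, pow_orderOf_eq_one]
  have hu' : u⁻¹ = u := inv_eq_of_mul_eq_one_left huu
  -- `u` acts on `C`
  have hconj : ∀ a ∈ C, u * a * u⁻¹ ∈ C := fun a ha =>
    ⟨conj_mem_of_normalizer (D.nE huH) ha.1, Y.mul_mem (Y.mul_mem huY ha.2) (Y.inv_mem huY)⟩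
  let zC : C := ⟨z, D.zE, z_cent hSz⟩
  haveI hZn : (Subgroup.zpowers zC).Normal := ⟨fun a ha b => by
    obtain ⟨i, rfl⟩ := Subgroup.mem_zpowers_iff.1 ha
    have hcm : Commute b zC := Subtype.ext (z_comm (D.mem_H b.2.1))
    rw [(hcm.zpow_right i).eq, mul_inv_cancel_right]
    exact Subgroup.zpow_mem_zpowers _ i⟩
  have hz2 : ∀ a : C, a ∈ Subgroup.zpowers zC ↔ (a : G) = 1 ∨ (a : G) = z := by
    intro a
    refine ⟨fun ha => ?_, fun ha => ?_⟩
    · obtain ⟨i, rfl⟩ := Subgroup.mem_zpowers_iff.1 ha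
      rw [SubgroupClass.coe_zpow]
      show z ^ i = 1 ∨ z ^ i = z
      rcases Int.even_or_odd i with ⟨j, rfl⟩ | ⟨j, rfl⟩
      · left; rw [zpow_add, ← (Commute.refl z).mul_zpow, D.z_sq, one_zpow]
      · right; rw [zpow_add, zpow_one, two_mul, zpow_add, ← (Commute.refl z).mul_zpow, D.z_sq,
          one_zpow, one_mul]
    · rcases ha with ha | ha
      · rw [show a = 1 from Subtype.ext ha]; exact one_mem _
      · rw [show a = zC from Subtype.ext ha]; exact Subgroup.mem_zpowers _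
  let mk := QuotientGroup.mk' (Subgroup.zpowers zC)
  have hmkc : ∀ a b : C, mk a * mk b = mk b * mk a := fun a b => by
    rw [← map_mul, ← map_mul, QuotientGroup.mk'_eq_mk']
    refine ⟨⁅b⁻¹, a⁻¹⁆, (hz2 _).2 (D.comm _ (inv_mem b.2.1) _ (inv_mem a.2.1)), ?_⟩
    simp [commutatorElement_def, mul_assoc]
  have hmk2 : ∀ a : C, mk a * mk a = 1 := fun a => by
    rw [← map_mul, QuotientGroup.mk'_apply, QuotientGroup.eq_one_iff]
    exact (hz2 _).2 (D.sq _ a.2.1)
  let cu : C → C := fun a => ⟨u * a * u⁻¹, hconj a a.2⟩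
  let f : C →* C ⧸ Subgroup.zpowers zC :=
    { toFun := fun a => mk a * mk (cu a)
      map_one' := by
        rw [show cu 1 = 1 from Subtype.ext (by simp [cu]), map_one, one_mul]
      map_mul' := fun a b => by
        rw [show cu (a * b) = cu a * cu b from Subtype.ext (conj_mul).symm, map_mul, map_mul]
        calc mk a * mk b * (mk (cu a) * mk (cu b))
            = mk a * (mk b * mk (cu a)) * mk (cu b) := by group
          _ = mk a * (mk (cu a) * mk b) * mk (cu b) := by rw [hmkc b (cu a)]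
          _ = mk a * mk (cu a) * (mk b * mk (cu b)) := by group }
  set K := f.ker with hK
  have hrange : f.range ≤ K.map mk := by
    rintro _ ⟨a, rfl⟩
    refine ⟨a * cu a, ?_, map_mul mk a (cu a)⟩
    show f (a * cu a) = 1
    rw [map_mul]
    show mk a * mk (cu a) * (mk (cu a) * mk (cu (cu a))) = 1
    rw [show cu (cu a) = a from Subtype.ext (by
      show u * (u * a * u⁻¹) * u⁻¹ = (a : G)
      rw [hu']
      calc u * (u * a * u) * u = u * u * a * (u * u) := by group
        _ = a := by rw [huu, one_mul, mul_one]),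
      show mk a * mk (cu a) * (mk (cu a) * mk a) = mk a * (mk (cu a) * mk (cu a)) * mk a by group,
      hmk2, mul_one, hmk2]
  have hzK : Subgroup.zpowers zC ≤ K := by
    rw [Subgroup.zpowers_le]
    show mk zC * mk (cu zC) = 1
    rw [show cu zC = zC from Subtype.ext (by
      show u * z * u⁻¹ = z; rw [z_comm huH, mul_inv_cancel_right]), hmk2]
  have hmapc : Nat.card (K.map mk) * 2 = Nat.card K := by
    rw [← (mk.comp K.subtype).ker.card_mul_index, Subgroup.index_ker, MonoidHom.range_comp,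
      Subgroup.range_subtype, mul_comm]
    congr 1
    have hker : (mk.comp K.subtype).ker = (Subgroup.zpowers zC).subgroupOf K := by
      ext a; simp [mk, MonoidHom.mem_ker, Subgroup.mem_subgroupOf]
    rw [hker, Nat.card_congr (Subgroup.subgroupOfEquivOfLe hzK).toEquiv, Nat.card_zpowers]
    show 2 = orderOf zC
    exact D.z_ord.symm.trans (Subgroup.orderOf_coe zC)
  have hKC : Nat.card C ≤ Nat.card K * Nat.card (K.map mk) := by
    rw [← K.card_mul_index, Subgroup.index_ker]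
    exact Nat.mul_le_mul_left _ (Subgroup.card_le_of_le hrange)
  set K' := K.map C.subtype with hK'
  have hK'card : Nat.card K' = Nat.card K :=
    (Nat.card_congr (K.equivMapOfInjective _ Subtype.val_injective).toEquiv).symm
  have hK'le : K' ≤ D.E := (Subgroup.map_subtype_le _).trans inf_le_left
  have huK : ∀ a ∈ K', u * a * u⁻¹ = a ∨ u * a * u⁻¹ = a * z := by
    rintro _ ⟨a, ha, rfl⟩
    have h1 : mk a * mk (cu a) = 1 := ha
    rw [← map_mul, QuotientGroup.mk'_apply, QuotientGroup.eq_one_iff, hz2] at h1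
    show u * (a : G) * u⁻¹ = a ∨ u * (a : G) * u⁻¹ = a * z
    rcases D.sq _ a.2.1 with hs | hs <;> rcases h1 with h1 | h1 <;>
      simp only [Subgroup.coe_mul, cu] at h1
    · left; exact mul_left_cancel (a := (a : G)) (h1.trans hs.symm)
    · right
      exact mul_left_cancel (a := (a : G)) (by rw [h1, ← mul_assoc, hs, one_mul])
    · right
      exact mul_left_cancel (a := (a : G)) (by rw [h1, ← mul_assoc, hs, D.z_sq])
    · left; exact mul_left_cancel (a := (a : G)) (h1.trans hs.symm)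
  set Dd := K' ⊓ Subgroup.centralizer ({u} : Set G) with hDd
  have hhalf : Nat.card K' ≤ 2 * Nat.card Dd := D.card_le_two_mul hK'le huK
  have hCk : 128 ≤ Nat.card C := by
    rw [hk]; exact Nat.pow_le_pow_right (n := 2) (i := 7) (by norm_num) (by omega)
  have hDp : IsPGroup 2 Dd := D.isTwo.to_le (inf_le_left.trans hK'le)
  have hDY : Dd ≤ Subgroup.centralizer ({u} : Set G) ⊓ Y := fun a ha =>
    ⟨ha.2, ((Subgroup.map_subtype_le _) ha.1).2⟩
  by_cases huE : u ∈ D.E
  · have hall : K = ⊤ := by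
      rw [eq_top_iff]
      intro a _
      show mk a * mk (cu a) = 1
      have h1 : mk (cu a) = mk a := by
        rw [QuotientGroup.mk'_eq_mk']
        rcases D.conj_cases huE a.2.1 with h' | h'
        · exact ⟨1, one_mem _, Subtype.ext (by simpa [cu] using h')⟩
        · refine ⟨zC, Subgroup.mem_zpowers _, Subtype.ext ?_⟩
          show u * a * u⁻¹ * z = a
          rw [h', mul_assoc, D.z_sq, mul_one]
      rw [h1, hmk2]
    rw [hall, Subgroup.card_top] at hK'card
    exact hbig Dd hDp (by omega) u huY hu2 huz hDY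
  · have h16 : 16 ≤ Nat.card K := by
      by_contra h
      have h1 : Nat.card (K.map mk) ≤ 7 := by omega
      have := Nat.mul_le_mul (show Nat.card K ≤ 15 by omega) h1
      omega
    have hzp : IsPGroup 2 (Subgroup.zpowers u) :=
      IsPGroup.of_card (n := 1) (by rw [Nat.card_zpowers, hu2, pow_one])
    have hnorm : Subgroup.zpowers u ≤ Subgroup.normalizer (Dd : Set G) := by
      rw [Subgroup.zpowers_le]
      exact Subgroup.mem_normalizer_fintype fun a ha => by
        rw [← Subgroup.mem_centralizer_singleton_iff.1 ha.2, mul_inv_cancel_right]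
        exact ha
    refine hbig (Subgroup.zpowers u ⊔ Dd) (hzp.to_sup_of_normal_right' hDp hnorm) ?_ u huY hu2 huz
      (sup_le ((Subgroup.zpowers_le).2 ⟨Subgroup.mem_centralizer_singleton_iff.2 rfl, huY⟩) hDY)
    have := two_mul_card_le (le_sup_right : Dd ≤ Subgroup.zpowers u ⊔ Dd)
      (Subgroup.mem_sup_left (Subgroup.mem_zpowers u)) fun h' => huE (hK'le h'.1)
    omega

end HData

/-- The centraliser in `C(z)` of a subgroup of order seven. -/
theorem card_cent_z_seven (hJ : Cfsg.IsOfJankoFourTypeAt z) (S : Subgroup G)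
    (hS : Nat.card ↥S = 7) (hSz : S ≤ Subgroup.centralizer ({z} : Set G))
    (ht : ∃ t ∈ Subgroup.centralizer (S : Set G), orderOf t = 2 ∧ ¬ IsConj z t)
    (hcard : ∀ t ∈ Subgroup.centralizer (S : Set G), orderOf t = 2 → ¬ IsConj z t →
      Nat.card ↥(Subgroup.centralizer ({t} : Set G) ⊓ Subgroup.centralizer (S : Set G)) = 56) :
    Nat.card ↥(Subgroup.centralizer ({z} : Set G) ⊓ Subgroup.centralizer (S : Set G)) = 84 ∧
    ∃ R : Subgroup G, Nat.card ↥R = 3 ∧
      R ≤ Subgroup.centralizer ({z} : Set G) ⊓ Subgroup.centralizer (S : Set G) ∧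
      Subgroup.centralizer ({z} : Set G) ⊓ Subgroup.centralizer (S : Set G) ≤
        Subgroup.normalizer (R : Set G) := by
  haveI : Fact (Nat.Prime 3) := ⟨by norm_num⟩
  obtain ⟨D⟩ := exists_hdata hJ
  obtain ⟨k, hk, hk'⟩ := D.card_cases hSz hS
  have hk7 := D.small_case hSz hS (seven_cent_z hJ) ht hcard hk
  obtain rfl : k = 1 := by omega
  rw [pow_one] at hk
  set J := D.N ⊓ Subgroup.centralizer (S : Set G) with hJdef
  have hJ6 : Nat.card J = 6 := by rw [D.card_N_cent hSz hS, hk]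
  refine ⟨by rw [D.card_X hSz hS, hJ6], ?_⟩
  obtain ⟨⟨r, hrJ⟩, hr⟩ := exists_prime_orderOf_dvd_card' (G := J) 3 (by rw [hJ6]; norm_num)
  rw [Subgroup.orderOf_mk] at hr
  set R := Subgroup.zpowers r with hRdef
  have hR : Nat.card R = 3 := by rw [Nat.card_zpowers, hr]
  have hRJ : R ≤ J := Subgroup.zpowers_le.2 hrJ
  refine ⟨R, hR, fun a ha => ⟨D.NH (hRJ ha).1, (hRJ ha).2⟩, le_normalizer_of_conj fun x hx a ha => ?_⟩
  have hidx : (R.subgroupOf J).index = 2 := by
    have h1 := (R.subgroupOf J).card_mul_index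
    rw [Nat.card_congr (Subgroup.subgroupOfEquivOfLe hRJ).toEquiv, hR, hJ6] at h1
    omega
  have hcube : ∀ a : J, (a : G) ^ 3 = 1 → (a : G) ∈ R := fun a h3 => by
    have h1 : a * a ∈ R.subgroupOf J := Subgroup.mul_self_mem_of_index_two hidx a
    have h2 := mul_mem h1 h1
    have e : (a : G) * a * ((a : G) * a) = a := by
      calc (a : G) * a * ((a : G) * a) = (a : G) ^ 3 * a := by simp [pow_succ, mul_assoc]
        _ = a := by rw [h3, one_mul]
    simpa [Subgroup.mem_subgroupOf, e] using h2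
  have ha3 : a ^ 3 = 1 := by
    obtain ⟨i, rfl⟩ := Subgroup.mem_zpowers_iff.1 ha
    have h3 : r ^ 3 = 1 := by rw [← hr, pow_orderOf_eq_one]
    rw [← zpow_natCast, ← zpow_mul, mul_comm, zpow_mul, zpow_natCast, h3, one_zpow]
  refine hcube ⟨x * a * x⁻¹, conj_mem_of_normalizer (D.nN hx.1) (hRJ ha).1,
    Subgroup.mul_mem _ (Subgroup.mul_mem _ hx.2 (hRJ ha).2) (Subgroup.inv_mem _ hx.2)⟩ ?_
  show (x * a * x⁻¹) ^ 3 = 1
  rw [conj_pow, ha3, mul_one, mul_inv_cancel]

end CfsgLib.Spor.JankoFourSeven
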