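import Cfsg.Agent.Lib.KnownA.IndexSix

/-!
A group of order 120 in which no involution centralises an element of order five is the symmetric
group of degree five.
-/

set_option autoImplicit false
set_option linter.style.haveILetI false

namespace CfsgLib.Spor.JankoFourSeven

/-- A group of order `120` with no involution centralised by an element of order five. -/
theorem nonempty_perm_five {I : Type*} [Group I] [Finite I] (hI : Nat.card I = 120)
    (h : ∀ x : I, orderOf x = 2 → ¬ 5 ∣ Nat.card ↥(Subgroup.centralizer ({x} : Set I))) :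
    Nonempty (I ≃* Equiv.Perm (Fin 5)) := by
  classical
  haveI : Fact (Nat.Prime 5) := ⟨by norm_num⟩
  haveI : Fact (Nat.Prime 2) := ⟨by norm_num⟩
  have hP5 : ∀ P : Sylow 5 I, Nat.card (P : Subgroup I) = 5 := fun P => by
    rw [Sylow.card_eq_multiplicity, hI, show (120 : ℕ) = 5 ^ 1 * 24 by norm_num,
      Nat.factorization_mul (by norm_num) (by norm_num), Finsupp.add_apply,
      Nat.Prime.factorization_pow (by norm_num), Finsupp.single_eq_same,
      Nat.factorization_eq_zero_of_not_dvd (by norm_num)]
    norm_num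
  -- centralisers of Sylow 5-subgroups are odd
  have hodd : ∀ P : Sylow 5 I, ¬ 2 ∣ Nat.card (Subgroup.centralizer ((P : Subgroup I) : Set I)) := by
    intro P h2
    obtain ⟨⟨x, hx⟩, hxo⟩ := exists_prime_orderOf_dvd_card'
      (G := Subgroup.centralizer ((P : Subgroup I) : Set I)) 2 h2
    rw [Subgroup.orderOf_mk] at hxo
    refine h x hxo ((hP5 P) ▸ Subgroup.card_dvd_of_le fun p hp => ?_)
    exact Subgroup.mem_centralizer_singleton_iff.2 ((Subgroup.mem_centralizer_iff.1 hx) p hp)
  obtain ⟨P₀⟩ := (inferInstance : Nonempty (Sylow 5 I))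
  -- six Sylow 5-subgroups
  have hn : Nat.card (Sylow 5 I) = 6 := by
    have h1 : Nat.card (Sylow 5 I) ∣ 24 := by
      have := Sylow.card_dvd_index P₀
      have hmul := (P₀ : Subgroup I).card_mul_index
      rw [hP5, hI] at hmul
      rwa [show (P₀ : Subgroup I).index = 24 by omega] at this
    have h2 : Nat.card (Sylow 5 I) % 5 = 1 := card_sylow_modEq_one 5 I
    have hle : Nat.card (Sylow 5 I) ≤ 24 := Nat.le_of_dvd (by norm_num) h1
    have h16 : Nat.card (Sylow 5 I) = 1 ∨ Nat.card (Sylow 5 I) = 6 := by
      interval_cases hc : Nat.card (Sylow 5 I) <;> omega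
    rcases h16 with h16 | h16
    · exfalso
      have htop : Subgroup.normalizer ((P₀ : Subgroup I) : Set I) = ⊤ := by
        have := Sylow.card_eq_index_normalizer P₀
        rw [h16] at this
        exact Subgroup.index_eq_one.1 this.symm
      set φ := Subgroup.normalizerMonoidHom (P₀ : Subgroup I) with hφ
      haveI : IsCyclic (P₀ : Subgroup I) := isCyclic_of_prime_card (hP5 P₀)
      have hr : Nat.card φ.range ∣ 4 := by
        have hA : Nat.card (MulAut (P₀ : Subgroup I)) = 4 := by
          rw [IsCyclic.card_mulAut, hP5, Nat.totient_prime (by norm_num)]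
        exact hA ▸ Subgroup.card_subgroup_dvd_card _
      have hk := φ.ker.card_mul_index
      rw [Subgroup.index_ker, Nat.card_congr (Subgroup.topEquiv).toEquiv |> fun e =>
        (show Nat.card (Subgroup.normalizer ((P₀ : Subgroup I) : Set I)) = 120 by
          rw [htop, e, hI])] at hk
      have hker : Nat.card φ.ker = Nat.card (Subgroup.centralizer ((P₀ : Subgroup I) : Set I)) := by
        rw [hφ, Subgroup.normalizerMonoidHom_ker]
        exact Nat.card_congr (Subgroup.subgroupOfEquivOfLe
          (Subgroup.centralizer_le_normalizer (P₀ : Set I))).toEquiv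
      have h4 : Nat.card φ.range ≤ 4 := Nat.le_of_dvd (by norm_num) hr
      refine hodd P₀ ?_
      rw [← hker]
      interval_cases hc : Nat.card φ.range <;> omega
    · exact h16
  haveI : Fintype (Sylow 5 I) := Fintype.ofFinite _
  let φ := MulAction.toPermHom I (Sylow 5 I)
  -- the action is faithful
  have hK : φ.ker = ⊥ := by
    have hnorm : ∀ (k : I), k ∈ φ.ker → ∀ P : Sylow 5 I,
        k ∈ Subgroup.normalizer ((P : Subgroup I) : Set I) := fun k hk P =>
      (Sylow.smul_eq_iff_mem_normalizer).1 (Equiv.congr_fun (MonoidHom.mem_ker.1 hk) P)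
    have h5 : ¬ 5 ∣ Nat.card φ.ker := by
      intro h5
      obtain ⟨⟨k, hk⟩, hko⟩ := exists_prime_orderOf_dvd_card' (G := φ.ker) 5 h5
      rw [Subgroup.orderOf_mk] at hko
      have hmem : ∀ P : Sylow 5 I, k ∈ P := fun P => by
        have hle : Subgroup.zpowers k ≤ Subgroup.normalizer (P : Set I) :=
          Subgroup.zpowers_le.2 (hnorm k hk P)
        have hp : IsPGroup 5 (Subgroup.zpowers k) := IsPGroup.of_card (n := 1) (by
          rw [Nat.card_zpowers, hko, pow_one])
        have := IsPGroup.inf_normalizer_sylow hp P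
        rw [inf_eq_left.2 hle] at this
        exact (this.le (Subgroup.mem_zpowers k)).2
      have hall : ∀ P : Sylow 5 I, (P : Subgroup I) = Subgroup.zpowers k := fun P =>
        (Subgroup.eq_of_le_of_card_ge (Subgroup.zpowers_le.2 (hmem P))
          (by rw [hP5, Nat.card_zpowers, hko])).symm
      have h1 : Nat.card (Sylow 5 I) ≤ 1 := by
        haveI : Subsingleton (Sylow 5 I) :=
          ⟨fun P Q => Sylow.ext ((hall P).trans (hall Q).symm)⟩
        exact Finite.card_le_one_iff_subsingleton.2 inferInstance
      omega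
    have hle : φ.ker ≤ Subgroup.centralizer ((P₀ : Subgroup I) : Set I) := fun k hk =>
      Subgroup.mem_centralizer_iff.2 fun p hp => by
        have hc : k * p * k⁻¹ * p⁻¹ ∈ φ.ker ⊓ (P₀ : Subgroup I) := by
          refine ⟨?_, (P₀ : Subgroup I).mul_mem
            ((Subgroup.mem_normalizer_iff.1 (hnorm k hk P₀) p).1 hp)
            ((P₀ : Subgroup I).inv_mem hp)⟩
          rw [show k * p * k⁻¹ * p⁻¹ = k * (p * k⁻¹ * p⁻¹) by group]
          exact mul_mem hk ((MonoidHom.normal_ker φ).conj_mem _ (inv_mem hk) p)
        have hb : φ.ker ⊓ (P₀ : Subgroup I) = ⊥ := Subgroup.inf_eq_bot_of_coprime (by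
          rw [hP5]
          exact ((Nat.Prime.coprime_iff_not_dvd (by norm_num)).2 h5).symm)
        rw [hb, Subgroup.mem_bot, mul_inv_eq_one, mul_inv_eq_iff_eq_mul] at hc
        exact hc.symm
    have hd : Nat.card φ.ker ∣ 5 := by
      have h1 : Nat.card φ.ker ∣ Nat.card (Subgroup.centralizer ((P₀ : Subgroup I) : Set I)) :=
        Subgroup.card_dvd_of_le hle
      have h2 : Nat.card (Subgroup.centralizer ((P₀ : Subgroup I) : Set I)) ∣ 20 := by
        have hm := (Subgroup.normalizer ((P₀ : Subgroup I) : Set I)).card_mul_index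
        have hi : (Subgroup.normalizer ((P₀ : Subgroup I) : Set I)).index = 6 :=
          hn ▸ (Sylow.card_eq_index_normalizer P₀).symm
        rw [hi, hI] at hm
        have := Subgroup.card_dvd_of_le
          (Subgroup.centralizer_le_normalizer ((P₀ : Subgroup I) : Set I))
        rwa [show Nat.card (Subgroup.normalizer ((P₀ : Subgroup I) : Set I)) = 20 by omega] at this
      have h3 : Nat.Coprime (Nat.card φ.ker) 4 :=
        Nat.Coprime.pow_right 2 ((Nat.Prime.coprime_iff_not_dvd (by norm_num)).2
          fun h2 => hodd P₀ (h2.trans h1)).symm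
      exact h3.dvd_of_dvd_mul_right (by simpa using h1.trans h2)
    refine Subgroup.eq_bot_of_card_eq _ ?_
    rcases (Nat.dvd_prime (by norm_num)).1 hd with h1 | h1
    · exact h1
    · exact absurd (by rw [h1]) h5
  have hinj : Function.Injective φ := (MonoidHom.ker_eq_bot_iff _).1 hK
  let e := MonoidHom.ofInjective hinj
  have h6 : Fintype.card (Sylow 5 I) = 6 := by rw [← Nat.card_eq_fintype_card, hn]
  obtain ⟨ι, hι, hr⟩ := CfsgLib.KnownA.Six.exists_hom h6 φ.range (by
    have h1 := φ.range.card_mul_index
    rw [← Nat.card_congr e.toEquiv, hI, Nat.card_perm, hn,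
      show Nat.factorial 6 = 720 from rfl] at h1
    omega)
  exact ⟨e.trans ((MulEquiv.subgroupCongr hr.symm).trans (MonoidHom.ofInjective hι).symm)⟩

end CfsgLib.Spor.JankoFourSeven
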