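import Cfsg.Agent.Lib.Spor.JankoFourSeven.Main
import Cfsg.Agent.Lib.Spor.JankoFourSeven.HSide
import Cfsg.Agent.Lib.Spor.JankoFourSeven.Recog

/-!
The seven-local structure of a group of Janko-four type, given the subgroup of order `2^11`.
-/

set_option autoImplicit false

namespace CfsgLib.Spor.JankoFourSeven

open Cfsg CfsgLib.Spor CfsgLib.Spor.JankoFourCentral

universe u v

theorem seven_local_of_std {G : Type u} [Group G] [Finite G] {z : G} {A : Type v} [AddCommGroup A]
    {D : Eleven z A} (hS : Std D) (S : Subgroup G) (hScard : Nat.card ↥S = 7)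
    (hSz : S ≤ Subgroup.centralizer ({z} : Set G)) :
    ¬ (49 ∣ Nat.card G) ∧
    (∃ I : Subgroup G, Cfsg.IsInternalDirectProduct S I (Subgroup.centralizer (S : Set G)) ∧
      Nonempty (↥I ≃* Equiv.Perm (Fin 5))) ∧
    Nat.card ↥(Subgroup.normalizer (S : Set G)) = 3 * Nat.card ↥(Subgroup.centralizer (S : Set G)) ∧
    Nat.card ↥(Subgroup.normalizer (S : Set G)) = 2 ^ 3 * 3 ^ 2 * 5 * 7 :=
  seven_local hS (seven_cent_z hS.hJ) (fun S hS' hz ht hc => card_cent_z_seven hS.hJ S hS' hz ht hc)
    (fun _ hI h => nonempty_perm_five hI h) S hScard hSz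

end CfsgLib.Spor.JankoFourSeven
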