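import Cfsg.Agent.Lib.Spor.JankoFourSeven.Points
import Cfsg.Agent.Lib.Spor.JankoFourCentral.Central
import Cfsg.Agent.Lib.Spor.JankoFourCentral.AutM22

/-!
The normaliser of the elementary abelian subgroup of order `2^11` of a group of Janko-four type
mapped onto `M24`; duad vectors and their centralisers.
-/

set_option autoImplicit false
set_option linter.unusedSectionVars false

namespace CfsgLib.Spor.JankoFourSeven

open Cfsg CfsgLib.Spor CfsgLib.Spor.JankoFourCentral
open scoped Pointwise symmDiff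

universe u v

variable {G : Type u} [Group G] [Finite G] {z : G} {A : Type v} [AddCommGroup A]

/-- the hypotheses on the subgroup of order `2^11` -/
structure Std (D : Eleven z A) : Prop where
  hJ : Cfsg.IsOfJankoFourTypeAt z
  fuse : ∀ x ∈ twoCoreOfCentralizer z, x * x = 1 → ∃ g : G, g * x * g⁻¹ ∈ D.V
  cent : ∀ t ∈ D.V, t ≠ 1 → ¬ IsConj z t →
    Subgroup.centralizer ({t} : Set G) ≤ Subgroup.normalizer (D.V : Set G)

/-- two subgroups of order seven of a group with `|H|` not divisible by `49` are conjugate in it -/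
theorem exists_conj_seven {H S T : Subgroup G} (h49 : ¬ 49 ∣ Nat.card H) (hSH : S ≤ H) (hTH : T ≤ H)
    (hS : Nat.card S = 7) (hT : Nat.card T = 7) :
    ∃ c ∈ H, S.map (MulAut.conj c).toMonoidHom = T := by
  haveI : Fact (Nat.Prime 7) := ⟨by norm_num⟩
  have hS' : Nat.card (S.subgroupOf H) = 7 := by
    rw [Nat.card_congr (Subgroup.subgroupOfEquivOfLe hSH).toEquiv, hS]
  have hT' : Nat.card (T.subgroupOf H) = 7 := by
    rw [Nat.card_congr (Subgroup.subgroupOfEquivOfLe hTH).toEquiv, hT]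
  have h7 : 7 ∣ Nat.card H := hS' ▸ Subgroup.card_subgroup_dvd_card _
  have hf : (Nat.card H).factorization 7 = 1 := by
    apply le_antisymm
    · by_contra h
      exact h49 ((show (49 : ℕ) = 7 ^ 2 by norm_num) ▸ (Nat.Prime.pow_dvd_iff_le_factorization
        (by norm_num) Nat.card_pos.ne').2 (by omega))
    · exact (Nat.Prime.pow_dvd_iff_le_factorization (by norm_num) Nat.card_pos.ne').1
        (by rwa [pow_one])
  let P : Sylow 7 H := Sylow.ofCard (S.subgroupOf H) (by rw [hS', hf, pow_one])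
  let R : Sylow 7 H := Sylow.ofCard (T.subgroupOf H) (by rw [hT', hf, pow_one])
  obtain ⟨c, hc⟩ := MulAction.exists_smul_eq H P R
  refine ⟨c, c.2, ?_⟩
  have h1 : ((c • P : Sylow 7 H) : Subgroup H) = T.subgroupOf H := by
    rw [hc]; exact Sylow.coe_ofCard _ _
  rw [Sylow.coe_subgroup_smul, Sylow.coe_ofCard] at h1
  ext x
  constructor
  · rintro ⟨a, ha, rfl⟩
    have : (MulAut.conj c • (⟨a, hSH ha⟩ : H)) ∈ T.subgroupOf H := by
      rw [← h1]; exact Subgroup.smul_mem_pointwise_smul _ _ _ ha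
    exact this
  · intro hx
    have : (⟨x, hTH hx⟩ : H) ∈ MulAut.conj c • S.subgroupOf H := by rw [h1]; exact hx
    rw [Subgroup.mem_pointwise_smul_iff_inv_smul_mem] at this
    refine ⟨(c : G)⁻¹ * x * c, ?_, by simp [mul_assoc]⟩
    simpa [Subgroup.mem_subgroupOf, MulAut.smul_def] using this

variable (D : Eleven z A)

open Classical in
/-- the image in `M24` of an element normalising the subgroup -/
noncomputable def pr (g : G) : M24 :=
  if h : g ∈ Subgroup.normalizer (D.V : Set G) then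
    Classical.choose (Classical.choose_spec (D.decompose h)).2 else 1

theorem eq_pr {g : G} (hg : g ∈ Subgroup.normalizer (D.V : Set G)) :
    ∃ v ∈ D.V, g = v * D.L (pr D g) := by
  rw [pr, dif_pos hg]
  exact ⟨_, (Classical.choose_spec (D.decompose hg)).1,
    Classical.choose_spec (Classical.choose_spec (D.decompose hg)).2⟩

theorem V_le_normalizer : D.V ≤ Subgroup.normalizer (D.V : Set G) := Subgroup.le_normalizer

theorem vL_mem {v : G} (hv : v ∈ D.V) (σ : M24) :
    v * D.L σ ∈ Subgroup.normalizer (D.V : Set G) :=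
  mul_mem (V_le_normalizer D hv) (D.L_mem σ)

theorem eq_of_vL {v w : G} (hv : v ∈ D.V) (hw : w ∈ D.V) {σ τ : M24}
    (h : v * D.L σ = w * D.L τ) : σ = τ := by
  have h1 : w⁻¹ * v = D.L τ * (D.L σ)⁻¹ := by
    rw [eq_mul_inv_iff_mul_eq, mul_assoc, h, inv_mul_cancel_left]
  have h2 : D.L (τ * σ⁻¹) ∈ D.K ⊓ D.V := by
    refine ⟨D.L_mem_K _, ?_⟩
    rw [D.L_mul, D.L_inv, ← h1]
    exact D.V.mul_mem (D.V.inv_mem hw) hv
  rw [D.inf, Subgroup.mem_bot, ← D.L_one] at h2
  exact (mul_inv_eq_one.1 (D.L_inj h2)).symm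

theorem pr_vL {v : G} (hv : v ∈ D.V) (σ : M24) : pr D (v * D.L σ) = σ := by
  obtain ⟨w, hw, e⟩ := eq_pr D (vL_mem D hv σ)
  exact (eq_of_vL D hv hw e).symm

theorem pr_L (σ : M24) : pr D (D.L σ) = σ := by
  simpa using pr_vL D (one_mem D.V) σ

theorem pr_mem {v : G} (hv : v ∈ D.V) : pr D v = 1 := by
  simpa [D.L_one] using pr_vL D hv 1

theorem pr_one : pr D (1 : G) = 1 := pr_mem D (one_mem _)

theorem pr_mul {g h : G} (hg : g ∈ Subgroup.normalizer (D.V : Set G))
    (hh : h ∈ Subgroup.normalizer (D.V : Set G)) : pr D (g * h) = pr D g * pr D h := by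
  obtain ⟨v, hv, e⟩ := eq_pr D hg
  obtain ⟨w, hw, e'⟩ := eq_pr D hh
  have hw' : D.L (pr D g) * w * (D.L (pr D g))⁻¹ ∈ D.V :=
    (Subgroup.mem_normalizer_iff.1 (D.L_mem _) w).1 hw
  have : g * h = v * (D.L (pr D g) * w * (D.L (pr D g))⁻¹) * D.L (pr D g * pr D h) := by
    rw [D.L_mul]
    conv_lhs => rw [e, e']
    group
  rw [this, pr_vL D (mul_mem hv hw')]

theorem pr_inv {g : G} (hg : g ∈ Subgroup.normalizer (D.V : Set G)) :
    pr D g⁻¹ = (pr D g)⁻¹ := by
  refine eq_inv_of_mul_eq_one_left ?_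
  rw [← pr_mul D (inv_mem hg) hg, inv_mul_cancel, pr_one]

theorem mem_V_of_pr {g : G} (hg : g ∈ Subgroup.normalizer (D.V : Set G)) (h : pr D g = 1) :
    g ∈ D.V := by
  obtain ⟨v, hv, e⟩ := eq_pr D hg
  rw [h, D.L_one, mul_one] at e
  rwa [e]

/-- a duad vector -/
def du (a b : GolayPt) : G := D.ι (D.C.q a + D.C.q b)

theorem du_self (a : GolayPt) : du D a a = 1 := by rw [du, D.C.two, D.ι_zero]

theorem du_symm (a b : GolayPt) : du D a b = du D b a := by rw [du, du, add_comm]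

theorem du_mul (a b c : GolayPt) : du D a b * du D b c = du D a c := by
  rw [du, du, du, ← D.ι_add]
  congr 1
  rw [add_assoc, ← add_assoc (D.C.q b), D.C.two, zero_add]

theorem du_sq (a b : GolayPt) : du D a b * du D a b = 1 := by
  rw [du, ← D.ι_add, D.C.two, D.ι_zero]

theorem du_mem (a b : GolayPt) : du D a b ∈ D.V := D.ι_mem _

theorem du_eq_S {a b : GolayPt} (h : a ≠ b) : du D a b = D.ι (D.C.S {a, b}) := by
  rw [du, D.C.S_pair h]

theorem du_ne_one {a b : GolayPt} (h : a ≠ b) : du D a b ≠ 1 := by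
  rw [du_eq_S D h, ← D.ι_zero]
  intro e
  have := D.C.S_inj (s := {a, b}) (t := ∅) (by simp [Finset.card_pair h])
    (by simp [Finset.card_pair h]) (D.ι_inj e)
  simp at this

theorem du_not_conj {a b : GolayPt} (h : a ≠ b) : ¬ IsConj z (du D a b) := by
  refine (D.duad _ fun e => du_ne_one D h (by rw [du, e, D.ι_zero])).1 ?_
  exact ⟨a, b, h, rfl⟩

theorem du_inj {a b c d : GolayPt} (h : a ≠ b) (h' : c ≠ d) (e : du D a b = du D c d) :
    ({a, b} : Finset GolayPt) = {c, d} := by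
  rw [du_eq_S D h, du_eq_S D h'] at e
  exact D.C.S_inj (by rw [Finset.card_pair h, Finset.card_pair h']; decide)
    (by simp [Finset.card_pair h, Finset.card_pair h']) (D.ι_inj e)

theorem conj_vec {g : G} (hg : g ∈ Subgroup.normalizer (D.V : Set G)) {s : Finset GolayPt}
    (hs : Even s.card) :
    g * D.ι (D.C.S s) * g⁻¹ = D.ι (D.C.S ((pr D g : P24) • s)) := by
  obtain ⟨v, hv, e⟩ := eq_pr D hg
  obtain ⟨a, rfl⟩ := (D.mem_V v).1 hv
  calc g * D.ι (D.C.S s) * g⁻¹
      = D.ι a * (D.L (pr D g) * D.ι (D.C.S s) * (D.L (pr D g))⁻¹) * (D.ι a)⁻¹ := by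
        conv_lhs => rw [e]
        group
    _ = D.ι (D.C.S ((pr D g : P24) • s)) := by
      rw [D.L_conj _ hs, D.ι_comm, mul_inv_cancel_right]

theorem du_conj {g : G} (hg : g ∈ Subgroup.normalizer (D.V : Set G)) (a b : GolayPt) :
    g * du D a b * g⁻¹ = du D ((pr D g : P24) a) ((pr D g : P24) b) := by
  by_cases h : a = b
  · subst h; rw [du_self, du_self]; group
  rw [du_eq_S D h, du_eq_S D ((pr D g : P24).injective.ne h), conj_vec D hg
    (by rw [Finset.card_pair h]; decide)]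
  congr 2
  rw [Finset.smul_finset_insert, Finset.smul_finset_singleton]
  rfl

theorem du_commute_iff {g : G} (hg : g ∈ Subgroup.normalizer (D.V : Set G)) {a b : GolayPt}
    (h : a ≠ b) :
    g * du D a b = du D a b * g ↔
      ({(pr D g : P24) a, (pr D g : P24) b} : Finset GolayPt) = {a, b} := by
  rw [← mul_inv_eq_iff_eq_mul, du_conj D hg]
  constructor
  · exact du_inj D ((pr D g : P24).injective.ne h) h
  · intro e
    rw [du_eq_S D h, du_eq_S D ((pr D g : P24).injective.ne h), e]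

theorem pair_cases {σ : P24} {a b : GolayPt} (h : a ≠ b)
    (e : ({σ a, σ b} : Finset GolayPt) = {a, b}) :
    (σ a = a ∧ σ b = b) ∨ (σ a = b ∧ σ b = a) := by
  have ha : σ a ∈ ({a, b} : Finset GolayPt) := e ▸ Finset.mem_insert_self _ _
  have hb : σ b ∈ ({a, b} : Finset GolayPt) :=
    e ▸ Finset.mem_insert_of_mem (Finset.mem_singleton_self _)
  simp only [Finset.mem_insert, Finset.mem_singleton] at ha hb
  have hne : σ a ≠ σ b := σ.injective.ne h
  rcases ha with ha | ha <;> rcases hb with hb | hb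
  · exact absurd (ha.trans hb.symm) hne
  · exact Or.inl ⟨ha, hb⟩
  · exact Or.inr ⟨ha, hb⟩
  · exact absurd (ha.trans hb.symm) hne

variable {D} (hS : Std D)
include hS

theorem z_order : orderOf z = 2 := hS.hJ.choose_spec.1

theorem cent_du {a b : GolayPt} (h : a ≠ b) {g : G} (hg : g * du D a b = du D a b * g) :
    g ∈ Subgroup.normalizer (D.V : Set G) :=
  hS.cent _ (du_mem D a b) (du_ne_one D h) (du_not_conj D h)
    (Subgroup.mem_centralizer_singleton_iff.2 hg)

theorem cent_du_pair {a b : GolayPt} (h : a ≠ b) {g : G} (hg : g * du D a b = du D a b * g) :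
    ((pr D g : P24) a = a ∧ (pr D g : P24) b = b) ∨
      ((pr D g : P24) a = b ∧ (pr D g : P24) b = a) :=
  pair_cases h ((du_commute_iff D (cent_du hS h hg) h).1 hg)

/-- every involution is conjugate to `z` or to a given duad vector -/
theorem invol_cases {a b : GolayPt} (h : a ≠ b) {x : G} (hx : orderOf x = 2) :
    IsConj z x ∨ IsConj (du D a b) x := by
  have hx2 : x * x = 1 := by rw [← pow_two, ← hx, pow_orderOf_eq_one]
  obtain ⟨g, hg⟩ := D.exists_conj_mem (z_order hS) (D.E₀_nonabelian hS.hJ) hS.fuse hx2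
  have hx1 : g * x * g⁻¹ ≠ 1 := by
    rw [Ne, conj_eq_one_iff]
    rintro rfl
    simp at hx
  by_cases hz : IsConj z x
  · exact Or.inl hz
  right
  have hz' : ¬ IsConj z (g * x * g⁻¹) := fun h' => hz (h'.trans (isConj_iff.2 ⟨g, rfl⟩).symm)
  obtain ⟨c, hc⟩ := (D.mem_V _).1 hg
  have hc0 : c ≠ 0 := fun e => hx1 (by rw [← hc, e, D.ι_zero])
  have hd : c ∈ D.C.duads := (D.duad c hc0).2 (by rw [hc]; exact hz')
  obtain ⟨k, hk⟩ := D.acts.trans_duads (show D.C.q a + D.C.q b ∈ D.C.duads from ⟨a, b, h, rfl⟩) hd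
  have := D.ι_act k (D.C.q a + D.C.q b)
  rw [hk, hc] at this
  exact (isConj_iff.2 ⟨(k : G), this.symm⟩).trans (isConj_iff.2 ⟨g, rfl⟩).symm

theorem card_cent_du {a b : GolayPt} (h : a ≠ b) :
    Nat.card (Subgroup.centralizer ({du D a b} : Set G)) = 2 ^ 11 * (2 * 443520) := by
  have ho : orderOf (du D a b) = 2 :=
    orderOf_eq_prime (by rw [pow_two]; exact du_sq D a b) (du_ne_one D h)
  obtain ⟨V, K, hV, hK, hN, -, hc, hinf, hsup, ⟨e⟩⟩ := D.centralizer_structure hS.hJ hS.fuse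
    hS.cent (Y := ↥(Cfsg.M24 ⊓ MulAction.stabilizer (Equiv.Perm Cfsg.GolayPt)
      ({none, some 0} : Set Cfsg.GolayPt))) ⟨MulEquiv.refl _⟩ _ ho (du_not_conj D h)
  have hKc : Nat.card K = 2 * 443520 := by rw [Nat.card_congr e.toEquiv, natCard_duadStab]
  rw [← hc, ← hKc, ← Nat.card_prod]
  refine (Nat.card_eq_of_bijective
    (fun x : V × K => (⟨(x.1 : G) * x.2, mul_mem (hV x.1.2) (hK x.2.2)⟩ :
      ↥(Subgroup.centralizer ({du D a b} : Set G)))) ⟨?_, ?_⟩).symm
  · intro x y e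
    exact Subgroup.mul_injective_of_disjoint
      (disjoint_iff.2 (by rw [inf_comm]; exact hinf)) (congrArg Subtype.val e)
  · rintro ⟨g, hg⟩
    have : g ∈ (↑(V ⊔ K) : Set G) := by rw [sup_comm, hsup]; exact hg
    rw [Subgroup.coe_mul_of_right_le_normalizer_left _ _ (hK.trans hN)] at this
    obtain ⟨v, hv, k, hk, rfl⟩ := this
    exact ⟨(⟨v, hv⟩, ⟨k, hk⟩), rfl⟩

theorem seven_cent_du {a b : GolayPt} (h : a ≠ b) :
    ¬ 49 ∣ Nat.card (Subgroup.centralizer ({du D a b} : Set G)) := by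
  rw [card_cent_du hS h]; norm_num

end CfsgLib.Spor.JankoFourSeven
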