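import Cfsg.Agent.Lib.Spor.JankoFourSeven.KClass

/-!
The centraliser and normaliser of the subgroup of order seven inside the centraliser of a duad
vector.
-/

set_option autoImplicit false
set_option linter.unusedSectionVars false

namespace CfsgLib.Spor.JankoFourSeven

open Cfsg CfsgLib.Spor CfsgLib.Spor.JankoFourCentral
open scoped Pointwise symmDiff

/-- two distinct fixed points of an involution inverting the element of order seven lie in
different orbits, so there is no such involution fixing both points -/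
theorem Cfg.no_inverse (F : Cfg) {c : P24} (hc : c ∈ M24) (hinv : c * F.y * c⁻¹ = F.y⁻¹)
    (hp : c F.p = F.p) (hq : c F.q = F.q) : False := by
  classical
  have hinv' : c * F.y = F.y⁻¹ * c := by rw [← hinv]; group
  -- the element is an involution
  have hcy : (c * c) * F.y = F.y * (c * c) := by
    have h2 : c * F.y⁻¹ * c⁻¹ = F.y := by
      calc c * F.y⁻¹ * c⁻¹ = (c * F.y * c⁻¹)⁻¹ := by group
        _ = F.y := by rw [hinv, inv_inv]
    calc (c * c) * F.y = c * (c * F.y * c⁻¹) * c⁻¹ * (c * c) := by group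
      _ = F.y * (c * c) := by rw [hinv, h2]
  obtain ⟨i, hi⟩ := F.cent_pair (mul_mem hc hc) hcy
    (by rw [Equiv.Perm.mul_apply, hp, hp]) (by rw [Equiv.Perm.mul_apply, hq, hq])
  have hc2 : c * c = 1 := by
    have e1 : c * (F.y ^ i) * c⁻¹ = F.y ^ i := by rw [← hi]; group
    have e2 : c * (F.y ^ i) * c⁻¹ = (F.y⁻¹) ^ i := by
      rw [← hinv]; exact (map_pow (MulAut.conj c) F.y i).trans rfl
    have e3 : F.y ^ (2 * i) = 1 := by
      rw [two_mul, pow_add]
      conv_lhs => arg 1; rw [← e1, e2, inv_pow]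
      exact inv_mul_cancel _
    rw [← orderOf_dvd_iff_pow_eq_one, F.orderOf_y] at e3
    have h7 : 7 ∣ i := Nat.Coprime.dvd_of_dvd_mul_left (by norm_num) e3
    rw [hi, ← orderOf_dvd_iff_pow_eq_one, F.orderOf_y]
    exact h7
  have hc1 : c ≠ 1 := by
    rintro rfl
    simp at hinv
    have : F.y ^ 2 = 1 := by rw [pow_two]; nth_rewrite 1 [hinv]; exact inv_mul_cancel _
    rw [← orderOf_dvd_iff_pow_eq_one, F.orderOf_y] at this
    norm_num at this
  have hoct := invol_fix_octad hc (orderOf_eq_prime (by rw [pow_two]; exact hc2) hc1)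
    (fun h => h F.p hp)
  set C8 := Finset.univ.filter (fun x => c x = x) with hC8
  set X := C8 \ {F.p, F.q, F.r} with hX
  have hX5 : 5 ≤ X.card := by
    have h1 := Finset.le_card_sdiff ({F.p, F.q, F.r} : Finset GolayPt) C8
    have h2 : ({F.p, F.q, F.r} : Finset GolayPt).card ≤ 3 := Finset.card_le_three
    rw [card_octad hoct] at h1
    rw [hX]
    omega
  have hmem : ∀ x ∈ X, c x = x ∧ F.y x ≠ x := by
    intro x hx
    rw [hX, Finset.mem_sdiff] at hx
    simp only [Finset.mem_insert, Finset.mem_singleton, not_or] at hx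
    exact ⟨(Finset.mem_filter.1 hx.1).2, F.y_moves hx.2.1 hx.2.2.1 hx.2.2.2⟩
  have hpow : ∀ i : ℕ, c * F.y ^ i = (F.y⁻¹) ^ i * c := fun i => by
    rw [← hinv, conj_pow]; group
  have hdis : ∀ x ∈ X, ∀ x' ∈ X, x ≠ x' → Disjoint (F.orb x) (F.orb x') := by
    intro x hx x' hx' hne
    rw [Finset.disjoint_left]
    intro w hw hw'
    obtain ⟨i, rfl⟩ := F.exists_of_mem_orb hw
    obtain ⟨j, hj⟩ := F.exists_of_mem_orb hw'
    set m := 6 * i + j with hm
    have e : (F.y ^ m) x' = x := by
      rw [hm, pow_add, Equiv.Perm.mul_apply, hj, ← Equiv.Perm.mul_apply, ← pow_add,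
        show 6 * i + i = 7 * i by ring, pow_mul, F.y7, one_pow]
      rfl
    have e2 : ((F.y⁻¹) ^ m) x' = x := by
      have := congrArg c e
      rw [← Equiv.Perm.mul_apply, hpow, Equiv.Perm.mul_apply, (hmem x' hx').1, (hmem x hx).1] at this
      exact this
    rw [inv_pow, Equiv.Perm.inv_def, Equiv.symm_apply_eq] at e2
    have e3 : (F.y ^ (2 * m)) x' = x' := by
      rw [two_mul, pow_add, Equiv.Perm.mul_apply, e, ← e2]
    by_cases hd : 7 ∣ 2 * m
    · obtain ⟨k, hk⟩ := (Nat.Coprime.dvd_of_dvd_mul_left (by norm_num) hd : 7 ∣ m)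
      rw [hk, pow_mul, F.y7, one_pow] at e
      exact hne e.symm
    · exact (hmem x' hx').2 (F.pow_fixed hd e3)
  have hcard := Finset.card_le_univ (X.biUnion F.orb)
  rw [Finset.card_biUnion hdis, Finset.sum_congr rfl (fun x hx => F.card_orb (hmem x hx).2),
    Finset.sum_const, smul_eq_mul, card_golayPt] at hcard
  omega

universe u v

variable {G : Type u} [Group G] [Finite G] {z : G} {A : Type v} [AddCommGroup A]
variable {D : Eleven z A} (F : Cfg) (hS : Std D)

/-- an element with conjugation of order seven prescribed centralises the subgroup -/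
theorem mem_cent_S7 {x : G} (h : x * Y D F = Y D F * x) :
    x ∈ Subgroup.centralizer (S7 D F : Set G) :=
  Subgroup.mem_centralizer_iff.2 fun _ ha => comm_of_mem_S7 D F ha h.symm

theorem Y_comm_of_mem {x : G} (hx : x ∈ Subgroup.centralizer (S7 D F : Set G)) :
    x * Y D F = Y D F * x :=
  (Subgroup.mem_centralizer_iff.1 hx _ (Subgroup.mem_zpowers _)).symm

/-- the vectors fixed by the element of order seven -/
theorem fix_Y {v : G} (hv : v ∈ D.V) (hc : Y D F * v = v * Y D F) :
    v = 1 ∨ v = t0 D F ∨ v = du D F.p F.r ∨ v = du D F.q F.r := by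
  obtain ⟨a, rfl⟩ := (D.mem_V v).1 hv
  rcases D.C.eq_tetrad_or_duad a with rfl | ha | ⟨T, hT, rfl⟩
  · exact Or.inl D.ι_zero
  · obtain ⟨x, x', hxx, rfl⟩ := ha
    change Y D F * du D x x' = du D x x' * Y D F at hc
    rw [du_commute_iff D (Y_mem D F) hxx, pr_Y] at hc
    have hsub := F.pair_fix (P := {x, x'}) (Finset.card_pair hxx) (by
      rw [Finset.smul_finset_insert, Finset.smul_finset_singleton]; exact hc)
    have hx := hsub (Finset.mem_insert_self _ _)
    have hx' := hsub (Finset.mem_insert_of_mem (Finset.mem_singleton_self _))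
    simp only [Finset.mem_insert, Finset.mem_singleton] at hx hx'
    right
    show du D x x' = du D F.p F.q ∨ du D x x' = du D F.p F.r ∨ du D x x' = du D F.q F.r
    rcases hx with rfl | rfl | rfl <;> rcases hx' with rfl | rfl | rfl
    all_goals first
      | exact absurd rfl hxx
      | exact Or.inl rfl
      | exact Or.inl (du_symm D _ _)
      | exact Or.inr (Or.inl rfl)
      | exact Or.inr (Or.inl (du_symm D _ _))
      | exact Or.inr (Or.inr rfl)
      | exact Or.inr (Or.inr (du_symm D _ _))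
  · exfalso
    have hev : Even T.card := by rw [hT]; decide
    rw [← mul_inv_eq_iff_eq_mul, conj_vec D (Y_mem D F) hev, pr_Y] at hc
    refine F.tetrad_code hT ((D.C.rel _ ?_).1 ?_)
    · have := card_symmDiff_add (F.y • T) T
      rw [Finset.card_smul_finset, hT] at this
      rw [Nat.even_iff]; omega
    · show D.C.S _ = 0
      rw [D.C.S_symmDiff, D.ι_inj hc, D.C.two]

include hS

theorem pr_cent_t0 {x : G} (hx : x * t0 D F = t0 D F * x) (hxY : x * Y D F = Y D F * x) :
    x ∈ Subgroup.normalizer (D.V : Set G) ∧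
      ∃ i, (pr D x : P24) = F.y ^ i ∨ (pr D x : P24) = F.s * F.y ^ i := by
  have hN := cent_du hS F.hpq hx
  refine ⟨hN, F.cent_set (pr D x).2 ?_ (cent_du_pair hS F.hpq hx)⟩
  have := congrArg (fun w => (pr D w : P24)) hxY
  simp only [pr_mul D hN (Y_mem D F), pr_mul D (Y_mem D F) hN, Subgroup.coe_mul, pr_Y] at this
  exact this

/-- the centraliser of the duad vector in the centraliser of the subgroup of order seven -/
theorem card_cent_t0 :
    Nat.card ↥(Subgroup.centralizer ({t0 D F} : Set G) ⊓ Subgroup.centralizer (S7 D F : Set G)) =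
      56 := by
  classical
  set X := Subgroup.centralizer ({t0 D F} : Set G) ⊓ Subgroup.centralizer (S7 D F : Set G) with hX
  have hmem : ∀ {x : G}, x ∈ X ↔ x * t0 D F = t0 D F * x ∧ x * Y D F = Y D F * x := by
    intro x
    rw [hX, Subgroup.mem_inf, Subgroup.mem_centralizer_singleton_iff]
    exact ⟨fun h => ⟨h.1, Y_comm_of_mem F h.2⟩, fun h => ⟨h.1, mem_cent_S7 F h.2⟩⟩
  have hN : ∀ x : X, (x : G) ∈ Subgroup.normalizer (D.V : Set G) := fun x =>
    (pr_cent_t0 F hS (hmem.1 x.2).1 (hmem.1 x.2).2).1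
  let f : X →* M24 := MonoidHom.mk' (fun x => pr D (x : G)) fun a b => by
    rw [Subgroup.coe_mul]; exact pr_mul D (hN a) (hN b)
  set w : M24 := ⟨F.s * F.y, mul_mem F.hs F.hy⟩ with hw
  have ho : orderOf w = 14 := by
    rw [hw, ← Subgroup.orderOf_coe]
    show orderOf (F.s * F.y) = 14
    have h2 : orderOf F.s = 2 := orderOf_eq_prime (by rw [pow_two]; exact F.s2) F.s_ne_one
    rw [(show Commute F.s F.y from F.sy).orderOf_mul_eq_mul_orderOf_of_coprime
      (by rw [h2, F.orderOf_y]; norm_num), h2, F.orderOf_y]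
  have hwpow : ∀ n : ℕ, ((w ^ n : M24) : P24) = F.s ^ n * F.y ^ n := fun n =>
    (Subgroup.coe_pow _ w n).trans ((show Commute F.s F.y from F.sy).mul_pow n)
  have hs2 : ∀ n : ℕ, F.s ^ (2 * n) = 1 := fun n => by
    rw [pow_mul, pow_two, F.s2, one_pow]
  have hrange : f.range = Subgroup.zpowers w := by
    apply le_antisymm
    · rintro _ ⟨x, rfl⟩
      obtain ⟨-, i, hi | hi⟩ := pr_cent_t0 F hS (hmem.1 x.2).1 (hmem.1 x.2).2
      · refine Subgroup.mem_zpowers_iff.2 ⟨((8 * i : ℕ) : ℤ), Subtype.ext ?_⟩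
        rw [zpow_natCast, hwpow]
        show _ = (pr D (x : G) : P24)
        rw [hi, show 8 * i = 2 * (4 * i) by ring, hs2, one_mul,
          show 2 * (4 * i) = i + 7 * i by ring, pow_add, pow_mul, F.y7, one_pow, mul_one]
      · refine Subgroup.mem_zpowers_iff.2 ⟨((8 * i + 7 : ℕ) : ℤ), Subtype.ext ?_⟩
        rw [zpow_natCast, hwpow]
        show _ = (pr D (x : G) : P24)
        rw [hi, show 8 * i + 7 = 2 * (4 * i + 3) + 1 by ring, pow_add F.s, hs2, one_mul, pow_one,
          show 2 * (4 * i + 3) + 1 = i + 7 * (i + 1) by ring, pow_add, pow_mul, F.y7, one_pow,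
          mul_one]
    · rw [Subgroup.zpowers_le]
      refine ⟨⟨kk D F * Y D F, hmem.2 ⟨?_, ?_⟩⟩, Subtype.ext ?_⟩
      · rw [mul_assoc, Y_t0, ← mul_assoc, kk_t0, mul_assoc]
      · rw [kk_Y, mul_assoc, kk_Y]
      · show (pr D (kk D F * Y D F) : P24) = F.s * F.y
        rw [pr_mul D (kk_mem D F) (Y_mem D F), Subgroup.coe_mul, pr_kk, pr_Y]
  have hker : Nat.card f.ker = 4 := by
    have himg : (fun x : X => (x : G)) '' (f.ker : Set X) =
        {1, t0 D F, du D F.p F.r, du D F.q F.r} := by
      ext g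
      simp only [Set.mem_image, SetLike.mem_coe, Set.mem_insert_iff, Set.mem_singleton_iff]
      constructor
      · rintro ⟨x, hx, rfl⟩
        exact fix_Y F (mem_V_of_pr D (hN x) hx) (hmem.1 x.2).2.symm
      · intro hg
        have key : ∀ a b : GolayPt, F.y a = a → F.y b = b →
            ∃ x : X, x ∈ f.ker ∧ (x : G) = du D a b := by
          intro a b ha hb
          refine ⟨⟨du D a b, hmem.2 ⟨D.ι_comm _ _, ?_⟩⟩, pr_mem D (du_mem D a b), rfl⟩
          exact (du_comm_of D (Y_mem D F) (Or.inl (by rw [pr_Y]; exact ⟨ha, hb⟩))).symm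
        have hp := (F.yfix F.p).2 (Or.inl rfl)
        have hq := (F.yfix F.q).2 (Or.inr (Or.inl rfl))
        have hr := (F.yfix F.r).2 (Or.inr (Or.inr rfl))
        rcases hg with rfl | rfl | rfl | rfl
        · obtain ⟨x, h1, h2⟩ := key F.p F.p hp hp
          exact ⟨x, h1, by rw [h2, du_self]⟩
        · exact key F.p F.q hp hq
        · exact key F.p F.r hp hr
        · exact key F.q F.r hq hr
    have hne : ∀ a b c d : GolayPt, a ≠ b → c ≠ d → a ≠ c → a ≠ d → du D a b ≠ du D c d := by
      intro a b c d hab hcd hac had e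
      have := du_inj D hab hcd e
      have ha : a ∈ ({c, d} : Finset GolayPt) := this ▸ Finset.mem_insert_self _ _
      simp [hac, had] at ha
    rw [show Nat.card f.ker = (f.ker : Set X).ncard from Nat.card_coe_set_eq _,
      ← Set.ncard_image_of_injective (f.ker : Set X) Subtype.val_injective]
    show ((fun x : X => (x : G)) '' (f.ker : Set X)).ncard = 4
    rw [himg]
    have hpq := F.hpq
    have hrp := F.hrp
    have hrq := F.hrq
    have d1 : t0 D F ≠ du D F.p F.r := fun e => by
      rw [t0, du_symm D F.p F.q] at e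
      exact hne F.q F.p F.p F.r hpq.symm hrp.symm hpq.symm hrq.symm e
    have d2 : t0 D F ≠ du D F.q F.r := hne F.p F.q F.q F.r hpq hrq.symm hpq hrp.symm
    have d3 : du D F.p F.r ≠ du D F.q F.r := hne F.p F.r F.q F.r hrp.symm hrq.symm hpq hrp.symm
    rw [Set.ncard_insert_of_notMem (by
        simp only [Set.mem_insert_iff, Set.mem_singleton_iff, not_or]
        exact ⟨(du_ne_one D hpq).symm, (du_ne_one D hrp.symm).symm, (du_ne_one D hrq.symm).symm⟩),
      Set.ncard_insert_of_notMem (by simp [d1, d2]),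
      Set.ncard_pair d3]
  have h := f.ker.card_mul_index
  rw [Subgroup.index_ker, hker, hrange, Nat.card_zpowers, ho] at h
  omega

/-- an involution of the centraliser of the duad vector and the subgroup of order seven -/
theorem invol_t0 {x : G} (hx2 : x * x = 1) (hx : x * t0 D F = t0 D F * x)
    (hxY : x * Y D F = Y D F * x) :
    x = 1 ∨ x = t0 D F ∨ x = du D F.p F.r ∨ x = du D F.q F.r ∨ x = kk D F ∨
      x = t0 D F * kk D F := by
  obtain ⟨hN, i, hi⟩ := pr_cent_t0 F hS hx hxY
  have hp2 : (pr D x : P24) * (pr D x : P24) = 1 := by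
    rw [← Subgroup.coe_mul, ← pr_mul D hN hN, hx2, pr_one]; rfl
  have hc : (pr D x : P24) = 1 ∨ (pr D x : P24) = F.s := by
    refine F.cent_invol (pr D x).2 hp2 ?_ (cent_du_pair hS F.hpq hx)
    rw [← pr_Y D F, ← Subgroup.coe_mul, ← Subgroup.coe_mul, ← pr_mul D hN (Y_mem D F),
      ← pr_mul D (Y_mem D F) hN, hxY]
  rcases hc with h | h
  · rcases fix_Y F (mem_V_of_pr D hN (Subtype.ext h)) hxY.symm with h | h | h | h <;> simp [h]
  · obtain ⟨v, hv, e⟩ := eq_pr D hN
    rw [show pr D x = (⟨F.s, F.hs⟩ : M24) from Subtype.ext h] at e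
    change x = v * kk D F at e
    have hvY : Y D F * v = v * Y D F := by
      have h1 : v = x * kk D F := by rw [e, mul_assoc, kk_sq, mul_one]
      rw [h1, ← mul_assoc, ← hxY, mul_assoc, ← kk_Y, ← mul_assoc]
    have hvk : kk D F * v = v * kk D F := by
      have h2 : v * kk D F * (v * kk D F) = 1 := e ▸ hx2
      have hv2 : v * v = 1 := by
        obtain ⟨a, rfl⟩ := (D.mem_V v).1 hv
        rw [← D.ι_add, D.C.two, D.ι_zero]
      calc kk D F * v = v * v * (kk D F * v) * (kk D F * kk D F) := by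
            rw [hv2, kk_sq, one_mul, mul_one]
        _ = v * (v * kk D F * (v * kk D F)) * kk D F := by group
        _ = v * kk D F := by rw [h2, mul_one]
    rcases fix_Y F hv hvY with h | h | h | h
    · exact Or.inr (Or.inr (Or.inr (Or.inr (Or.inl (by rw [e, h, one_mul])))))
    · exact Or.inr (Or.inr (Or.inr (Or.inr (Or.inr (by rw [e, h])))))
    all_goals
      exfalso
      subst h
    · rw [du_commute_iff D (kk_mem D F) F.hrp.symm, pr_kk, F.sp, F.sr] at hvk
      have : F.p ∈ ({F.q, F.r} : Finset GolayPt) := hvk.symm ▸ Finset.mem_insert_self _ _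
      simp [F.hpq, F.hrp.symm] at this
    · rw [du_commute_iff D (kk_mem D F) F.hrq.symm, pr_kk, F.sq, F.sr] at hvk
      have : F.q ∈ ({F.p, F.r} : Finset GolayPt) := hvk.symm ▸ Finset.mem_insert_self _ _
      simp [F.hpq.symm, F.hrq.symm] at this

end CfsgLib.Spor.JankoFourSeven
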