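import Cfsg.Agent.Lib.Spor.JankoFourSeven.Normal
import Cfsg.Agent.Lib.U42.Count

/-!
The order of the normaliser of the subgroup of order seven by counting pairs of involutions.
-/

set_option autoImplicit false
set_option linter.unusedSectionVars false
set_option linter.style.haveILetI false

namespace CfsgLib.Spor.JankoFourSeven

open Cfsg CfsgLib.Spor CfsgLib.Spor.JankoFourCentral
open CfsgLib.U42 (Pair order_formula)
open scoped Pointwise symmDiff

universe u v

variable {G : Type u} [Group G] [Finite G] {z : G} {A : Type v} [AddCommGroup A]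

/-- the facts about the centraliser of the involution that are used in the count -/
structure HFacts (D : Eleven z A) (F : Cfg) : Prop where
  h49 : ¬ 49 ∣ Nat.card (Subgroup.centralizer ({z} : Set G))
  card : Nat.card ↥(Subgroup.centralizer ({kk D F} : Set G) ⊓
    Subgroup.centralizer (S7 D F : Set G)) = 84
  three : ∃ R : Subgroup G, Nat.card R = 3 ∧
    R ≤ Subgroup.centralizer ({kk D F} : Set G) ⊓ Subgroup.centralizer (S7 D F : Set G) ∧
    Subgroup.centralizer ({kk D F} : Set G) ⊓ Subgroup.centralizer (S7 D F : Set G) ≤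
      Subgroup.normalizer (R : Set G)

theorem card_cent_isConj {x y : G} (h : IsConj x y) :
    Nat.card (Subgroup.centralizer ({x} : Set G)) = Nat.card (Subgroup.centralizer ({y} : Set G)) := by
  obtain ⟨g, rfl⟩ := isConj_iff.1 h
  have key : ∀ {g x a : G}, a ∈ Subgroup.centralizer ({x} : Set G) →
      g * a * g⁻¹ ∈ Subgroup.centralizer ({g * x * g⁻¹} : Set G) := by
    intro g x a ha
    rw [Subgroup.mem_centralizer_singleton_iff] at ha ⊢
    calc g * a * g⁻¹ * (g * x * g⁻¹) = g * (a * x) * g⁻¹ := by group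
      _ = g * (x * a) * g⁻¹ := by rw [ha]
      _ = _ := by group
  exact Nat.card_congr
    { toFun := fun a => ⟨g * a * g⁻¹, key a.2⟩
      invFun := fun a => ⟨g⁻¹ * a * g, by
        have h := key (g := g⁻¹) a.2
        rwa [inv_inv, show g⁻¹ * (g * x * g⁻¹) * g = x by group] at h⟩
      left_inv := fun a => Subtype.ext (by show g⁻¹ * (g * a * g⁻¹) * g = a; group)
      right_inv := fun a => Subtype.ext (by show g * (g⁻¹ * a * g) * g⁻¹ = a; group) }

variable {D : Eleven z A} (F : Cfg) (hS : Std D)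

theorem hh_norm : hh D F ∈ Subgroup.normalizer (S7 D F : Set G) := by
  have hle : (S7 D F).map (MulAut.conj (hh D F)).toMonoidHom ≤ S7 D F := by
    rintro _ ⟨a, ha, rfl⟩
    obtain ⟨n, rfl⟩ := Subgroup.mem_zpowers_iff.1 ha
    show hh D F * Y D F ^ n * (hh D F)⁻¹ ∈ S7 D F
    rw [← conj_zpow, hh_Y]
    exact Subgroup.zpow_mem _ (Subgroup.mul_mem _ (Subgroup.mem_zpowers _) (Subgroup.mem_zpowers _)) n
  have heq := Subgroup.eq_of_le_of_card_ge hle
    (by rw [Subgroup.card_map_of_injective (MulAut.conj (hh D F)).injective])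
  refine Subgroup.mem_normalizer_iff.2 fun a => ⟨fun ha => ?_, fun ha => ?_⟩
  · rw [← heq]; exact ⟨a, ha, rfl⟩
  · rw [← heq] at ha
    obtain ⟨b, hb, e⟩ := ha
    have : b = a := (MulAut.conj (hh D F)).injective e
    exact this ▸ hb

theorem hh_pow_conj : ∀ j : ℕ, hh D F ^ j * Y D F * (hh D F ^ j)⁻¹ = Y D F ^ (2 ^ j)
  | 0 => by simp
  | j + 1 => by
    calc hh D F ^ (j + 1) * Y D F * (hh D F ^ (j + 1))⁻¹
        = hh D F * (hh D F ^ j * Y D F * (hh D F ^ j)⁻¹) * (hh D F)⁻¹ := by rw [pow_succ']; group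
      _ = Y D F ^ (2 ^ (j + 1)) := by
        rw [hh_pow_conj j, ← conj_pow, hh_Y, ← pow_two, ← pow_mul, pow_succ']

theorem conj_of_split {c : G} (hc : c ∈ Subgroup.centralizer (S7 D F : Set G)) (j : ℕ) :
    c * hh D F ^ j * Y D F * (c * hh D F ^ j)⁻¹ = Y D F ^ (2 ^ j) := by
  calc c * hh D F ^ j * Y D F * (c * hh D F ^ j)⁻¹
      = c * (hh D F ^ j * Y D F * (hh D F ^ j)⁻¹) * c⁻¹ := by group
    _ = _ := by
      rw [hh_pow_conj, ← conj_pow, Y_comm_of_mem F hc, mul_inv_cancel_right]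

theorem pow_two_pow_inj {i j : ℕ} (hi : i < 3) (hj : j < 3)
    (h : Y D F ^ (2 ^ i) = Y D F ^ (2 ^ j)) : i = j := by
  have := pow_inj_mod.1 h
  rw [orderOf_Y] at this
  interval_cases i <;> interval_cases j <;> simp_all

include hS

theorem card_split (M : Subgroup G) (hM : hh D F ∈ M) :
    Nat.card ↥(Subgroup.normalizer (S7 D F : Set G) ⊓ M) =
      3 * Nat.card ↥(Subgroup.centralizer (S7 D F : Set G) ⊓ M) := by
  rw [← Nat.card_fin 3, ← Nat.card_prod]
  refine (Nat.card_eq_of_bijective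
    (fun x : Fin 3 × ↥(Subgroup.centralizer (S7 D F : Set G) ⊓ M) =>
      (⟨(x.2 : G) * hh D F ^ (x.1 : ℕ), Subgroup.mem_inf.2
        ⟨Subgroup.mul_mem _ (Subgroup.centralizer_le_normalizer _ x.2.2.1)
          (Subgroup.pow_mem _ (hh_norm F) _), Subgroup.mul_mem _ x.2.2.2 (Subgroup.pow_mem _ hM _)⟩⟩ :
        ↥(Subgroup.normalizer (S7 D F : Set G) ⊓ M))) ⟨?_, ?_⟩).symm
  · intro x y e
    have e' : (x.2 : G) * hh D F ^ (x.1 : ℕ) = y.2 * hh D F ^ (y.1 : ℕ) := congrArg Subtype.val e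
    have h1 := conj_of_split F x.2.2.1 x.1
    rw [e', conj_of_split F y.2.2.1 y.1] at h1
    have h2 : x.1 = y.1 := Fin.ext (pow_two_pow_inj F x.1.2 y.1.2 h1.symm)
    rw [h2] at e'
    exact Prod.ext h2 (Subtype.ext (mul_right_cancel e'))
  · rintro ⟨n, hn, hnM⟩
    obtain ⟨c, hc, j, hj, rfl⟩ := exists_split F hS hn
    refine ⟨(⟨j, hj⟩, ⟨c, hc, ?_⟩), rfl⟩
    have := Subgroup.mul_mem _ hnM (Subgroup.inv_mem _ (Subgroup.pow_mem _ hM j))
    rwa [mul_inv_cancel_right] at this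

theorem invol_mem_cent {n : G} (hn : n ∈ Subgroup.normalizer (S7 D F : Set G)) (h2 : n * n = 1) :
    n ∈ Subgroup.centralizer (S7 D F : Set G) := by
  obtain ⟨c, hc, j, hj, rfl⟩ := exists_split F hS hn
  have h1 := conj_of_split F hc j
  set n := c * hh D F ^ j with hn'
  have h3 : n * (n * Y D F * n⁻¹) * n⁻¹ = Y D F := by
    calc n * (n * Y D F * n⁻¹) * n⁻¹ = (n * n) * Y D F * (n * n)⁻¹ := by group
      _ = Y D F := by rw [h2]; group
  rw [h1, ← conj_pow, h1, ← pow_mul] at h3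
  have : j = 0 := by
    have hh0 : Y D F ^ (2 ^ j * 2 ^ j) = Y D F ^ 1 := by rw [pow_one]; exact h3
    have := pow_inj_mod.1 hh0
    rw [orderOf_Y] at this
    interval_cases j <;> simp_all
  rw [hn', this, pow_zero, mul_one]
  exact hc

variable (hF : HFacts D F)
include hF

theorem cent49 {x : G} (ho : orderOf x = 2) :
    ¬ 49 ∣ Nat.card (Subgroup.centralizer ({x} : Set G)) := by
  rcases invol_cases hS F.hpq ho with h | h
  · rw [← card_cent_isConj h]; exact hF.h49
  · rw [← card_cent_isConj h]; exact seven_cent_du hS F.hpq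

/-- conjugate involutions of the centraliser are conjugate in the normaliser -/
theorem isConj_in_normalizer {x y : Subgroup.normalizer (S7 D F : Set G)} (hx : (x : G) * x = 1)
    (hy : orderOf (y : G) = 2) (h : IsConj (x : G) y) : IsConj x y := by
  have hy2 : (y : G) * y = 1 := by rw [← pow_two, ← hy, pow_orderOf_eq_one]
  obtain ⟨n, hn, e⟩ := exists_normalizer_conj (card_S7 D F) (cent49 F hS hF hy) h
    (S7_le_cent D F (Y_comm_of_mem F (invol_mem_cent F hS x.2 hx)).symm)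
    (S7_le_cent D F (Y_comm_of_mem F (invol_mem_cent F hS y.2 hy2)).symm)
  exact isConj_iff.2 ⟨⟨n, hn⟩, Subtype.ext e⟩

theorem t0kk_conj : IsConj (kk D F) (t0 D F * kk D F) := by
  refine isConj_iff.2 ⟨du D F.p F.r, ?_⟩
  have h1 : kk D F * (du D F.p F.r)⁻¹ = du D F.q F.r * kk D F := by
    rw [inv_eq_of_mul_eq_one_right (du_sq D _ _)]
    have := du_conj D (kk_mem D F) F.p F.r
    rw [pr_kk, F.sp, F.sr] at this
    exact mul_inv_eq_iff_eq_mul.1 this
  rw [mul_assoc, h1, ← mul_assoc, du_symm D F.q F.r, du_mul]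
  rfl

theorem not_conj_kk {x : G} (hx : IsConj (kk D F) x) (hx' : IsConj (t0 D F) x) : False :=
  du_not_conj D F.hpq ((isConj_kk F hS).trans (hx.trans hx'.symm))

theorem orderOf_t0 : orderOf (t0 D F) = 2 :=
  orderOf_eq_prime (by rw [pow_two]; exact du_sq D _ _) (du_ne_one D F.hpq)

/-- the involution class of a pair of vectors -/
theorem du_conj_t0 {a b : GolayPt} (h : a ≠ b) : IsConj (t0 D F) (du D a b) := by
  have ho : orderOf (du D a b) = 2 :=
    orderOf_eq_prime (by rw [pow_two]; exact du_sq D a b) (du_ne_one D h)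
  exact (invol_cases hS F.hpq ho).resolve_left (du_not_conj D h)

/-- the pairs singling out the duad vector -/
theorem pairs_t0 :
    {p : G × G | p.1 ∈ Subgroup.normalizer (S7 D F : Set G) ∧
      p.2 ∈ Subgroup.normalizer (S7 D F : Set G) ∧ IsConj (kk D F) p.1 ∧ IsConj (t0 D F) p.2 ∧
      p.1 * p.1 = 1 ∧ p.2 * p.2 = 1 ∧ p.1 * t0 D F = t0 D F * p.1 ∧
      p.2 * t0 D F = t0 D F * p.2 ∧ ∃ i : ℕ, (p.1 * p.2) ^ i = t0 D F}.ncard = 4 := by
  classical
  have hkt := kk_t0 D F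
  let uf : Bool → G := fun b => bif b then t0 D F * kk D F else kk D F
  let vf : Bool → G := fun b => bif b then du D F.q F.r else du D F.p F.r
  have hhalf : ∀ a, F.y a = a → du D a F.r * Y D F = Y D F * du D a F.r := fun a ha =>
    (du_comm_of D (Y_mem D F) (Or.inl (by
      rw [pr_Y]; exact ⟨ha, (F.yfix F.r).2 (Or.inr (Or.inr rfl))⟩))).symm
  have huN : ∀ b, uf b ∈ Subgroup.normalizer (S7 D F : Set G) := by
    have hk := Subgroup.centralizer_le_normalizer _ (mem_cent_S7 F (kk_Y D F))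
    have ht := Subgroup.centralizer_le_normalizer _ (mem_cent_S7 F (Y_t0 D F).symm)
    intro b; cases b
    · exact hk
    · exact Subgroup.mul_mem _ ht hk
  have hvN : ∀ b, vf b ∈ Subgroup.normalizer (S7 D F : Set G) := by
    intro b; cases b
    · exact Subgroup.centralizer_le_normalizer _
        (mem_cent_S7 F (hhalf _ ((F.yfix _).2 (Or.inl rfl))))
    · exact Subgroup.centralizer_le_normalizer _
        (mem_cent_S7 F (hhalf _ ((F.yfix _).2 (Or.inr (Or.inl rfl)))))
  have huc : ∀ b, IsConj (kk D F) (uf b) := by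
    intro b; cases b
    · exact IsConj.refl _
    · exact t0kk_conj F hS hF
  have hvc : ∀ b, IsConj (t0 D F) (vf b) := by
    intro b; cases b
    · exact du_conj_t0 F hS hF F.hrp.symm
    · exact du_conj_t0 F hS hF F.hrq.symm
  have hkd : ∀ b, kk D F * vf b = vf (!b) * kk D F := by
    intro b
    have e1 := du_conj D (kk_mem D F) F.p F.r
    have e2 := du_conj D (kk_mem D F) F.q F.r
    rw [pr_kk, F.sp, F.sr] at e1
    rw [pr_kk, F.sq, F.sr] at e2
    cases b
    · exact mul_inv_eq_iff_eq_mul.1 e1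
    · exact mul_inv_eq_iff_eq_mul.1 e2
  have hvv : ∀ b, vf (!b) * vf b = t0 D F := by
    intro b; cases b
    · show du D F.q F.r * du D F.p F.r = t0 D F
      rw [du_symm D F.p F.r, du_mul, du_symm]; rfl
    · show du D F.p F.r * du D F.q F.r = t0 D F
      rw [du_symm D F.q F.r, du_mul]; rfl
  have hvt : ∀ b, vf b * t0 D F = t0 D F * vf b := by
    intro b; cases b <;> exact D.ι_comm _ _
  have hv2 : ∀ b, vf b * vf b = 1 := by
    intro b; cases b <;> exact du_sq D _ _
  have hu2 : ∀ b, uf b * uf b = 1 := by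
    intro b; cases b
    · exact kk_sq D F
    · show t0 D F * kk D F * (t0 D F * kk D F) = 1
      rw [(show Commute (kk D F) (t0 D F) from hkt).mul_mul_mul_comm, kk_sq, mul_one]
      exact du_sq D _ _
  have hut : ∀ b, uf b * t0 D F = t0 D F * uf b := by
    intro b; cases b
    · exact hkt
    · show t0 D F * kk D F * t0 D F = t0 D F * (t0 D F * kk D F)
      rw [mul_assoc, hkt]
  have hprod : ∀ a b, (uf a * vf b) ^ 2 = t0 D F := by
    have hbase : ∀ b, kk D F * vf b * (kk D F * vf b) = t0 D F := by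
      intro b
      calc kk D F * vf b * (kk D F * vf b) = vf (!b) * (kk D F * kk D F) * vf b := by
            rw [show kk D F * vf b * (kk D F * vf b) = (kk D F * vf b) * kk D F * vf b by group,
              hkd]; group
        _ = t0 D F := by rw [kk_sq, mul_one, hvv]
    intro a b
    rw [pow_two]
    cases a
    · exact hbase b
    · show t0 D F * kk D F * vf b * (t0 D F * kk D F * vf b) = t0 D F
      have hc : Commute (kk D F * vf b) (t0 D F) :=
        (show Commute (kk D F) (t0 D F) from hkt).mul_left (hvt b)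
      rw [mul_assoc (t0 D F), hc.mul_mul_mul_comm, hbase,
        show t0 D F * t0 D F = 1 from du_sq D _ _, one_mul]
  have hne1 : kk D F ≠ t0 D F * kk D F := fun h => du_ne_one D F.hpq (by
    have := congrArg (· * kk D F) h
    simp only [kk_sq, mul_assoc, mul_one] at this
    exact this.symm)
  have hne2 : du D F.p F.r ≠ du D F.q F.r := fun h => du_ne_one D F.hpq (by
    show t0 D F = 1
    rw [← hvv true]
    show du D F.p F.r * du D F.q F.r = 1
    rw [h]; exact du_sq D _ _)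
  rw [show {p : G × G | _} = Set.range (fun x : Bool × Bool => (uf x.1, vf x.2)) from ?_,
    Set.ncard_range_of_injective, Nat.card_prod, Nat.card_eq_fintype_card, Fintype.card_bool]
  · rintro ⟨a, b⟩ ⟨a', b'⟩ h
    simp only [Prod.mk.injEq] at h
    obtain ⟨h1, h2⟩ := h
    refine Prod.ext ?_ ?_
    · cases a <;> cases a' <;> first | rfl | exact absurd h1 hne1 | exact absurd h1.symm hne1
    · cases b <;> cases b' <;> first | rfl | exact absurd h2 hne2 | exact absurd h2.symm hne2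
  ext ⟨u, v⟩
  simp only [Set.mem_setOf_eq, Set.mem_range]
  constructor
  · rintro ⟨hu, hv, hcu, hcv, u2, v2, hut', hvt', i, hi⟩
    have hYu := Y_comm_of_mem F (invol_mem_cent F hS hu u2)
    have hYv := Y_comm_of_mem F (invol_mem_cent F hS hv v2)
    have hne_u : u ≠ 1 := by
      rintro rfl
      exact kk_ne_one D F (isConj_one_left.1 hcu)
    have hne_v : v ≠ 1 := by
      rintro rfl
      exact du_ne_one D F.hpq (isConj_one_left.1 hcv)
    obtain ⟨a, ha⟩ : ∃ a, uf a = u := by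
      rcases invol_t0 F hS u2 hut' hYu with e | e | e | e | e | e
      · exact absurd e hne_u
      · exact (not_conj_kk F hS hF (e ▸ hcu) (IsConj.refl _)).elim
      · exact (not_conj_kk F hS hF (e ▸ hcu) (du_conj_t0 F hS hF F.hrp.symm)).elim
      · exact (not_conj_kk F hS hF (e ▸ hcu) (du_conj_t0 F hS hF F.hrq.symm)).elim
      · exact ⟨false, e.symm⟩
      · exact ⟨true, e.symm⟩
    rcases invol_t0 F hS v2 hvt' hYv with e | e | e | e | e | e
    · exact absurd e hne_v
    · exfalso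
      -- the product is then an involution different from the duad vector
      have hw : (u * v) * (u * v) = 1 := by
        rw [e, (show Commute u (t0 D F) from hut').symm.mul_mul_mul_comm, u2, one_mul]
        exact du_sq D _ _
      rcases Nat.even_or_odd i with ⟨k, hk⟩ | ⟨k, hk⟩
      · rw [hk, ← two_mul, pow_mul, pow_two, hw, one_pow] at hi
        exact du_ne_one D F.hpq hi.symm
      · rw [hk, pow_succ, pow_mul, pow_two, hw, one_pow, one_mul, e] at hi
        exact hne_u (mul_eq_right.1 hi)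
    · exact ⟨(a, false), Prod.ext ha e.symm⟩
    · exact ⟨(a, true), Prod.ext ha e.symm⟩
    · exact (not_conj_kk F hS hF (IsConj.refl _) (e ▸ hcv)).elim
    · exact (not_conj_kk F hS hF (t0kk_conj F hS hF) (e ▸ hcv)).elim
  · rintro ⟨⟨a, b⟩, e⟩
    simp only [Prod.mk.injEq] at e
    obtain ⟨rfl, rfl⟩ := e
    exact ⟨huN a, hvN b, huc a, hvc b, hu2 a, hv2 b, hut a, hvt b, 2, hprod a b⟩

/-- the pairs singling out the involution -/
theorem pairs_kk :
    {p : G × G | p.1 ∈ Subgroup.normalizer (S7 D F : Set G) ∧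
      p.2 ∈ Subgroup.normalizer (S7 D F : Set G) ∧ IsConj (kk D F) p.1 ∧ IsConj (t0 D F) p.2 ∧
      p.1 * p.1 = 1 ∧ p.2 * p.2 = 1 ∧ p.1 * kk D F = kk D F * p.1 ∧
      p.2 * kk D F = kk D F * p.2 ∧ ∃ i : ℕ, (p.1 * p.2) ^ i = kk D F}.ncard = 9 := by
  classical
  haveI : Fact (Nat.Prime 2) := ⟨Nat.prime_two⟩
  obtain ⟨R, hR3, hRle, hRn⟩ := hF.three
  set X := Subgroup.centralizer ({kk D F} : Set G) ⊓ Subgroup.centralizer (S7 D F : Set G) with hX
  have hmem : ∀ {x : G}, x ∈ X ↔ x * kk D F = kk D F * x ∧ x * Y D F = Y D F * x := by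
    intro x
    rw [hX, Subgroup.mem_inf, Subgroup.mem_centralizer_singleton_iff]
    exact ⟨fun h => ⟨h.1, Y_comm_of_mem F h.2⟩, fun h => ⟨h.1, mem_cent_S7 F h.2⟩⟩
  have htX : t0 D F ∈ X := hmem.2 ⟨(kk_t0 D F).symm, (Y_t0 D F).symm⟩
  have hkX : kk D F ∈ X := hmem.2 ⟨rfl, kk_Y D F⟩
  haveI : Fact (Nat.Prime 3) := ⟨by norm_num⟩
  obtain ⟨⟨ρ, hρR⟩, hρ3⟩ := exists_prime_orderOf_dvd_card' (G := R) 3 (by rw [hR3])
  have hρo : orderOf ρ = 3 := by rw [← hρ3, ← Subgroup.orderOf_coe]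
  have hρX : ρ ∈ X := hRle hρR
  have hρk : ρ * kk D F = kk D F * ρ := (hmem.1 hρX).1
  -- the element of order three does not commute with the duad vector
  set M := X ⊓ Subgroup.centralizer ({t0 D F} : Set G) with hM
  have hMle : M ≤ Subgroup.centralizer ({t0 D F} : Set G) ⊓ Subgroup.centralizer (S7 D F : Set G) :=
    fun x hx => ⟨hx.2, hx.1.2⟩
  have hρt : ∀ a : ℕ, ρ ^ a * t0 D F = t0 D F * ρ ^ a → 3 ∣ a := by
    intro a ha
    by_contra h3
    have ho : orderOf (ρ ^ a) = 3 := by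
      rw [Nat.Coprime.orderOf_pow (by
        rw [hρo]; exact (Nat.Prime.coprime_iff_not_dvd (by norm_num)).2 h3), hρo]
    have hin : ρ ^ a ∈ Subgroup.centralizer ({t0 D F} : Set G) ⊓
        Subgroup.centralizer (S7 D F : Set G) :=
      ⟨Subgroup.mem_centralizer_singleton_iff.2 ha, (Subgroup.pow_mem _ hρX a).2⟩
    have := Subgroup.orderOf_dvd_natCard _ hin
    rw [ho, card_cent_t0 F hS] at this
    norm_num at this
  let ta : Fin 3 → G := fun a => ρ ^ (a : ℕ) * t0 D F * (ρ ^ (a : ℕ))⁻¹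
  have hta_inj : Function.Injective ta := by
    have key : ∀ a b : Fin 3, (a : ℕ) ≤ b → ta a = ta b → a = b := by
      intro a b hle h
      have e : ρ ^ ((b : ℕ) - a) * t0 D F = t0 D F * ρ ^ ((b : ℕ) - a) := by
        have hb : ρ ^ (b : ℕ) = ρ ^ (a : ℕ) * ρ ^ ((b : ℕ) - a) := by
          rw [← pow_add]; congr 1; omega
        simp only [ta, hb] at h
        rw [← mul_inv_eq_iff_eq_mul]
        calc ρ ^ ((b : ℕ) - a) * t0 D F * (ρ ^ ((b : ℕ) - a))⁻¹
            = (ρ ^ (a : ℕ))⁻¹ * (ρ ^ (a : ℕ) * ρ ^ ((b : ℕ) - a) * t0 D F *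
                (ρ ^ (a : ℕ) * ρ ^ ((b : ℕ) - a))⁻¹) * ρ ^ (a : ℕ) := by group
          _ = t0 D F := by rw [← h]; group
      have h3 := hρt _ e
      have := b.2
      exact Fin.ext (by omega)
    intro a b h
    rcases le_total (a : ℕ) b with hle | hle
    · exact key a b hle h
    · exact (key b a hle h.symm).symm
  -- every involution is conjugate into the four-group by the element of order three
  have hk1 := kk_ne_one D F
  have ht1 : t0 D F ≠ 1 := du_ne_one D F.hpq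
  have hkt : kk D F * t0 D F ≠ 1 := fun h => by
    rw [mul_eq_one_iff_eq_inv, show (t0 D F)⁻¹ = t0 D F from inv_eq_of_mul_eq_one_right (du_sq D F.p F.q)] at h
    exact du_not_conj D F.hpq ((isConj_kk F hS).trans (h ▸ IsConj.refl _))
  let f4 : Bool × Bool → G := fun x => (bif x.1 then kk D F else 1) * (bif x.2 then t0 D F else 1)
  let V4 : Subgroup G := Subgroup.zpowers (kk D F) ⊔ Subgroup.zpowers (t0 D F)
  have hV4 : ∀ x, x ∈ V4 ↔ ∃ a, f4 a = x := by
    intro x
    have hz : ∀ {g : G}, g * g = 1 → ∀ {w}, w ∈ Subgroup.zpowers g ↔ ∃ a : Bool, (bif a then g else 1) = w := by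
      intro g hg w
      constructor
      · intro hw
        obtain ⟨n, rfl⟩ := (isOfFinOrder_of_finite g).mem_powers_iff_mem_zpowers.2 hw
        show ∃ a : Bool, (bif a then g else 1) = g ^ n
        rcases Nat.even_or_odd n with ⟨k, hk⟩ | ⟨k, hk⟩
        · refine ⟨false, ?_⟩
          rw [hk, ← two_mul, pow_mul, pow_two, hg, one_pow]; rfl
        · refine ⟨true, ?_⟩
          rw [hk, pow_succ, pow_mul, pow_two, hg, one_pow, one_mul]; rfl
      · rintro ⟨a, rfl⟩
        cases a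
        · exact one_mem _
        · exact Subgroup.mem_zpowers g
    have hn : Subgroup.zpowers (t0 D F) ≤ Subgroup.normalizer (Subgroup.zpowers (kk D F) : Set G) := by
      rw [Subgroup.zpowers_le]
      refine Subgroup.centralizer_le_normalizer _ ?_
      rw [← Subgroup.zpowers_le]
      rw [Subgroup.zpowers_le, Subgroup.mem_centralizer_iff]
      intro b hb
      obtain ⟨n, rfl⟩ := Subgroup.mem_zpowers_iff.1 hb
      exact (Commute.zpow_left (show Commute (kk D F) (t0 D F) from kk_t0 D F) n).eq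
    rw [show (x ∈ V4) = (x ∈ (↑(Subgroup.zpowers (kk D F) ⊔ Subgroup.zpowers (t0 D F)) : Set G)) from rfl,
      Subgroup.coe_mul_of_right_le_normalizer_left _ _ hn, Set.mem_mul]
    constructor
    · rintro ⟨a, ha, b, hb, rfl⟩
      obtain ⟨a', rfl⟩ := (hz (kk_sq D F)).1 ha
      obtain ⟨b', rfl⟩ := (hz (du_sq D F.p F.q : t0 D F * t0 D F = 1)).1 hb
      exact ⟨(a', b'), rfl⟩
    · rintro ⟨⟨a, b⟩, rfl⟩
      exact ⟨_, (hz (kk_sq D F)).2 ⟨a, rfl⟩, _, (hz (du_sq D F.p F.q : t0 D F * t0 D F = 1)).2 ⟨b, rfl⟩, rfl⟩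
  have hV4c : Nat.card V4 = 4 := by
    have e : (V4 : Set G) = Set.range f4 := Set.ext fun x => hV4 x
    show Nat.card (V4 : Set G) = 4
    rw [e, Nat.card_coe_set_eq, Set.ncard_range_of_injective, Nat.card_prod,
      Nat.card_eq_fintype_card, Fintype.card_bool]
    rintro ⟨a, b⟩ ⟨a', b'⟩ h
    have hkne : kk D F ≠ t0 D F := fun e' => hkt (by rw [e']; exact du_sq D _ _)
    cases a <;> cases b <;> cases a' <;> cases b' <;>
      simp [f4, hk1, ht1, hk1.symm, ht1.symm, hkt, hkt.symm, hkne, hkne.symm] at h ⊢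
  have hV4X : V4 ≤ X := sup_le (Subgroup.zpowers_le.2 hkX) (Subgroup.zpowers_le.2 htX)
  have hV4M : V4 ≤ M := fun x hx => by
    refine ⟨hV4X hx, ?_⟩
    exact sup_le (Subgroup.zpowers_le.2 (Subgroup.mem_centralizer_singleton_iff.2 (kk_t0 D F)))
      (Subgroup.zpowers_le.2 (Subgroup.mem_centralizer_singleton_iff.2 rfl)) hx
  have hS7M : S7 D F ≤ M := Subgroup.zpowers_le.2
    ⟨hmem.2 ⟨(kk_Y D F).symm, rfl⟩, Subgroup.mem_centralizer_singleton_iff.2 (Y_t0 D F)⟩
  have hM28 : 28 ≤ Nat.card M := by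
    have h4 := Subgroup.card_dvd_of_le hV4M
    have h7 := Subgroup.card_dvd_of_le hS7M
    rw [hV4c] at h4
    rw [card_S7] at h7
    exact Nat.le_of_dvd Nat.card_pos (Nat.Coprime.mul_dvd_of_dvd_of_dvd (by norm_num) h4 h7)
  have hdec : ∀ c ∈ X, ∃ a : Fin 3, ∃ m ∈ M, c = ρ ^ (a : ℕ) * m := by
    have hinj : Function.Injective fun x : Fin 3 × M =>
        (⟨ρ ^ (x.1 : ℕ) * x.2, Subgroup.mul_mem _ (Subgroup.pow_mem _ hρX _) x.2.2.1⟩ : X) := by
      intro x y h
      have h' : ρ ^ (x.1 : ℕ) * x.2 = ρ ^ (y.1 : ℕ) * y.2 := congrArg Subtype.val h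
      have hm : ∀ m : M, (m : G) * t0 D F * (m : G)⁻¹ = t0 D F := fun m =>
        mul_inv_eq_iff_eq_mul.2 (Subgroup.mem_centralizer_singleton_iff.1 m.2.2)
      have e : ta x.1 = ta y.1 := by
        calc ta x.1 = ρ ^ (x.1 : ℕ) * ((x.2 : G) * t0 D F * (x.2 : G)⁻¹) * (ρ ^ (x.1 : ℕ))⁻¹ := by
              rw [hm]
          _ = (ρ ^ (x.1 : ℕ) * x.2) * t0 D F * (ρ ^ (x.1 : ℕ) * x.2)⁻¹ := by group
          _ = (ρ ^ (y.1 : ℕ) * y.2) * t0 D F * (ρ ^ (y.1 : ℕ) * y.2)⁻¹ := by rw [h']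
          _ = ρ ^ (y.1 : ℕ) * ((y.2 : G) * t0 D F * (y.2 : G)⁻¹) * (ρ ^ (y.1 : ℕ))⁻¹ := by group
          _ = ta y.1 := by rw [hm]
      have e1 := hta_inj e
      rw [e1] at h'
      exact Prod.ext e1 (Subtype.ext (mul_left_cancel h'))
    have hbij := hinj.bijective_of_nat_card_le (by
      rw [Nat.card_prod, Nat.card_fin, show Nat.card X = 84 from hF.card]; omega)
    intro c hc
    obtain ⟨⟨a, m⟩, hm⟩ := hbij.2 ⟨c, hc⟩
    exact ⟨a, m, m.2, (congrArg Subtype.val hm).symm⟩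
  have hinv : ∀ x ∈ X, x * x = 1 → x ≠ 1 → x = kk D F ∨ (∃ a, x = ta a) ∨ ∃ a, x = ta a * kk D F := by
    intro x hx hx2 hx1
    have hf : (Nat.card X).factorization 2 = 2 := by
      rw [show Nat.card X = 84 from hF.card, show (84 : ℕ) = 2 ^ 2 * 21 by norm_num,
        Nat.factorization_mul (by norm_num) (by norm_num), Finsupp.add_apply,
        Nat.Prime.factorization_pow Nat.prime_two, Finsupp.single_eq_same,
        Nat.factorization_eq_zero_of_not_dvd (by norm_num : ¬ 2 ∣ 21)]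
    let P : Sylow 2 X := Sylow.ofCard (V4.subgroupOf X) (by
      rw [Nat.card_congr (Subgroup.subgroupOfEquivOfLe hV4X).toEquiv, hV4c, hf]; norm_num)
    have hp : IsPGroup 2 (Subgroup.zpowers (⟨x, hx⟩ : X)) := IsPGroup.of_card (n := 1) (by
      rw [Nat.card_zpowers, ← Subgroup.orderOf_coe, pow_one]
      exact orderOf_eq_prime (by rw [pow_two]; exact hx2) hx1)
    obtain ⟨Q, hQ⟩ := hp.exists_le_sylow
    obtain ⟨c, hc⟩ := MulAction.exists_smul_eq X P Q
    have hxQ : (⟨x, hx⟩ : X) ∈ (Q : Subgroup X) := hQ (Subgroup.mem_zpowers _)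
    rw [← hc, Sylow.coe_subgroup_smul] at hxQ
    obtain ⟨w, hw, e⟩ := hxQ
    rw [Sylow.coe_ofCard] at hw
    obtain ⟨a, m, hm, hcm⟩ := hdec c c.2
    obtain ⟨⟨b1, b2⟩, hb⟩ := (hV4 _).1 (Subgroup.mem_subgroupOf.1 hw)
    have hx' : (c : G) * (w : G) * (c : G)⁻¹ = x := congrArg Subtype.val e
    rw [hcm, ← hb] at hx'
    have hmk : m * kk D F = kk D F * m := (hmem.1 hm.1).1
    have hmt : m * t0 D F = t0 D F * m := Subgroup.mem_centralizer_singleton_iff.1 hm.2
    have hmw : m * f4 (b1, b2) * m⁻¹ = f4 (b1, b2) := by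
      rw [mul_inv_eq_iff_eq_mul]
      have c1 : Commute m (bif b1 then kk D F else 1) := by
        cases b1 <;> [exact Commute.one_right m; exact hmk]
      have c2 : Commute m (bif b2 then t0 D F else 1) := by
        cases b2 <;> [exact Commute.one_right m; exact hmt]
      exact (c1.mul_right c2).eq
    have hx'' : ρ ^ (a : ℕ) * f4 (b1, b2) * (ρ ^ (a : ℕ))⁻¹ = x := by
      rw [← hx', ← hmw]
      have := hmw
      calc ρ ^ (a : ℕ) * (m * f4 (b1, b2) * m⁻¹) * (ρ ^ (a : ℕ))⁻¹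
          = ρ ^ (a : ℕ) * m * f4 (b1, b2) * (ρ ^ (a : ℕ) * m)⁻¹ := by group
        _ = _ := by rw [this]
    have hck : Commute (ρ ^ (a : ℕ)) (kk D F) := Commute.pow_left hρk _
    cases b1 <;> cases b2
    · exfalso; apply hx1; rw [← hx'']; simp [f4]
    · right; left; exact ⟨a, by rw [← hx'']; simp [f4, ta]⟩
    · left; rw [← hx'']; simp only [f4, cond_true, cond_false, mul_one]
      rw [hck.eq, mul_inv_cancel_right]
    · right; right; refine ⟨a, ?_⟩
      rw [← hx'']
      simp only [f4, cond_true, ta]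
      rw [← mul_assoc (ρ ^ (a : ℕ)), hck.eq]
      have hck' : Commute (kk D F) (ρ ^ (a : ℕ) * t0 D F * (ρ ^ (a : ℕ))⁻¹) :=
        (hck.symm.mul_right (kk_t0 D F)).mul_right hck.symm.inv_right
      rw [← hck'.eq]; group
  -- classes and products
  have htk : ∀ a, Commute (ta a) (kk D F) := fun a => by
    have hck : Commute (ρ ^ (a : ℕ)) (kk D F) := Commute.pow_left hρk _
    exact ((hck.mul_left (kk_t0 D F).symm).mul_left hck.inv_left)
  have htc : ∀ a, IsConj (t0 D F) (ta a) := fun a => isConj_iff.2 ⟨_, rfl⟩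
  have htkc : ∀ a, IsConj (kk D F) (ta a * kk D F) := fun a => by
    refine (t0kk_conj F hS hF).trans (isConj_iff.2 ⟨ρ ^ (a : ℕ), ?_⟩)
    have hck : Commute (ρ ^ (a : ℕ)) (kk D F) := Commute.pow_left hρk _
    show _ = ρ ^ (a : ℕ) * t0 D F * (ρ ^ (a : ℕ))⁻¹ * kk D F
    rw [mul_assoc _ (ρ ^ (a : ℕ))⁻¹ (kk D F), hck.inv_left.eq]
    group
  have htX' : ∀ a, ta a ∈ X := fun a =>
    Subgroup.mul_mem _ (Subgroup.mul_mem _ (Subgroup.pow_mem _ hρX _) htX)
      (Subgroup.inv_mem _ (Subgroup.pow_mem _ hρX _))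
  have ht2 : ∀ a, ta a * ta a = 1 := fun a => by
    calc ta a * ta a = ρ ^ (a : ℕ) * (t0 D F * t0 D F) * (ρ ^ (a : ℕ))⁻¹ := by simp only [ta]; group
      _ = 1 := by rw [show t0 D F * t0 D F = 1 from du_sq D _ _]; group
  have htR : ∀ a b, ta a * ta b ∈ R := fun a b => by
    have e : ta a * ta b = ρ ^ (a : ℕ) * (t0 D F * ((ρ ^ (a : ℕ))⁻¹ * ρ ^ (b : ℕ)) * (t0 D F)⁻¹) *
        (ρ ^ (b : ℕ))⁻¹ := by
      rw [show (t0 D F)⁻¹ = t0 D F from inv_eq_of_mul_eq_one_right (du_sq D F.p F.q)]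
      simp only [ta]; group
    rw [e]
    exact Subgroup.mul_mem _ (Subgroup.mul_mem _ (Subgroup.pow_mem _ hρR _)
      ((Subgroup.mem_normalizer_iff.1 (hRn htX) _).1 (Subgroup.mul_mem _
        (Subgroup.inv_mem _ (Subgroup.pow_mem _ hρR _)) (Subgroup.pow_mem _ hρR _))))
      (Subgroup.inv_mem _ (Subgroup.pow_mem _ hρR _))
  have hcube : ∀ a b, (ta a * kk D F * ta b) ^ 3 = kk D F := fun a b => by
    rw [show ta a * kk D F * ta b = ta a * ta b * kk D F by rw [mul_assoc (ta a), ← (htk b).eq, ← mul_assoc],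
      ((htk a).mul_left (htk b)).mul_pow]
    have : orderOf (ta a * ta b) ∣ 3 := hR3 ▸ Subgroup.orderOf_dvd_natCard _ (htR a b)
    rw [orderOf_dvd_iff_pow_eq_one.1 this, one_mul, pow_succ, pow_two, kk_sq, one_mul]
  rw [show {p : G × G | _} = Set.range (fun x : Fin 3 × Fin 3 => (ta x.1 * kk D F, ta x.2)) from ?_,
    Set.ncard_range_of_injective, Nat.card_prod, Nat.card_fin]
  · intro x y h
    simp only [Prod.mk.injEq] at h
    exact Prod.ext (hta_inj (mul_right_cancel h.1)) (hta_inj h.2)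
  ext ⟨u, v⟩
  simp only [Set.mem_setOf_eq, Set.mem_range]
  constructor
  · rintro ⟨hu, hv, hcu, hcv, u2, v2, huk, hvk, i, hi⟩
    have hne_v : v ≠ 1 := by
      rintro rfl
      exact du_ne_one D F.hpq (isConj_one_left.1 hcv)
    have hne_u : u ≠ 1 := by
      rintro rfl
      exact kk_ne_one D F (isConj_one_left.1 hcu)
    obtain ⟨b, rfl⟩ : ∃ b, v = ta b := by
      rcases hinv v (hmem.2 ⟨hvk, Y_comm_of_mem F (invol_mem_cent F hS hv v2)⟩) v2 hne_v with
        e | e | ⟨a, e⟩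
      · exact (not_conj_kk F hS hF (IsConj.refl _) (e ▸ hcv)).elim
      · exact e
      · exact (not_conj_kk F hS hF (htkc a) (e ▸ hcv)).elim
    rcases hinv u (hmem.2 ⟨huk, Y_comm_of_mem F (invol_mem_cent F hS hu u2)⟩) u2 hne_u with
      e | ⟨a, e⟩ | ⟨a, e⟩
    · exfalso
      rw [e] at hi
      have hw : kk D F * ta b * (kk D F * ta b) = 1 := by
        rw [(htk b).mul_mul_mul_comm, kk_sq, one_mul, ht2]
      rcases Nat.even_or_odd i with ⟨k, hk⟩ | ⟨k, hk⟩
      · rw [hk, ← two_mul, pow_mul, pow_two, hw, one_pow] at hi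
        exact kk_ne_one D F hi.symm
      · rw [hk, pow_succ, pow_mul, pow_two, hw, one_pow, one_mul] at hi
        exact hne_v (mul_eq_left.1 hi)
    · exact (not_conj_kk F hS hF (e ▸ hcu) (htc a)).elim
    · exact ⟨(a, b), Prod.ext e.symm rfl⟩
  · rintro ⟨⟨a, b⟩, e⟩
    simp only [Prod.mk.injEq] at e
    obtain ⟨rfl, rfl⟩ := e
    have hkN := Subgroup.centralizer_le_normalizer _ (mem_cent_S7 F (kk_Y D F))
    refine ⟨Subgroup.mul_mem _ (Subgroup.centralizer_le_normalizer _ (htX' a).2) hkN,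
      Subgroup.centralizer_le_normalizer _ (htX' b).2, htkc a, htc b, ?_, ht2 b, ?_, (htk b).eq, 3,
      hcube a b⟩
    · rw [(htk a).symm.mul_mul_mul_comm, ht2, kk_sq, one_mul]
    · exact ((htk a).mul_left (Commute.refl _)).eq

/-- the normaliser of the subgroup of order seven has order `2520` -/
theorem card_normalizer : Nat.card ↥(Subgroup.normalizer (S7 D F : Set G)) = 2520 := by
  classical
  set N := Subgroup.normalizer (S7 D F : Set G) with hN
  have hkN : kk D F ∈ N := Subgroup.centralizer_le_normalizer _ (mem_cent_S7 F (kk_Y D F))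
  have htN : t0 D F ∈ N := Subgroup.centralizer_le_normalizer _ (mem_cent_S7 F (Y_t0 D F).symm)
  have ha : orderOf (⟨kk D F, hkN⟩ : N) = 2 := by rw [← Subgroup.orderOf_coe]; exact orderOf_kk D F
  have hb : orderOf (⟨t0 D F, htN⟩ : N) = 2 := by
    rw [← Subgroup.orderOf_coe]; exact orderOf_t0 F hS hF
  have hcoe : ∀ {x y : N}, IsConj x y → IsConj (x : G) y := fun {x y} h => by
    obtain ⟨c, hc⟩ := isConj_iff.1 h
    exact isConj_iff.2 ⟨(c : G), congrArg Subtype.val hc⟩
  have hiff : ∀ {x : G} (hx : x ∈ N) (w : N), orderOf x = 2 →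
      (IsConj (⟨x, hx⟩ : N) w ↔ IsConj x w ∧ (w : G) * w = 1) := by
    intro x hx w ho
    have hx2 : x * x = 1 := by rw [← pow_two, ← ho, pow_orderOf_eq_one]
    constructor
    · intro h
      refine ⟨hcoe h, ?_⟩
      obtain ⟨c, hc⟩ := isConj_iff.1 (hcoe h)
      show (w : G) * w = 1
      rw [← hc]
      calc c * x * c⁻¹ * (c * x * c⁻¹) = c * (x * x) * c⁻¹ := by group
        _ = 1 := by rw [hx2]; group
    · rintro ⟨h, -⟩
      refine isConj_in_normalizer F hS hF (x := ⟨x, hx⟩) hx2 ?_ h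
      obtain ⟨c, hc⟩ := isConj_iff.1 h
      rw [← hc]
      exact ((MulAut.conj c).orderOf_eq x).trans ho
  have hpair : ∀ {x : G} (hx : x ∈ N),
      Nat.card (Pair (⟨kk D F, hkN⟩ : N) ⟨t0 D F, htN⟩ ⟨x, hx⟩) =
        {p : G × G | p.1 ∈ N ∧ p.2 ∈ N ∧ IsConj (kk D F) p.1 ∧ IsConj (t0 D F) p.2 ∧
          p.1 * p.1 = 1 ∧ p.2 * p.2 = 1 ∧ p.1 * x = x * p.1 ∧
          p.2 * x = x * p.2 ∧ ∃ i : ℕ, (p.1 * p.2) ^ i = x}.ncard := by
    intro x hx
    rw [← Nat.card_coe_set_eq]
    refine Nat.card_congr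
      { toFun := fun p => ⟨((p.1.1 : G), (p.1.2 : G)), ?_⟩
        invFun := fun p => ⟨(⟨p.1.1, p.2.1⟩, ⟨p.1.2, p.2.2.1⟩), ?_⟩
        left_inv := fun p => rfl
        right_inv := fun p => rfl }
    · obtain ⟨⟨u, v⟩, h1, h2, h3, h4, i, hi⟩ := p
      have e1 := (hiff hkN u (orderOf_kk D F)).1 h1
      have e2 := (hiff htN v (orderOf_t0 F hS hF)).1 h2
      exact ⟨u.2, v.2, e1.1, e2.1, e1.2, e2.2, congrArg Subtype.val h3, congrArg Subtype.val h4, i,
        by simpa using congrArg Subtype.val hi⟩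
    · obtain ⟨⟨u, v⟩, hu, hv, h1, h2, u2, v2, h3, h4, i, hi⟩ := p
      exact ⟨(hiff hkN _ (orderOf_kk D F)).2 ⟨h1, u2⟩,
        (hiff htN _ (orderOf_t0 F hS hF)).2 ⟨h2, v2⟩, Subtype.ext h3, Subtype.ext h4, i,
        Subtype.ext (by simpa using hi)⟩
  have hcent : ∀ {x : G} (hx : x ∈ N), hh D F * x = x * hh D F →
      Nat.card (Subgroup.centralizer ({(⟨x, hx⟩ : N)} : Set N)) =
        3 * Nat.card ↥(Subgroup.centralizer ({x} : Set G) ⊓
          Subgroup.centralizer (S7 D F : Set G)) := by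
    intro x hx hxh
    rw [inf_comm, ← card_split F hS _ (Subgroup.mem_centralizer_singleton_iff.2 hxh)]
    exact Nat.card_congr
      { toFun := fun a => ⟨a.1.1, a.1.2, Subgroup.mem_centralizer_singleton_iff.2
          (congrArg Subtype.val (Subgroup.mem_centralizer_singleton_iff.1 a.2))⟩
        invFun := fun a => ⟨⟨a.1, a.2.1⟩, Subgroup.mem_centralizer_singleton_iff.2
          (Subtype.ext (Subgroup.mem_centralizer_singleton_iff.1 a.2.2))⟩
        left_inv := fun _ => rfl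
        right_inv := fun _ => rfl }
  have hnc : ¬ IsConj (⟨kk D F, hkN⟩ : N) ⟨t0 D F, htN⟩ := fun h =>
    not_conj_kk F hS hF (hcoe h) (IsConj.refl _)
  have hall : ∀ w : N, orderOf w = 2 →
      IsConj (⟨kk D F, hkN⟩ : N) w ∨ IsConj (⟨t0 D F, htN⟩ : N) w := by
    intro w hw
    rw [← Subgroup.orderOf_coe] at hw
    have hw2 : (w : G) * w = 1 := by rw [← pow_two, ← hw, pow_orderOf_eq_one]
    rcases invol_cases hS F.hpq hw with h | h
    · exact Or.inl ((hiff hkN w (orderOf_kk D F)).2 ⟨(isConj_kk F hS).symm.trans h, hw2⟩)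
    · exact Or.inr ((hiff htN w (orderOf_t0 F hS hF)).2 ⟨h, hw2⟩)
  rw [order_formula ha hb hnc hall, hcent htN (hh_t0 D F), hcent hkN (hh_kk D F),
    card_cent_t0 F hS, hF.card, hpair hkN, hpair htN]
  have e1 := pairs_kk F hS hF
  have e2 := pairs_t0 F hS hF
  rw [hN, e1, e2]

end CfsgLib.Spor.JankoFourSeven
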