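import Cfsg.Agent.Lib.Spor.JankoFourSeven.Basic

/-!
The lift of an involution of `M24` with eight fixed points is conjugate to `z`.
-/

set_option autoImplicit false
set_option linter.unusedSectionVars false
set_option maxRecDepth 100000

namespace CfsgLib.Spor.JankoFourSeven

open Cfsg CfsgLib.Spor CfsgLib.Spor.JankoFourCentral
open scoped Pointwise symmDiff

universe u v

variable {G : Type u} [Group G] [Finite G] {z : G} {A : Type v} [AddCommGroup A]
variable (D : Eleven z A) (F : Cfg)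

/-- the element of order seven in the complement -/
noncomputable def Y : G := D.L ⟨F.y, F.hy⟩
/-- the involution in the complement -/
noncomputable def kk : G := D.L ⟨F.s, F.hs⟩
/-- the element normalising the subgroup of order seven -/
noncomputable def hh : G := D.L ⟨F.h, F.hh⟩
/-- the subgroup of order seven -/
noncomputable def S7 : Subgroup G := Subgroup.zpowers (Y D F)
/-- the duad vector of the exchanged points -/
def t0 : G := du D F.p F.q

theorem pr_Y : (pr D (Y D F) : P24) = F.y := by rw [Y, pr_L]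
theorem pr_kk : (pr D (kk D F) : P24) = F.s := by rw [kk, pr_L]
theorem pr_hh : (pr D (hh D F) : P24) = F.h := by rw [hh, pr_L]

theorem Y_mem : Y D F ∈ Subgroup.normalizer (D.V : Set G) := D.L_mem _
theorem kk_mem : kk D F ∈ Subgroup.normalizer (D.V : Set G) := D.L_mem _
theorem hh_mem : hh D F ∈ Subgroup.normalizer (D.V : Set G) := D.L_mem _

theorem L_comm {σ τ : M24} (h : (σ : P24) * τ = τ * σ) : D.L σ * D.L τ = D.L τ * D.L σ := by
  rw [← D.L_mul, ← D.L_mul]
  exact congrArg D.L (Subtype.ext h)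

theorem kk_sq : kk D F * kk D F = 1 := by
  rw [kk, ← D.L_mul, ← D.L_one]
  exact congrArg D.L (Subtype.ext F.s2)

theorem kk_ne_one : kk D F ≠ 1 := fun h => F.s_ne_one (by
  rw [← pr_kk D F, h, pr_one]; rfl)

theorem kk_notMem : kk D F ∉ D.V := fun h => F.s_ne_one (by
  rw [← pr_kk D F, pr_mem D h]; rfl)

theorem orderOf_kk : orderOf (kk D F) = 2 :=
  orderOf_eq_prime (by rw [pow_two]; exact kk_sq D F) (kk_ne_one D F)

theorem kk_Y : kk D F * Y D F = Y D F * kk D F := L_comm D F.sy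

theorem hh_kk : hh D F * kk D F = kk D F * hh D F := L_comm D F.hsh

theorem hh_Y : hh D F * Y D F * (hh D F)⁻¹ = Y D F * Y D F := by
  rw [hh, Y, ← D.L_inv, ← D.L_mul, ← D.L_mul, ← D.L_mul]
  exact congrArg D.L (Subtype.ext F.hyh)

theorem orderOf_Y : orderOf (Y D F) = 7 := by
  have hinj : Function.Injective (MonoidHom.mk' D.L D.L_mul) := fun a b h => D.L_inj h
  rw [Y, ← MonoidHom.mk'_apply D.L D.L_mul, orderOf_injective _ hinj, ← Subgroup.orderOf_coe]
  exact F.orderOf_y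

theorem card_S7 : Nat.card (S7 D F) = 7 := by rw [S7, Nat.card_zpowers, orderOf_Y]

theorem du_comm_of {g : G} (hg : g ∈ Subgroup.normalizer (D.V : Set G)) {a b : GolayPt}
    (h : ((pr D g : P24) a = a ∧ (pr D g : P24) b = b) ∨
      ((pr D g : P24) a = b ∧ (pr D g : P24) b = a)) : g * du D a b = du D a b * g := by
  rw [← mul_inv_eq_iff_eq_mul, du_conj D hg]
  rcases h with ⟨h1, h2⟩ | ⟨h1, h2⟩
  · rw [h1, h2]
  · rw [h1, h2, du_symm]

theorem Y_t0 : Y D F * t0 D F = t0 D F * Y D F :=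
  du_comm_of D (Y_mem D F) (Or.inl (by
    rw [pr_Y]; exact ⟨(F.yfix _).2 (Or.inl rfl), (F.yfix _).2 (Or.inr (Or.inl rfl))⟩))

theorem kk_t0 : kk D F * t0 D F = t0 D F * kk D F :=
  du_comm_of D (kk_mem D F) (Or.inr (by rw [pr_kk]; exact ⟨F.sp, F.sq⟩))

theorem hh_t0 : hh D F * t0 D F = t0 D F * hh D F :=
  du_comm_of D (hh_mem D F) (Or.inl (by rw [pr_hh]; exact ⟨F.hp, F.hq⟩))

theorem S7_le_cent {x : G} (h : Y D F * x = x * Y D F) :
    S7 D F ≤ Subgroup.centralizer ({x} : Set G) :=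
  Subgroup.zpowers_le.2 (Subgroup.mem_centralizer_singleton_iff.2 h)

theorem comm_of_mem_S7 {a x : G} (ha : a ∈ S7 D F) (h : Y D F * x = x * Y D F) : a * x = x * a :=
  Subgroup.mem_centralizer_singleton_iff.1 (S7_le_cent D F h ha)

theorem fixed_count : (fixedReps syl2Rep0).length ≤ 128 := by decide +kernel

/-- at most `2^7` vectors are fixed by the involution -/
theorem card_fixed_le :
    Nat.card ↥(D.V ⊓ Subgroup.centralizer ({kk D F} : Set G)) ≤ 128 := by
  classical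
  have ho : orderOf F.s = 2 := orderOf_eq_prime (by rw [pow_two]; exact F.s2) F.s_ne_one
  rcases exists_invol F.hs ho with ⟨ρ, hρ, hr, -, c, hc, e⟩ | ⟨ρ, hρ, hr, h0, -⟩
  swap
  · exact absurd F.sr ((card_filter_eq_zero_iff F.s).1 h0 F.r)
  let P : M24 := ⟨ρ, hρ⟩
  let γ : M24 := ⟨c, hc⟩
  have hk : kk D F = D.L γ * D.L P * (D.L γ)⁻¹ := by
    rw [kk, ← D.L_inv, ← D.L_mul, ← D.L_mul]
    exact congrArg D.L (Subtype.ext e)
  have key : ∀ v : ↥(D.V ⊓ Subgroup.centralizer ({kk D F} : Set G)),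
      ∃ m ∈ (fixedReps syl2Rep0).toFinset, D.vm m = (D.L γ)⁻¹ * v * D.L γ := by
    rintro ⟨v, hv, hvk⟩
    obtain ⟨m, hm, hme⟩ := D.exists_vm (show (D.L γ)⁻¹ * v * D.L γ ∈ D.V by
      have := (Subgroup.mem_normalizer_iff.1 (inv_mem (D.L_mem γ)) v).1 hv
      rwa [inv_inv] at this)
    refine ⟨m, List.mem_toFinset.2 (List.mem_filter.2 ⟨hm, ?_⟩), hme⟩
    refine D.inCode_of_vm_eq_one ((ev_vList hm).xor (ev_of_rep hr (ev_vList hm))) ?_
    have hc' : v * kk D F = kk D F * v := Subgroup.mem_centralizer_singleton_iff.1 hvk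
    show D.vm (m ^^^ actP syl2Rep0 m) = 1
    rw [D.vm_xor, ← D.L_vm (σ := P) hr (ev_vList hm), hme]
    rw [hk] at hc'
    have e1 : D.L P * ((D.L γ)⁻¹ * v * D.L γ) * (D.L P)⁻¹ = (D.L γ)⁻¹ * v * D.L γ := by
      calc D.L P * ((D.L γ)⁻¹ * v * D.L γ) * (D.L P)⁻¹
          = (D.L γ)⁻¹ * ((D.L γ * D.L P * (D.L γ)⁻¹) * v) * D.L γ * (D.L P)⁻¹ := by group
        _ = (D.L γ)⁻¹ * (v * (D.L γ * D.L P * (D.L γ)⁻¹)) * D.L γ * (D.L P)⁻¹ := by rw [hc']
        _ = _ := by group
    rw [e1, ← hme, D.vm_sq]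
  choose m hm hme using key
  have hinj : Function.Injective fun v => (⟨m v, hm v⟩ : ↥((fixedReps syl2Rep0).toFinset)) := by
    intro v w h
    have h' : m v = m w := congrArg Subtype.val h
    have := hme v
    rw [h', hme w] at this
    exact Subtype.ext (mul_left_cancel (mul_right_cancel this)).symm
  refine le_trans (Nat.card_le_card_of_injective _ hinj) ?_
  rw [Nat.card_eq_fintype_card, Fintype.card_coe]
  exact (List.toFinset_card_le _).trans fixed_count

variable {D} (hS : Std D)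
include hS

/-- the lift of the involution is conjugate to `z` -/
theorem isConj_kk : IsConj z (kk D F) := by
  classical
  by_contra hz
  have hpq := F.hpq
  obtain ⟨g0, hg0⟩ := isConj_iff.1
    ((invol_cases hS hpq (orderOf_kk D F)).resolve_left hz)
  -- adjust the conjugation to normalise the subgroup of order seven
  have hS7t : S7 D F ≤ Subgroup.centralizer ({t0 D F} : Set G) := S7_le_cent D F (Y_t0 D F)
  have hS1 : (S7 D F).map (MulAut.conj g0⁻¹).toMonoidHom ≤
      Subgroup.centralizer ({t0 D F} : Set G) := by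
    rintro _ ⟨a, ha, rfl⟩
    rw [Subgroup.mem_centralizer_singleton_iff]
    have h1 := comm_of_mem_S7 D F ha (kk_Y D F).symm
    rw [← hg0] at h1
    show g0⁻¹ * a * g0⁻¹⁻¹ * t0 D F = t0 D F * (g0⁻¹ * a * g0⁻¹⁻¹)
    calc g0⁻¹ * a * g0⁻¹⁻¹ * t0 D F = g0⁻¹ * (a * (g0 * t0 D F * g0⁻¹)) * g0 := by group
      _ = g0⁻¹ * ((g0 * t0 D F * g0⁻¹) * a) * g0 := by
        show g0⁻¹ * (a * (g0 * du D F.p F.q * g0⁻¹)) * g0 = _
        rw [h1]; rfl
      _ = _ := by group
  obtain ⟨c, hc, hcS⟩ := exists_conj_seven (seven_cent_du hS hpq) hS7t hS1 (card_S7 D F)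
    (by rw [Subgroup.card_map_of_injective (MulAut.conj g0⁻¹).injective, card_S7])
  set g := g0 * c with hg
  have hgt : g * t0 D F * g⁻¹ = kk D F := by
    have := Subgroup.mem_centralizer_singleton_iff.1 hc
    rw [hg, ← hg0]
    show g0 * c * t0 D F * (g0 * c)⁻¹ = g0 * t0 D F * g0⁻¹
    calc g0 * c * t0 D F * (g0 * c)⁻¹ = g0 * (c * t0 D F) * c⁻¹ * g0⁻¹ := by group
      _ = g0 * (t0 D F * c) * c⁻¹ * g0⁻¹ := by
        rw [show c * t0 D F = t0 D F * c from this]
      _ = _ := by group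
  have hgS : ∀ a ∈ S7 D F, g * a * g⁻¹ ∈ S7 D F := by
    intro a ha
    have h1 : MulAut.conj c a ∈ (S7 D F).map (MulAut.conj g0⁻¹).toMonoidHom :=
      hcS ▸ Subgroup.mem_map_of_mem _ ha
    obtain ⟨b, hb, e⟩ := h1
    have e' : g0⁻¹ * b * g0⁻¹⁻¹ = c * a * c⁻¹ := e
    have : b = g * a * g⁻¹ := by
      calc b = g0 * (g0⁻¹ * b * g0⁻¹⁻¹) * g0⁻¹ := by group
        _ = _ := by rw [e', hg]; group
    rwa [← this]
  have hgS' : ∀ a ∈ S7 D F, g⁻¹ * a * g ∈ S7 D F := by
    intro a ha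
    obtain ⟨n, hn⟩ : ∃ n : ℕ, 0 < n ∧ g ^ n = 1 :=
      ⟨orderOf g, orderOf_pos g, pow_orderOf_eq_one g⟩
    have key : ∀ m : ℕ, g ^ m * a * (g ^ m)⁻¹ ∈ S7 D F := by
      intro m
      induction m with
      | zero => simpa using ha
      | succ m ih =>
        have := hgS _ ih
        rwa [show g ^ (m + 1) * a * (g ^ (m + 1))⁻¹ = g * (g ^ m * a * (g ^ m)⁻¹) * g⁻¹ by
          rw [pow_succ']; group]
    have e : g⁻¹ = g ^ (n - 1) := inv_eq_of_mul_eq_one_right (by
      rw [← pow_succ', show n - 1 + 1 = n by omega, hn.2])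
    have := key (n - 1)
    rwa [← e, inv_inv] at this
  have hkt : ∀ x, x * kk D F = kk D F * x →
      g⁻¹ * x * g * t0 D F = t0 D F * (g⁻¹ * x * g) := by
    intro x hx
    calc g⁻¹ * x * g * t0 D F = g⁻¹ * (x * (g * t0 D F * g⁻¹)) * g := by group
      _ = g⁻¹ * ((g * t0 D F * g⁻¹) * x) * g := by rw [hgt, hx]
      _ = _ := by group
  have hkN : ∀ x, x * kk D F = kk D F * x →
      g⁻¹ * x * g ∈ Subgroup.normalizer (D.V : Set G) := fun x hx => cent_du hS hpq (hkt x hx)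
  -- duad vectors fixed by the involution do not lie in the conjugate of the subgroup
  have hnoduad : ∀ a b, a ≠ b → du D a b * kk D F = kk D F * du D a b →
      g⁻¹ * du D a b * g ∉ D.V := by
    intro a b hab _ hmem
    have hle : D.V.map (MulAut.conj g).toMonoidHom ≤ Subgroup.normalizer (D.V : Set G) := by
      rintro _ ⟨w, hw, rfl⟩
      refine cent_du hS hab ?_
      obtain ⟨i, hi⟩ := (D.mem_V _).1 hmem
      obtain ⟨j, rfl⟩ := (D.mem_V w).1 hw
      have := D.ι_comm j i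
      rw [hi] at this
      show g * D.ι j * g⁻¹ * du D a b = du D a b * (g * D.ι j * g⁻¹)
      calc g * D.ι j * g⁻¹ * du D a b = g * (D.ι j * (g⁻¹ * du D a b * g)) * g⁻¹ := by group
        _ = g * ((g⁻¹ * du D a b * g) * D.ι j) * g⁻¹ := by rw [this]
        _ = _ := by group
    have hP : IsPGroup 2 (D.V.map (MulAut.conj g).toMonoidHom ⊔ D.V : Subgroup G) :=
      (D.isPGroup_V.map _).to_sup_of_normal_right' D.isPGroup_V hle
    obtain ⟨T, hT⟩ := hP.exists_le_sylow
    have heq := D.eq_conj_of_le T g (le_sup_right.trans hT) (le_sup_left.trans hT)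
    refine kk_notMem D F ?_
    rw [← hgt, ← heq]
    exact Subgroup.mem_map_of_mem _ (du_mem D F.p F.q)
  -- images of the conjugated duad vectors
  have himg : ∀ a b, a ≠ b → du D a b * kk D F = kk D F * du D a b →
      (pr D (g⁻¹ * du D a b * g) : P24) ≠ 1 ∧
      (pr D (g⁻¹ * du D a b * g) : P24) * (pr D (g⁻¹ * du D a b * g) : P24) = 1 ∧
      (((pr D (g⁻¹ * du D a b * g) : P24) F.p = F.p ∧ (pr D (g⁻¹ * du D a b * g) : P24) F.q = F.q) ∨
        ((pr D (g⁻¹ * du D a b * g) : P24) F.p = F.q ∧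
          (pr D (g⁻¹ * du D a b * g) : P24) F.q = F.p)) := by
    intro a b hab hd
    have hN := hkN _ hd
    refine ⟨fun e => hnoduad a b hab hd (mem_V_of_pr D hN (Subtype.ext e)), ?_,
      cent_du_pair hS hpq (hkt _ hd)⟩
    rw [← Subgroup.coe_mul, ← pr_mul D hN hN,
      show g⁻¹ * du D a b * g * (g⁻¹ * du D a b * g) = g⁻¹ * (du D a b * du D a b) * g by group,
      du_sq, show g⁻¹ * 1 * g = 1 by group, pr_one]
    rfl
  -- the image of the duad vector of the exchanged points is the involution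
  have ht0 : t0 D F * kk D F = kk D F * t0 D F := (kk_t0 D F).symm
  have hk0 : (pr D (g⁻¹ * t0 D F * g) : P24) = F.s := by
    obtain ⟨h1, h2, h3⟩ := himg F.p F.q hpq ht0
    refine (F.cent_invol (pr D _).2 h2 ?_ h3).resolve_left h1
    have hY : g * Y D F * g⁻¹ ∈ S7 D F := hgS _ (Subgroup.mem_zpowers _)
    have hcm := comm_of_mem_S7 D F hY (Y_t0 D F)
    have hcm' : g⁻¹ * t0 D F * g * Y D F = Y D F * (g⁻¹ * t0 D F * g) := by
      calc g⁻¹ * t0 D F * g * Y D F = g⁻¹ * (t0 D F * (g * Y D F * g⁻¹)) * g := by group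
        _ = g⁻¹ * ((g * Y D F * g⁻¹) * t0 D F) * g := by rw [hcm]
        _ = _ := by group
    have := congrArg (fun x => (pr D x : P24)) hcm'
    simp only [pr_mul D (hkN _ ht0) (Y_mem D F), pr_mul D (Y_mem D F) (hkN _ ht0),
      Subgroup.coe_mul, pr_Y] at this
    exact this
  -- a triangle of points fixed by the involution
  have hO8 := card_octad F.O_octad
  obtain ⟨a, ha⟩ : ∃ a, a ∈ F.O.erase F.r := Finset.card_pos.1 (by
    rw [Finset.card_erase_of_mem F.r_mem]; omega)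
  obtain ⟨b, hb⟩ : ∃ b, b ∈ (F.O.erase F.r).erase a := Finset.card_pos.1 (by
    rw [Finset.card_erase_of_mem ha, Finset.card_erase_of_mem F.r_mem]; omega)
  rw [Finset.mem_erase] at ha
  rw [Finset.mem_erase, Finset.mem_erase] at hb
  have hOc : ∀ x y, x ∈ F.O → y ∈ F.O → du D x y * kk D F = kk D F * du D x y := by
    intro x y hx hy
    exact (du_comm_of D (kk_mem D F) (Or.inl (by
      rw [pr_kk]; exact ⟨F.mem_O.1 hx, F.mem_O.1 hy⟩))).symm
  obtain ⟨d, e, hde, hd, hdfix⟩ : ∃ d e, d ≠ e ∧ du D d e * kk D F = kk D F * du D d e ∧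
      (pr D (g⁻¹ * du D d e * g) : P24) F.p = F.p := by
    have c1 := hOc F.r a F.r_mem ha.2
    have c2 := hOc a b ha.2 hb.2.2
    have c3 := hOc F.r b F.r_mem hb.2.2
    rcases (himg F.r a ha.1.symm c1).2.2 with h | h
    · exact ⟨_, _, ha.1.symm, c1, h.1⟩
    rcases (himg a b (Ne.symm hb.1) c2).2.2 with h' | h'
    · exact ⟨_, _, Ne.symm hb.1, c2, h'.1⟩
    refine ⟨F.r, b, hb.2.1.symm, c3, ?_⟩
    rw [show g⁻¹ * du D F.r b * g = (g⁻¹ * du D F.r a * g) * (g⁻¹ * du D a b * g) by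
      rw [← du_mul D F.r a b]; group, pr_mul D (hkN _ c1) (hkN _ c2), Subgroup.coe_mul,
      Equiv.Perm.mul_apply, h'.1, h.2]
  obtain ⟨hτ1, hτ2, -⟩ := himg d e hde hd
  obtain ⟨x, hxO, hxp, hxq, hxfix⟩ := F.exists_outside (pr D _).2 hτ2 hτ1 hdfix
  -- vectors whose conjugate normalises the subgroup
  let W : Subgroup G := D.V ⊓
    (Subgroup.normalizer (D.V : Set G)).comap (MulAut.conj g).toMonoidHom
  have hWgood : ∀ d' : G, (∃ d e, d ≠ e ∧ du D d e = d') → ∀ w ∈ D.V,
      g⁻¹ * d' * g * w = w * (g⁻¹ * d' * g) → w ∈ W := by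
    rintro _ ⟨d, e, hde, rfl⟩ w hw hcm
    refine ⟨hw, ?_⟩
    show g * w * g⁻¹ ∈ Subgroup.normalizer (D.V : Set G)
    refine cent_du hS hde ?_
    calc g * w * g⁻¹ * du D d e = g * (w * (g⁻¹ * du D d e * g)) * g⁻¹ := by group
      _ = g * ((g⁻¹ * du D d e * g) * w) * g⁻¹ := by rw [hcm]
      _ = _ := by group
  have hWs : ∀ u v, u ≠ v → ((F.s u = u ∧ F.s v = v) ∨ (F.s u = v ∧ F.s v = u)) →
      du D u v ∈ W := fun u v huv h =>
    hWgood _ ⟨F.p, F.q, hpq, rfl⟩ _ (du_mem D u v) (du_comm_of D (hkN _ ht0) (by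
      show ((pr D (g⁻¹ * t0 D F * g) : P24) u = u ∧ _) ∨ _
      rw [hk0]; exact h))
  have hWout : ∀ y, y ∉ F.O → du D y F.p ∈ W := by
    intro y hy
    by_cases hyp : y = F.p
    · rw [hyp, du_self]; exact one_mem _
    by_cases hyq : y = F.q
    · rw [hyq]; exact hWs _ _ hpq.symm (Or.inr ⟨F.sq, F.sp⟩)
    obtain ⟨i, hi⟩ := F.outside_orbit hxO hxp hxq hy hyp hyq
    -- the conjugate of the duad vector by a power of the element of order seven
    set Z := g * Y D F ^ i * g⁻¹ with hZ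
    have hZS : Z ∈ S7 D F := hgS _ (Subgroup.pow_mem _ (Subgroup.mem_zpowers _) i)
    have hZk := comm_of_mem_S7 D F hZS (kk_Y D F).symm
    have hZN : Z ∈ Subgroup.normalizer (D.V : Set G) := by
      obtain ⟨n, hn⟩ := Subgroup.mem_zpowers_iff.1 hZS
      rw [← hn]; exact Subgroup.zpow_mem _ (Y_mem D F) n
    have hd' : Z * du D d e * Z⁻¹ = du D ((pr D Z : P24) d) ((pr D Z : P24) e) := du_conj D hZN d e
    refine hWgood _ ⟨_, _, (pr D Z : P24).injective.ne hde, hd'.symm⟩ _ (du_mem D y F.p) ?_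
    have he : g⁻¹ * (Z * du D d e * Z⁻¹) * g =
        Y D F ^ i * (g⁻¹ * du D d e * g) * (Y D F ^ i)⁻¹ := by rw [hZ]; group
    rw [he]
    have hN : Y D F ^ i * (g⁻¹ * du D d e * g) * (Y D F ^ i)⁻¹ ∈
        Subgroup.normalizer (D.V : Set G) :=
      mul_mem (mul_mem (pow_mem (Y_mem D F) i) (hkN _ hd)) (inv_mem (pow_mem (Y_mem D F) i))
    refine du_comm_of D hN ?_
    have hpY : ∀ n : ℕ, (pr D (Y D F ^ n) : P24) = F.y ^ n := by
      intro n
      induction n with
      | zero => rw [pow_zero, pr_one]; rfl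
      | succ n ih =>
        rw [pow_succ, pr_mul D (pow_mem (Y_mem D F) n) (Y_mem D F), Subgroup.coe_mul, ih, pr_Y,
          pow_succ]
    have hprod : (pr D (Y D F ^ i * (g⁻¹ * du D d e * g) * (Y D F ^ i)⁻¹) : P24) =
        F.y ^ i * (pr D (g⁻¹ * du D d e * g) : P24) * (F.y ^ i)⁻¹ := by
      rw [pr_mul D (mul_mem (pow_mem (Y_mem D F) i) (hkN _ hd)) (inv_mem (pow_mem (Y_mem D F) i)),
        pr_mul D (pow_mem (Y_mem D F) i) (hkN _ hd), pr_inv D (pow_mem (Y_mem D F) i)]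
      simp [hpY]
    rw [hprod]
    have hp0 : (F.y ^ i)⁻¹ F.p = F.p := by
      rw [Equiv.Perm.inv_def, Equiv.symm_apply_eq, F.pow_fix ((F.yfix _).2 (Or.inl rfl))]
    have hpfix : (F.y ^ i * (pr D (g⁻¹ * du D d e * g) : P24) * (F.y ^ i)⁻¹) F.p = F.p := by
      simp only [Equiv.Perm.mul_apply]
      rw [hp0, hdfix, F.pow_fix ((F.yfix _).2 (Or.inl rfl))]
    refine Or.inl ⟨?_, hpfix⟩
    simp only [Equiv.Perm.mul_apply]
    rcases hi with hi | hi
    · rw [← hi]; simp [hxfix]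
    · have hτs : (pr D (g⁻¹ * du D d e * g) : P24) * F.s =
          F.s * (pr D (g⁻¹ * du D d e * g) : P24) := by
        rw [← hk0, ← Subgroup.coe_mul, ← Subgroup.coe_mul, ← pr_mul D (hkN _ hd) (hkN _ ht0),
          ← pr_mul D (hkN _ ht0) (hkN _ hd)]
        obtain ⟨i1, hi1⟩ := (D.mem_V _).1 (du_mem D d e)
        have hc' := D.ι_comm i1 (D.C.q F.p + D.C.q F.q)
        rw [hi1] at hc'
        congr 2
        show g⁻¹ * du D d e * g * (g⁻¹ * t0 D F * g) = g⁻¹ * t0 D F * g * (g⁻¹ * du D d e * g)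
        calc g⁻¹ * du D d e * g * (g⁻¹ * t0 D F * g) = g⁻¹ * (du D d e * t0 D F) * g := by group
          _ = g⁻¹ * (t0 D F * du D d e) * g := by
            show g⁻¹ * (du D d e * D.ι (D.C.q F.p + D.C.q F.q)) * g = _
            rw [hc']; rfl
          _ = _ := by group
      rw [← hi]
      simp only [Equiv.Perm.inv_def, Equiv.symm_apply_apply]
      refine congrArg _ ?_
      rw [← Equiv.Perm.mul_apply, hτs, Equiv.Perm.mul_apply, hxfix]
  -- the subgroup has index at most two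
  set ε := du D F.r F.p with hε
  let R : G → Prop := fun v => v ∈ W ∨ v * ε ∈ W
  have hWV : ∀ w ∈ W, w ∈ D.V := fun w hw => hw.1
  have hεV : ε ∈ D.V := du_mem D _ _
  have hε2 : ε * ε = 1 := du_sq D _ _
  have hVc : ∀ v ∈ D.V, ∀ w ∈ D.V, v * w = w * v := by
    intro v hv w hw
    obtain ⟨i, rfl⟩ := (D.mem_V v).1 hv
    obtain ⟨j, rfl⟩ := (D.mem_V w).1 hw
    exact D.ι_comm i j
  have hRV : ∀ v, R v → v ∈ D.V := by
    rintro v (h | h)
    · exact hWV v h
    · have := mul_mem (hWV _ h) hεV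
      rwa [mul_assoc, hε2, mul_one] at this
  have hRmul : ∀ v w, R v → R w → R (v * w) := by
    intro v w hv hw
    have hwV := hRV w hw
    rcases hv with hv | hv <;> rcases hw with hw | hw
    · exact Or.inl (mul_mem hv hw)
    · exact Or.inr (by rw [mul_assoc]; exact mul_mem hv hw)
    · refine Or.inr ?_
      have := mul_mem hv hw
      rwa [mul_assoc, hVc ε hεV w hwV, ← mul_assoc] at this
    · refine Or.inl ?_
      have := mul_mem hv hw
      rwa [mul_assoc, ← mul_assoc ε, hVc ε hεV w hwV, mul_assoc w, hε2, mul_one] at this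
  have hRp : ∀ y, R (du D y F.p) := by
    intro y
    by_cases hy : y ∈ F.O
    · by_cases hyr : y = F.r
      · refine Or.inr ?_
        rw [hyr, hε, du_sq]; exact one_mem _
      · refine Or.inr ?_
        rw [← du_mul D y F.r F.p, mul_assoc, hε, du_sq, mul_one]
        exact hWs _ _ hyr (Or.inl ⟨F.mem_O.1 hy, F.sr⟩)
    · exact Or.inl (hWout y hy)
  have hR : ∀ v ∈ D.V, R v := by
    intro v hv
    obtain ⟨i, rfl⟩ := (D.mem_V v).1 hv
    obtain ⟨s, hs, rfl⟩ := D.C.gen i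
    have key : ∀ t : Finset GolayPt, R (D.ι (∑ y ∈ t, (D.C.q y + D.C.q F.p))) := by
      intro t
      induction t using Finset.induction_on with
      | empty => rw [Finset.sum_empty, D.ι_zero]; exact Or.inl (one_mem _)
      | insert y t hy ih => rw [Finset.sum_insert hy, D.ι_add]; exact hRmul _ _ (hRp y) ih
    have := key s
    have he : ∑ y ∈ s, (D.C.q y + D.C.q F.p) = ∑ y ∈ s, D.C.q y := by
      rw [Finset.sum_add_distrib, Finset.sum_const]
      obtain ⟨m, hm⟩ := hs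
      rw [hm, add_nsmul, D.C.two, add_zero]
    rwa [he] at this
  have hW : 2 ^ 10 ≤ Nat.card W := by
    have hcov : (D.V : Set G) ⊆ (W : Set G) ∪ (fun w => w * ε) '' (W : Set G) := by
      intro v hv
      rcases hR v hv with h | h
      · exact Or.inl h
      · exact Or.inr ⟨v * ε, h, by show v * ε * ε = v; rw [mul_assoc, hε2, mul_one]⟩
    have h1 := Set.ncard_le_ncard hcov (Set.toFinite _)
    have h2 := Set.ncard_union_le (W : Set G) ((fun w => w * ε) '' (W : Set G))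
    have h3 := Set.ncard_image_le (f := fun w => w * ε) (Set.toFinite (W : Set G))
    have e1 : (D.V : Set G).ncard = Nat.card D.V := (Nat.card_coe_set_eq _).symm
    have e2 : (W : Set G).ncard = Nat.card W := (Nat.card_coe_set_eq _).symm
    rw [D.card] at e1
    omega
  -- the conjugate meets the normaliser in a large elementary abelian group
  let B : Subgroup G := D.V.map (MulAut.conj g).toMonoidHom ⊓ Subgroup.normalizer (D.V : Set G)
  have hBW : W.map (MulAut.conj g).toMonoidHom ≤ B := by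
    rintro _ ⟨w, hw, rfl⟩
    exact ⟨Subgroup.mem_map_of_mem _ hw.1, hw.2⟩
  have hB : 2 ^ 10 ≤ Nat.card B := by
    have := Nat.card_le_card_of_injective _ (Subgroup.inclusion_injective hBW)
    rw [Subgroup.card_map_of_injective (MulAut.conj g).injective] at this
    omega
  have hBc : ∀ u ∈ B, ∀ w ∈ B, u * w = w * u ∧ u * u = 1 := by
    rintro _ ⟨⟨u, hu, rfl⟩, -⟩ _ ⟨⟨w, hw, rfl⟩, -⟩
    rw [← map_mul, ← map_mul, hVc u hu w hw]
    obtain ⟨i, rfl⟩ := (D.mem_V u).1 hu
    exact ⟨rfl, by rw [← map_mul, ← D.ι_add, D.C.two, D.ι_zero, map_one]⟩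
  have hkB : kk D F ∈ B :=
    ⟨hgt ▸ Subgroup.mem_map_of_mem _ (du_mem D F.p F.q), kk_mem D F⟩
  let f : B →* M24 := MonoidHom.mk' (fun u => pr D u) fun u w => by
    rw [Subgroup.coe_mul]; exact pr_mul D u.2.2 w.2.2
  let Bp : Subgroup P24 := f.range.map M24.subtype
  have hBp : Nat.card Bp = Nat.card f.range :=
    Subgroup.card_map_of_injective M24.subtype_injective
  have hmemBp : ∀ b : P24, b ∈ Bp ↔ ∃ u : B, (pr D (u : G) : P24) = b := by
    intro b
    constructor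
    · rintro ⟨_, ⟨u, rfl⟩, rfl⟩; exact ⟨u, rfl⟩
    · rintro ⟨u, rfl⟩; exact ⟨_, ⟨u, rfl⟩, rfl⟩
  have h16 : Nat.card f.range ≤ 16 := by
    rw [← hBp]
    refine F.card_le_sixteen Bp ?_ ?_ ?_ ?_ ((hmemBp _).2 ⟨⟨_, hkB⟩, pr_kk D F⟩)
    · rintro _ ⟨σ, -, rfl⟩; exact σ.2
    · intro b hb
      obtain ⟨u, rfl⟩ := (hmemBp b).1 hb
      rw [← Subgroup.coe_mul, ← pr_mul D u.2.2 u.2.2, (hBc u u.2 u u.2).2, pr_one]; rfl
    · intro b hb
      obtain ⟨u, rfl⟩ := (hmemBp b).1 hb
      have hYV : Y D F * u * (Y D F)⁻¹ ∈ B := by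
        refine Subgroup.mem_inf.2 ⟨?_, Subgroup.mul_mem _ (Subgroup.mul_mem _ (Y_mem D F) u.2.2)
          (Subgroup.inv_mem _ (Y_mem D F))⟩
        obtain ⟨w, hw, e⟩ := u.2.1
        have hN : g⁻¹ * Y D F * g ∈ Subgroup.normalizer (D.V : Set G) := by
          obtain ⟨n, hn⟩ := Subgroup.mem_zpowers_iff.1 (hgS' _ (Subgroup.mem_zpowers (Y D F)))
          rw [← hn]; exact Subgroup.zpow_mem _ (Y_mem D F) n
        refine ⟨_, (Subgroup.mem_normalizer_iff.1 hN w).1 hw, ?_⟩
        rw [← e]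
        show g * (g⁻¹ * Y D F * g * w * (g⁻¹ * Y D F * g)⁻¹) * g⁻¹ =
          Y D F * (g * w * g⁻¹) * (Y D F)⁻¹
        group
      refine (hmemBp _).2 ⟨⟨_, hYV⟩, ?_⟩
      show (pr D (Y D F * u * (Y D F)⁻¹) : P24) = _
      rw [pr_mul D (mul_mem (Y_mem D F) u.2.2) (inv_mem (Y_mem D F)), pr_mul D (Y_mem D F) u.2.2,
        pr_inv D (Y_mem D F)]
      simp [pr_Y]
    · intro b hb
      obtain ⟨u, rfl⟩ := (hmemBp b).1 hb
      rw [← pr_kk D F, ← Subgroup.coe_mul, ← Subgroup.coe_mul, ← pr_mul D u.2.2 (kk_mem D F),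
        ← pr_mul D (kk_mem D F) u.2.2, (hBc u u.2 _ hkB).1]
  let U : Subgroup G := B ⊓ D.V
  have hker : Nat.card f.ker ≤ Nat.card U :=
    Nat.card_le_card_of_injective
      (fun u => (⟨((u : B) : G), (u : B).2, mem_V_of_pr D (u : B).2.2 u.2⟩ : U))
      fun u w h => by
        have := congrArg (fun t : U => (t : G)) h
        exact Subtype.ext (Subtype.ext this)
  have hU : 64 ≤ Nat.card U := by
    have h1 := f.ker.card_mul_index
    rw [Subgroup.index_ker] at h1
    have h3 : Nat.card f.ker * Nat.card f.range ≤ Nat.card U * 16 := Nat.mul_le_mul hker h16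
    omega
  have hUC : U ≤ D.V ⊓ Subgroup.centralizer ({kk D F} : Set G) := fun u hu =>
    ⟨hu.2, Subgroup.mem_centralizer_singleton_iff.2 (hBc u hu.1 _ hkB).1⟩
  -- a subgroup of index two meets every triangle
  have hbad : ∀ x y, x ≠ y → du D x y * kk D F = kk D F * du D x y → du D x y ∉ U := by
    intro x y hxy hc hmem
    obtain ⟨w, hw, e⟩ := hmem.1.1
    refine hnoduad x y hxy hc ?_
    rw [← e]
    show g⁻¹ * (g * w * g⁻¹) * g ∈ D.V
    rw [show g⁻¹ * (g * w * g⁻¹) * g = w by group]; exact hw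
  have c1 := hOc F.r a F.r_mem ha.2
  have c2 := hOc a b ha.2 hb.2.2
  have c3 := hOc F.r b F.r_mem hb.2.2
  set u1 := du D F.r a with hu1
  have hcov : (U : Set G) ∪ (fun w => u1 * w) '' (U : Set G) =
      ((D.V ⊓ Subgroup.centralizer ({kk D F} : Set G) : Subgroup G) : Set G) := by
    have hu1C : u1 ∈ D.V ⊓ Subgroup.centralizer ({kk D F} : Set G) :=
      ⟨du_mem D _ _, Subgroup.mem_centralizer_singleton_iff.2 c1⟩
    refine Set.eq_of_subset_of_ncard_le ?_ ?_ (Set.toFinite _)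
    · rintro w (h | ⟨w, h, rfl⟩)
      · exact hUC h
      · exact mul_mem hu1C (hUC h)
    · have hd : Disjoint (U : Set G) ((fun w => u1 * w) '' (U : Set G)) := by
        rw [Set.disjoint_left]
        rintro _ h ⟨w, hw, rfl⟩
        have := mul_mem h (inv_mem hw)
        rw [mul_inv_cancel_right] at this
        exact hbad _ _ ha.1.symm c1 this
      rw [Set.ncard_union_eq hd (Set.toFinite _) (Set.toFinite _),
        Set.ncard_image_of_injective _ (mul_right_injective u1)]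
      have e1 : (U : Set G).ncard = Nat.card U := (Nat.card_coe_set_eq _).symm
      have e2 := card_fixed_le D F
      have e3 : ((D.V ⊓ Subgroup.centralizer ({kk D F} : Set G) : Subgroup G) : Set G).ncard =
          Nat.card ↥(D.V ⊓ Subgroup.centralizer ({kk D F} : Set G)) := (Nat.card_coe_set_eq _).symm
      omega
  have h3mem : du D F.r b ∈ (U : Set G) ∪ (fun w => u1 * w) '' (U : Set G) := by
    rw [hcov]
    exact ⟨du_mem D _ _, Subgroup.mem_centralizer_singleton_iff.2 c3⟩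
  rcases h3mem with h | ⟨w, hw, he⟩
  · exact hbad _ _ hb.2.1.symm c3 h
  · refine hbad _ _ (Ne.symm hb.1) c2 ?_
    have : w = du D a b := by
      have h1 : u1 * (u1 * w) = u1 * du D F.r b := congrArg (u1 * ·) he
      rw [← mul_assoc, hu1, du_sq, one_mul, du_symm D F.r a, du_mul] at h1
      exact h1
    rwa [← this]

end CfsgLib.Spor.JankoFourSeven
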