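import Cfsg.Agent.Lib.Spor.JankoFourSeven.Count
import Cfsg.Prelude.Def_TwoFusion

/-!
The local structure at the prime seven of a group of Janko-four type.
-/

set_option autoImplicit false
set_option linter.unusedSectionVars false

namespace CfsgLib.Spor.JankoFourSeven

open Cfsg CfsgLib.Spor CfsgLib.Spor.JankoFourCentral
open scoped Pointwise symmDiff

universe u v

variable {G : Type u} [Group G] [Finite G] {z : G} {A : Type v} [AddCommGroup A]

/-- conjugation maps the centraliser of a set onto the centraliser of the conjugate set -/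
theorem map_cent (g : G) (S : Subgroup G) :
    (Subgroup.centralizer (S : Set G)).map (MulAut.conj g).toMonoidHom =
      Subgroup.centralizer ((S.map (MulAut.conj g).toMonoidHom : Subgroup G) : Set G) := by
  ext x
  rw [Subgroup.mem_map_equiv, MulAut.conj_symm_apply, Subgroup.mem_centralizer_iff,
    Subgroup.mem_centralizer_iff]
  constructor
  · rintro h _ ⟨a, ha, rfl⟩
    have := h a ha
    show g * a * g⁻¹ * x = x * (g * a * g⁻¹)
    calc g * a * g⁻¹ * x = g * (a * (g⁻¹ * x * g)) * g⁻¹ := by group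
      _ = g * (g⁻¹ * x * g * a) * g⁻¹ := by rw [this]
      _ = _ := by group
  · intro h a ha
    have := h _ (Subgroup.mem_map_of_mem (MulAut.conj g).toMonoidHom ha)
    change g * a * g⁻¹ * x = x * (g * a * g⁻¹) at this
    calc a * (g⁻¹ * x * g) = g⁻¹ * (g * a * g⁻¹ * x) * g := by group
      _ = g⁻¹ * (x * (g * a * g⁻¹)) * g := by rw [this]
      _ = _ := by group

theorem map_cent_singleton (g x : G) :
    (Subgroup.centralizer ({x} : Set G)).map (MulAut.conj g).toMonoidHom =
      Subgroup.centralizer ({g * x * g⁻¹} : Set G) := by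
  ext w
  rw [Subgroup.mem_map_equiv, MulAut.conj_symm_apply, Subgroup.mem_centralizer_singleton_iff,
    Subgroup.mem_centralizer_singleton_iff]
  constructor
  · intro h
    calc w * (g * x * g⁻¹) = g * (g⁻¹ * w * g * x) * g⁻¹ := by group
      _ = g * (x * (g⁻¹ * w * g)) * g⁻¹ := by rw [h]
      _ = _ := by group
  · intro h
    calc g⁻¹ * w * g * x = g⁻¹ * (w * (g * x * g⁻¹)) * g := by group
      _ = g⁻¹ * ((g * x * g⁻¹) * w) * g := by rw [h]
      _ = _ := by group

theorem map_cent_inf (g x : G) (S : Subgroup G) :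
    (Subgroup.centralizer ({x} : Set G) ⊓ Subgroup.centralizer (S : Set G)).map
        (MulAut.conj g).toMonoidHom =
      Subgroup.centralizer ({g * x * g⁻¹} : Set G) ⊓
        Subgroup.centralizer ((S.map (MulAut.conj g).toMonoidHom : Subgroup G) : Set G) := by
  rw [Subgroup.map_inf _ _ _ (MulAut.conj g).injective, map_cent, map_cent_singleton]

theorem map_conj_conj (g : G) (S : Subgroup G) :
    (S.map (MulAut.conj g).toMonoidHom).map (MulAut.conj g⁻¹).toMonoidHom = S := by
  rw [Subgroup.map_map]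
  convert Subgroup.map_id S using 2
  ext a
  show g⁻¹ * (g * a * g⁻¹) * g⁻¹⁻¹ = a
  group

variable {D : Eleven z A}

/-- the facts about the centraliser of the involution, transported to the lift of the involution
of `M24` -/
theorem hfacts (F : Cfg) (hS : Std D)
    (h49 : ¬ 49 ∣ Nat.card (Subgroup.centralizer ({z} : Set G)))
    (hH : ∀ S : Subgroup G, Nat.card S = 7 → S ≤ Subgroup.centralizer ({z} : Set G) →
      (∃ t ∈ Subgroup.centralizer (S : Set G), orderOf t = 2 ∧ ¬ IsConj z t) →
      (∀ t ∈ Subgroup.centralizer (S : Set G), orderOf t = 2 → ¬ IsConj z t →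
        Nat.card ↥(Subgroup.centralizer ({t} : Set G) ⊓ Subgroup.centralizer (S : Set G)) = 56) →
      Nat.card ↥(Subgroup.centralizer ({z} : Set G) ⊓ Subgroup.centralizer (S : Set G)) = 84 ∧
        ∃ R : Subgroup G, Nat.card R = 3 ∧
          R ≤ Subgroup.centralizer ({z} : Set G) ⊓ Subgroup.centralizer (S : Set G) ∧
          Subgroup.centralizer ({z} : Set G) ⊓ Subgroup.centralizer (S : Set G) ≤
            Subgroup.normalizer (R : Set G)) :
    HFacts D F := by
  obtain ⟨g, hg⟩ := isConj_iff.1 (isConj_kk F hS)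
  set S := (S7 D F).map (MulAut.conj g⁻¹).toMonoidHom with hSd
  have hS7 : S.map (MulAut.conj g).toMonoidHom = S7 D F := by
    have := map_conj_conj g⁻¹ (S7 D F)
    rwa [inv_inv] at this
  have hScard : Nat.card S = 7 := by
    rw [hSd, Subgroup.card_map_of_injective (MulAut.conj g⁻¹).injective, card_S7]
  have hSz : S ≤ Subgroup.centralizer ({z} : Set G) := by
    have h1 := Subgroup.map_mono (f := (MulAut.conj g⁻¹).toMonoidHom)
      (S7_le_cent D F (kk_Y D F).symm)
    rwa [map_cent_singleton, ← hg, show g⁻¹ * (g * z * g⁻¹) * g⁻¹⁻¹ = z by group] at h1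
  have hCS : ∀ t, t ∈ Subgroup.centralizer (S : Set G) →
      g * t * g⁻¹ ∈ Subgroup.centralizer (S7 D F : Set G) := by
    intro t ht
    rw [← hS7, ← map_cent]
    exact ⟨t, ht, rfl⟩
  have htr : ∀ t, ¬ IsConj z t → ¬ IsConj z (g * t * g⁻¹) := fun t h h' =>
    h (h'.trans (isConj_iff.2 ⟨g⁻¹, by group⟩))
  obtain ⟨hc, R, hR3, hRle, hRn⟩ := hH S hScard hSz
    ⟨g⁻¹ * t0 D F * g, by
      rw [← map_conj_conj g S, hS7, ← map_cent]
      exact ⟨t0 D F, mem_cent_S7 F (Y_t0 D F).symm, by show g⁻¹ * t0 D F * g⁻¹⁻¹ = _; group⟩,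
      by
        rw [show g⁻¹ * t0 D F * g = MulAut.conj g⁻¹ (t0 D F) by simp,
          (MulAut.conj g⁻¹).orderOf_eq]
        exact orderOf_eq_prime (by rw [pow_two]; exact du_sq D _ _) (du_ne_one D F.hpq),
      fun h => du_not_conj D F.hpq (h.trans (isConj_iff.2 ⟨g, by rw [t0]; group⟩))⟩
    (fun t ht ho hnz => by
      have h := card_cent_t_type F hS (hCS t ht) ((MulAut.conj g).orderOf_eq t ▸ ho) (htr t hnz)
      rw [← hS7, ← map_cent_inf, Subgroup.card_map_of_injective (MulAut.conj g).injective] at h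
      exact h)
  refine ⟨h49, ?_, R.map (MulAut.conj g).toMonoidHom, ?_, ?_, ?_⟩
  · rw [← hS7, ← hg, ← map_cent_inf, Subgroup.card_map_of_injective (MulAut.conj g).injective, hc]
  · rw [Subgroup.card_map_of_injective (MulAut.conj g).injective, hR3]
  · rw [← hS7, ← hg, ← map_cent_inf]
    exact Subgroup.map_mono hRle
  · rw [← hS7, ← hg, ← map_cent_inf, ← Subgroup.map_equiv_normalizer_eq]
    exact Subgroup.map_mono hRn

/-- the order of the group is not divisible by `49` -/
theorem not_dvd_card (F : Cfg) (hS : Std D) (hF : HFacts D F) : ¬ 49 ∣ Nat.card G := by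
  haveI : Fact (Nat.Prime 7) := ⟨by norm_num⟩
  intro h
  obtain ⟨K, hK, hle⟩ := Sylow.exists_subgroup_card_pow_succ (p := 7) (n := 1)
    (by norm_num; exact h) (H := S7 D F) (by rw [card_S7, pow_one])
  have hcomm : ∀ a b : K, a * b = b * a := fun a b =>
    IsPGroup.commutative_of_card_eq_prime_sq (p := 7) hK a b
  have hKN : K ≤ Subgroup.normalizer (S7 D F : Set G) := fun a ha =>
    Subgroup.centralizer_le_normalizer _ (Subgroup.mem_centralizer_iff.2 fun b hb =>
      congrArg Subtype.val (hcomm ⟨b, hle hb⟩ ⟨a, ha⟩))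
  have := Subgroup.card_dvd_of_le hKN
  rw [hK, card_normalizer F hS hF] at this
  norm_num at this

/-- the centraliser of the subgroup of order seven has order `840` -/
theorem card_cent (F : Cfg) (hS : Std D) (hF : HFacts D F) :
    Nat.card ↥(Subgroup.centralizer (S7 D F : Set G)) = 840 := by
  have h := card_split F hS (⊤ : Subgroup G) (Subgroup.mem_top _)
  rw [inf_top_eq, inf_top_eq, card_normalizer F hS hF] at h
  omega

/-- the local structure at seven -/
theorem seven_local (hS : Std D) (h49 : ¬ 49 ∣ Nat.card (Subgroup.centralizer ({z} : Set G)))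
    (hH : ∀ S : Subgroup G, Nat.card S = 7 → S ≤ Subgroup.centralizer ({z} : Set G) →
      (∃ t ∈ Subgroup.centralizer (S : Set G), orderOf t = 2 ∧ ¬ IsConj z t) →
      (∀ t ∈ Subgroup.centralizer (S : Set G), orderOf t = 2 → ¬ IsConj z t →
        Nat.card ↥(Subgroup.centralizer ({t} : Set G) ⊓ Subgroup.centralizer (S : Set G)) = 56) →
      Nat.card ↥(Subgroup.centralizer ({z} : Set G) ⊓ Subgroup.centralizer (S : Set G)) = 84 ∧
        ∃ R : Subgroup G, Nat.card R = 3 ∧
          R ≤ Subgroup.centralizer ({z} : Set G) ⊓ Subgroup.centralizer (S : Set G) ∧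
          Subgroup.centralizer ({z} : Set G) ⊓ Subgroup.centralizer (S : Set G) ≤
            Subgroup.normalizer (R : Set G))
    (hrec : ∀ (I : Subgroup G), Nat.card I = 120 →
      (∀ x : I, orderOf x = 2 → ¬ 5 ∣ Nat.card ↥(Subgroup.centralizer ({x} : Set I))) →
      Nonempty (↥I ≃* Equiv.Perm (Fin 5)))
    (S : Subgroup G) (hScard : Nat.card ↥S = 7) (hSz : S ≤ Subgroup.centralizer ({z} : Set G)) :
    ¬ (49 ∣ Nat.card G) ∧
    (∃ I : Subgroup G, Cfsg.IsInternalDirectProduct S I (Subgroup.centralizer (S : Set G)) ∧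
      Nonempty (↥I ≃* Equiv.Perm (Fin 5))) ∧
    Nat.card ↥(Subgroup.normalizer (S : Set G)) = 3 * Nat.card ↥(Subgroup.centralizer (S : Set G)) ∧
    Nat.card ↥(Subgroup.normalizer (S : Set G)) = 2 ^ 3 * 3 ^ 2 * 5 * 7 := by
  haveI : Fact (Nat.Prime 7) := ⟨by norm_num⟩
  obtain ⟨F⟩ := exists_cfg
  have hF := hfacts F hS h49 hH
  -- the subgroup is conjugate to the standard one
  obtain ⟨g, hg⟩ := isConj_iff.1 (isConj_kk F hS)
  have h49k : ¬ 49 ∣ Nat.card (Subgroup.centralizer ({kk D F} : Set G)) :=
    cent49 F hS hF (orderOf_kk D F)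
  have hSk : S.map (MulAut.conj g).toMonoidHom ≤ Subgroup.centralizer ({kk D F} : Set G) := by
    rw [← hg, ← map_cent_singleton]; exact Subgroup.map_mono hSz
  obtain ⟨c, -, hc⟩ := exists_conj_seven h49k hSk (S7_le_cent D F (kk_Y D F).symm)
    (by rw [Subgroup.card_map_of_injective (MulAut.conj g).injective, hScard]) (card_S7 D F)
  have hS7 : S.map (MulAut.conj (c * g)).toMonoidHom = S7 D F := by
    rw [← hc, Subgroup.map_map]
    congr 1
    ext a
    show c * g * a * (c * g)⁻¹ = c * (g * a * g⁻¹) * c⁻¹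
    group
  have hN : Nat.card ↥(Subgroup.normalizer (S : Set G)) = 2520 := by
    rw [← Subgroup.card_map_of_injective (K := Subgroup.normalizer (S : Set G))
      (f := (MulAut.conj (c * g)).toMonoidHom) (MulAut.conj (c * g)).injective,
      Subgroup.map_equiv_normalizer_eq, hS7, card_normalizer F hS hF]
  have hC : Nat.card ↥(Subgroup.centralizer (S : Set G)) = 840 := by
    rw [← Subgroup.card_map_of_injective (K := Subgroup.centralizer (S : Set G))
      (f := (MulAut.conj (c * g)).toMonoidHom) (MulAut.conj (c * g)).injective,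
      map_cent, hS7, card_cent F hS hF]
  refine ⟨not_dvd_card F hS hF, ?_, by rw [hN, hC], by rw [hN]; norm_num⟩
  -- the normal complement
  set C := Subgroup.centralizer (S : Set G) with hCd
  have hSC : S ≤ C := fun a ha => Subgroup.mem_centralizer_iff.2 fun b hb => by
    haveI := isCyclic_of_prime_card hScard
    exact congrArg Subtype.val (mul_comm' (⟨b, hb⟩ : S) ⟨a, ha⟩)
  let P : Sylow 7 C := Sylow.ofCard (S.subgroupOf C) (by
    rw [Nat.card_congr (Subgroup.subgroupOfEquivOfLe hSC).toEquiv, hScard, hC,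
      show (840 : ℕ) = 7 ^ 1 * 120 by norm_num, Nat.factorization_mul (by norm_num) (by norm_num),
      Finsupp.add_apply, Nat.Prime.factorization_pow (by norm_num), Finsupp.single_eq_same,
      Nat.factorization_eq_zero_of_not_dvd (by norm_num : ¬ 7 ∣ 120)]
    norm_num)
  have hP : (P : Subgroup C) = S.subgroupOf C := Sylow.coe_ofCard _ _
  have hPc : Subgroup.normalizer ((P : Subgroup C) : Set C) ≤
      Subgroup.centralizer ((P : Subgroup C) : Set C) := by
    intro a _
    rw [hP]
    refine Subgroup.mem_centralizer_iff.2 fun b hb => Subtype.ext ?_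
    exact Subgroup.mem_centralizer_iff.1 a.2 _ (Subgroup.mem_subgroupOf.1 hb)
  have hcompl := MonoidHom.ker_transferSylow_isComplement' P hPc
  set Kc := (MonoidHom.transferSylow P hPc).ker with hKc
  rw [hP] at hcompl
  refine ⟨Kc.map C.subtype, ⟨hSC, Subgroup.map_subtype_le _, ?_, ?_, ?_⟩, hrec _ ?_ ?_⟩
  · rintro a ha _ ⟨b, -, rfl⟩
    exact Subgroup.mem_centralizer_iff.1 b.2 a ha
  · rw [eq_bot_iff]
    rintro a ⟨ha, b, hb, rfl⟩
    have h1 := hcompl.disjoint.le_bot ⟨hb, Subgroup.mem_subgroupOf.2 ha⟩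
    rw [Subgroup.mem_bot] at h1 ⊢
    rw [h1]; rfl
  · refine le_antisymm (sup_le hSC (Subgroup.map_subtype_le _)) fun a ha => ?_
    have htop := hcompl.sup_eq_top
    have := congrArg (Subgroup.map C.subtype) htop
    rw [Subgroup.map_sup, Subgroup.map_subgroupOf_eq_of_le hSC, ← MonoidHom.range_eq_map,
      Subgroup.range_subtype, sup_comm] at this
    rw [this]; exact ha
  · have h1 := hcompl.card_mul
    rw [Nat.card_congr (Subgroup.subgroupOfEquivOfLe hSC).toEquiv, hScard, hC] at h1
    rw [Subgroup.card_map_of_injective C.subtype_injective]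
    omega
  · rintro ⟨x, y, hy, rfl⟩ hx h5
    have ho : orderOf ((y : C) : G) = 2 := by
      rw [← hx, ← Subgroup.orderOf_coe (⟨C.subtype y, y, hy, rfl⟩ : Kc.map C.subtype)]
      rfl
    have hle : (Subgroup.centralizer ({(⟨C.subtype y, y, hy, rfl⟩ : Kc.map C.subtype)} :
        Set (Kc.map C.subtype))).map (Kc.map C.subtype).subtype ≤
          Subgroup.centralizer ({(y : G)} : Set G) ⊓ C := by
      rintro _ ⟨a, ha, rfl⟩
      refine ⟨Subgroup.mem_centralizer_singleton_iff.2 ?_, Subgroup.map_subtype_le _ a.2⟩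
      exact congrArg Subtype.val (Subgroup.mem_centralizer_singleton_iff.1 ha)
    have h6 := Subgroup.card_dvd_of_le hle
    rw [Subgroup.card_map_of_injective (Kc.map C.subtype).subtype_injective] at h6
    have h7 := h5.trans h6
    rw [← Subgroup.card_map_of_injective (K := Subgroup.centralizer ({(y : G)} : Set G) ⊓ C)
      (f := (MulAut.conj (c * g)).toMonoidHom) (MulAut.conj (c * g)).injective,
      show (Subgroup.centralizer ({(y : G)} : Set G) ⊓ C).map (MulAut.conj (c * g)).toMonoidHom = _
        from map_cent_inf (c * g) (y : G) S, hS7] at h7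
    set w := c * g * (y : G) * (c * g)⁻¹ with hw
    have how : orderOf w = 2 := ((MulAut.conj (c * g)).orderOf_eq (y : G)).trans ho
    have hwC : w ∈ Subgroup.centralizer (S7 D F : Set G) := by
      rw [← hS7, ← map_cent]; exact ⟨y, y.2, rfl⟩
    rcases invol_cases hS F.hpq how with hz | ht
    · obtain ⟨n, hn, e⟩ := exists_normalizer_conj (card_S7 D F) h49k
        (hz.symm.trans (isConj_kk F hS)) (S7_le_cent D F (Y_comm_of_mem F hwC).symm)
        (S7_le_cent D F (kk_Y D F).symm)
      rw [← card_cent_conj hn, e, hF.card] at h7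
      norm_num at h7
    · rw [card_cent_t_type F hS hwC how fun hz => du_not_conj D F.hpq (hz.trans ht.symm)] at h7
      norm_num at h7

end CfsgLib.Spor.JankoFourSeven
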