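import Cfsg.Agent.Lib.Spor.JankoFourSeven.CentT

/-!
The normaliser of the subgroup of order seven is the centraliser extended by an element of order
three of the centraliser of the duad vector and of the involution.
-/

set_option autoImplicit false
set_option linter.unusedSectionVars false

namespace CfsgLib.Spor.JankoFourSeven

open Cfsg CfsgLib.Spor CfsgLib.Spor.JankoFourCentral
open scoped Pointwise symmDiff

universe u v

variable {G : Type u} [Group G] [Finite G] {z : G} {A : Type v} [AddCommGroup A]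
variable {D : Eleven z A}

/-- conjugate elements centralised by a subgroup of order seven are conjugate in its normaliser
if `49` does not divide the order of the centraliser -/
theorem exists_normalizer_conj {x y : G} {S : Subgroup G} (hS : Nat.card S = 7)
    (h49 : ¬ 49 ∣ Nat.card (Subgroup.centralizer ({y} : Set G))) (hxy : IsConj x y)
    (hSx : S ≤ Subgroup.centralizer ({x} : Set G)) (hSy : S ≤ Subgroup.centralizer ({y} : Set G)) :
    ∃ n ∈ Subgroup.normalizer (S : Set G), n * x * n⁻¹ = y := by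
  obtain ⟨g, hg⟩ := isConj_iff.1 hxy
  have hS1 : S.map (MulAut.conj g).toMonoidHom ≤ Subgroup.centralizer ({y} : Set G) := by
    rintro _ ⟨a, ha, rfl⟩
    rw [Subgroup.mem_centralizer_singleton_iff]
    have := Subgroup.mem_centralizer_singleton_iff.1 (hSx ha)
    show g * a * g⁻¹ * y = y * (g * a * g⁻¹)
    rw [← hg]
    calc g * a * g⁻¹ * (g * x * g⁻¹) = g * (a * x) * g⁻¹ := by group
      _ = g * (x * a) * g⁻¹ := by rw [this]
      _ = _ := by group
  obtain ⟨c, hc, hcS⟩ := exists_conj_seven h49 hS1 hSy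
    (by rw [Subgroup.card_map_of_injective (MulAut.conj g).injective, hS]) hS
  refine ⟨c * g, ?_, ?_⟩
  · have key : S.map (MulAut.conj (c * g)).toMonoidHom = S := by
      conv_rhs => rw [← hcS, Subgroup.map_map]
      congr 1
      ext a
      show c * g * a * (c * g)⁻¹ = c * (g * a * g⁻¹) * c⁻¹
      group
    refine Subgroup.mem_normalizer_iff.2 fun a => ⟨fun ha => ?_, fun ha => ?_⟩
    · rw [← key]; exact ⟨a, ha, rfl⟩
    · rw [← key] at ha
      obtain ⟨b, hb, e⟩ := ha
      have : b = a := (MulAut.conj (c * g)).injective e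
      exact this ▸ hb
  · have := Subgroup.mem_centralizer_singleton_iff.1 hc
    calc c * g * x * (c * g)⁻¹ = c * (g * x * g⁻¹) * c⁻¹ := by group
      _ = y := by rw [hg, this, mul_inv_cancel_right]

/-- conjugation by an element normalising the subgroup preserves the centraliser orders -/
theorem card_cent_conj {x n : G} {S : Subgroup G} (hn : n ∈ Subgroup.normalizer (S : Set G)) :
    Nat.card ↥(Subgroup.centralizer ({n * x * n⁻¹} : Set G) ⊓ Subgroup.centralizer (S : Set G)) =
      Nat.card ↥(Subgroup.centralizer ({x} : Set G) ⊓ Subgroup.centralizer (S : Set G)) := by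
  rw [← Subgroup.card_map_of_injective
    (K := Subgroup.centralizer ({x} : Set G) ⊓ Subgroup.centralizer (S : Set G))
    (f := (MulAut.conj n).toMonoidHom) (MulAut.conj n).injective]
  refine congrArg (fun K : Subgroup G => Nat.card K) ?_
  have key : ∀ {m w : G}, m ∈ Subgroup.normalizer (S : Set G) →
      ∀ {a : G}, a ∈ Subgroup.centralizer ({w} : Set G) ⊓ Subgroup.centralizer (S : Set G) →
        m * a * m⁻¹ ∈
          Subgroup.centralizer ({m * w * m⁻¹} : Set G) ⊓ Subgroup.centralizer (S : Set G) := by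
    intro m w hm a ha
    refine Subgroup.mem_inf.2 ⟨Subgroup.mem_centralizer_singleton_iff.2 ?_,
      Subgroup.mem_centralizer_iff.2 fun b hb => ?_⟩
    · have := Subgroup.mem_centralizer_singleton_iff.1 ha.1
      calc m * a * m⁻¹ * (m * w * m⁻¹) = m * (a * w) * m⁻¹ := by group
        _ = m * (w * a) * m⁻¹ := by rw [this]
        _ = _ := by group
    · have hb' : m⁻¹ * b * m ∈ S := by
        have := (Subgroup.mem_normalizer_iff.1 (Subgroup.inv_mem _ hm) b).1 hb
        rwa [inv_inv] at this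
      have := Subgroup.mem_centralizer_iff.1 ha.2 _ hb'
      calc b * (m * a * m⁻¹) = m * (m⁻¹ * b * m * a) * m⁻¹ := by group
        _ = m * (a * (m⁻¹ * b * m)) * m⁻¹ := by rw [this]
        _ = _ := by group
  apply le_antisymm
  · intro b hb
    have := key (Subgroup.inv_mem _ hn) hb
    rw [inv_inv, show n⁻¹ * (n * x * n⁻¹) * n = x by group] at this
    exact ⟨_, this, by show n * (n⁻¹ * b * n) * n⁻¹ = b; group⟩
  · rintro _ ⟨a, ha, rfl⟩
    exact key hn ha

variable (F : Cfg) (hS : Std D)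
include hS

theorem exists_conj_t0 {x : G} (hx : x ∈ Subgroup.centralizer (S7 D F : Set G))
    (ho : orderOf x = 2) (hz : ¬ IsConj z x) :
    ∃ n ∈ Subgroup.normalizer (S7 D F : Set G), n * x * n⁻¹ = t0 D F :=
  exists_normalizer_conj (card_S7 D F) (seven_cent_du hS F.hpq)
    ((invol_cases hS F.hpq ho).resolve_left hz).symm
    (S7_le_cent D F (Y_comm_of_mem F hx).symm) (S7_le_cent D F (Y_t0 D F))

theorem card_cent_t_type {x : G} (hx : x ∈ Subgroup.centralizer (S7 D F : Set G))
    (ho : orderOf x = 2) (hz : ¬ IsConj z x) :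
    Nat.card ↥(Subgroup.centralizer ({x} : Set G) ⊓ Subgroup.centralizer (S7 D F : Set G)) = 56 := by
  obtain ⟨n, hn, e⟩ := exists_conj_t0 F hS hx ho hz
  rw [← card_cent_conj hn, e]
  exact card_cent_t0 F hS

/-- every element of the normaliser is an element of the centraliser times one of the centraliser
of the duad vector -/
theorem exists_adjust {n : G} (hn : n ∈ Subgroup.normalizer (S7 D F : Set G)) :
    ∃ c ∈ Subgroup.centralizer (S7 D F : Set G), c * n * t0 D F = t0 D F * (c * n) := by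
  classical
  haveI : Fact (Nat.Prime 2) := ⟨Nat.prime_two⟩
  set C := Subgroup.centralizer (S7 D F : Set G) with hC
  have ht0C : t0 D F ∈ C := mem_cent_S7 F (Y_t0 D F).symm
  have hkC : kk D F ∈ C := mem_cent_S7 F (kk_Y D F)
  have hduC : ∀ a b, F.y a = a → F.y b = b → du D a b ∈ C := fun a b ha hb =>
    mem_cent_S7 F (du_comm_of D (Y_mem D F) (Or.inl (by rw [pr_Y]; exact ⟨ha, hb⟩))).symm
  have hyr := (F.yfix F.r).2 (Or.inr (Or.inr rfl))
  have hyp := (F.yfix F.p).2 (Or.inl rfl)
  -- the four-group and the involution generate a 2-group inside the centraliser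
  set E := D.V ⊓ C with hE
  have hEle : Subgroup.zpowers (kk D F) ≤ Subgroup.normalizer (E : Set G) := by
    rw [Subgroup.zpowers_le, Subgroup.mem_normalizer_iff]
    intro a
    constructor
    · rintro ⟨h1, h2⟩
      exact ⟨(Subgroup.mem_normalizer_iff.1 (kk_mem D F) a).1 h1,
        Subgroup.mul_mem _ (Subgroup.mul_mem _ hkC h2) (Subgroup.inv_mem _ hkC)⟩
    · rintro ⟨h1, h2⟩
      refine ⟨(Subgroup.mem_normalizer_iff.1 (kk_mem D F) a).2 h1, ?_⟩
      have := Subgroup.mul_mem _ (Subgroup.mul_mem _ (Subgroup.inv_mem _ hkC) h2) hkC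
      rwa [show (kk D F)⁻¹ * (kk D F * a * (kk D F)⁻¹) * kk D F = a by group] at this
  have hE2 : IsPGroup 2 E := D.isPGroup_V.to_le inf_le_left
  have hK2 : IsPGroup 2 (Subgroup.zpowers (kk D F)) :=
    IsPGroup.of_card (n := 1) (by rw [Nat.card_zpowers, orderOf_kk, pow_one])
  have hQ2 : IsPGroup 2 ((Subgroup.zpowers (kk D F) ⊔ E : Subgroup G).subgroupOf C) :=
    (hK2.to_sup_of_normal_right' hE2 hEle).comap_of_injective C.subtype C.subtype_injective
  obtain ⟨T, hT⟩ := hQ2.exists_le_sylow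
  have hinT : ∀ {a : G} (ha : a ∈ C), a ∈ Subgroup.zpowers (kk D F) ⊔ E →
      (⟨a, ha⟩ : C) ∈ (T : Subgroup C) := fun ha h => hT h
  have hkT := hinT hkC (Subgroup.mem_sup_left (Subgroup.mem_zpowers _))
  have htT := hinT ht0C (Subgroup.mem_sup_right ⟨du_mem D _ _, ht0C⟩)
  have hprC := hduC F.p F.r hyp hyr
  have hrT := hinT hprC (Subgroup.mem_sup_right ⟨du_mem D _ _, hprC⟩)
  -- central involutions of the Sylow subgroup are the duad vector
  have hcen : ∀ a : C, a ∈ (T : Subgroup C) → orderOf a = 2 →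
      (∀ b ∈ (T : Subgroup C), a * b = b * a) → (a : G) = t0 D F := by
    intro a _ hord hcomm
    have c1 : (a : G) * t0 D F = t0 D F * a := congrArg Subtype.val (hcomm _ htT)
    have c2 : (a : G) * kk D F = kk D F * a := congrArg Subtype.val (hcomm _ hkT)
    have c3 : (a : G) * du D F.p F.r = du D F.p F.r * a := congrArg Subtype.val (hcomm _ hrT)
    have ho : orderOf (a : G) = 2 := by rw [Subgroup.orderOf_coe, hord]
    have ha2 : (a : G) * a = 1 := by rw [← pow_two, ← ho, pow_orderOf_eq_one]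
    have hk_du : ∀ x, F.s x ≠ x → F.s x ≠ F.r → F.r ≠ x →
        kk D F * du D x F.r ≠ du D x F.r * kk D F := by
      intro x h1 h2 h3 h
      rw [du_commute_iff D (kk_mem D F) h3.symm, pr_kk, F.sr] at h
      have hm : F.s x ∈ ({x, F.r} : Finset GolayPt) := h ▸ Finset.mem_insert_self _ _
      simp [h1, h2] at hm
    have hkp := hk_du F.p (by rw [F.sp]; exact F.hpq.symm) (by rw [F.sp]; exact F.hrq.symm) F.hrp
    have hkq := hk_du F.q (by rw [F.sq]; exact F.hpq) (by rw [F.sq]; exact F.hrp.symm) F.hrq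
    rcases invol_t0 F hS ha2 c1 (Y_comm_of_mem F a.2) with e | e | e | e | e | e
    · rw [e, orderOf_one] at ho; norm_num at ho
    · exact e
    · rw [e] at c2; exact absurd c2.symm hkp
    · rw [e] at c2; exact absurd c2.symm hkq
    · rw [e] at c3; exact absurd c3 hkp
    · exfalso
      rw [e] at c3
      refine hkp (mul_left_cancel (a := t0 D F) ?_)
      rw [← mul_assoc, c3, ← mul_assoc, ← mul_assoc]
      show du D F.p F.r * du D F.p F.q * kk D F = du D F.p F.q * du D F.p F.r * kk D F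
      rw [du, du, D.ι_comm]
  -- the Frattini argument
  have hnC : ∀ {a : G}, a ∈ C → n * a * n⁻¹ ∈ C := by
    intro a ha
    refine Subgroup.mem_centralizer_iff.2 fun b hb => ?_
    have hb' : n⁻¹ * b * n ∈ S7 D F := by
      have := (Subgroup.mem_normalizer_iff.1 (Subgroup.inv_mem _ hn) b).1 hb
      rwa [inv_inv] at this
    have := Subgroup.mem_centralizer_iff.1 ha _ hb'
    calc b * (n * a * n⁻¹) = n * (n⁻¹ * b * n * a) * n⁻¹ := by group
      _ = n * (a * (n⁻¹ * b * n)) * n⁻¹ := by rw [this]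
      _ = _ := by group
  let φ : C →* C := MonoidHom.mk' (fun a => ⟨n * a * n⁻¹, hnC a.2⟩) fun a b => Subtype.ext (by
    show n * ((a : G) * b) * n⁻¹ = n * a * n⁻¹ * (n * b * n⁻¹); group)
  have hφ : Function.Injective φ := fun a b h =>
    Subtype.ext (mul_left_cancel (mul_right_cancel (congrArg Subtype.val h)))
  let T' : Sylow 2 C := Sylow.ofCard ((T : Subgroup C).map φ) (by
    rw [Subgroup.card_map_of_injective hφ, T.card_eq_multiplicity])
  obtain ⟨c, hc⟩ := MulAction.exists_smul_eq C T' T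
  have hTc : ∀ a : C, a ∈ (T : Subgroup C) → c * φ a * c⁻¹ ∈ (T : Subgroup C) := by
    intro a ha
    have h1 : φ a ∈ (T' : Subgroup C) := by
      rw [Sylow.coe_ofCard]; exact Subgroup.mem_map_of_mem _ ha
    rw [← hc, Sylow.coe_subgroup_smul]
    exact ⟨φ a, h1, rfl⟩
  refine ⟨c, c.2, ?_⟩
  have hzT : ∃ a : C, a ∈ (T : Subgroup C) ∧ orderOf a = 2 ∧
      ∀ b ∈ (T : Subgroup C), a * b = b * a := by
    have hne : (T : Subgroup C) ≠ ⊥ := fun h => by
      rw [h, Subgroup.mem_bot] at htT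
      exact du_ne_one D F.hpq (congrArg Subtype.val htT)
    haveI := (Subgroup.nontrivial_iff_ne_bot _).2 hne
    haveI := T.2.center_nontrivial
    obtain ⟨m, hm⟩ := IsPGroup.iff_card.1 (T.2.to_subgroup (Subgroup.center (T : Subgroup C)))
    have h1 : 1 < Nat.card (Subgroup.center (T : Subgroup C)) := Finite.one_lt_card
    obtain ⟨⟨⟨a, ha⟩, haz⟩, hord⟩ := exists_prime_orderOf_dvd_card' (p := 2)
      (show 2 ∣ Nat.card (Subgroup.center (T : Subgroup C)) by
        rw [hm] at h1 ⊢
        exact dvd_pow_self 2 (by rintro rfl; simp at h1))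
    refine ⟨a, ha, ?_, fun b hb => (congrArg Subtype.val
      (Subgroup.mem_center_iff.1 haz ⟨b, hb⟩)).symm⟩
    rw [← hord, ← Subgroup.orderOf_coe (⟨⟨a, ha⟩, haz⟩ : Subgroup.center (T : Subgroup C)), ← Subgroup.orderOf_coe (⟨a, ha⟩ : (T : Subgroup C))]
  obtain ⟨a, ha, hord, hcomm⟩ := hzT
  have hat := hcen a ha hord hcomm
  have ha' : ((c * φ a * c⁻¹ : C) : G) = t0 D F := by
    refine hcen _ (hTc a ha) ?_ ?_
    · rw [← MulAut.conj_apply, (MulAut.conj c).orderOf_eq, orderOf_injective φ hφ, hord]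
    · intro b hb
      obtain ⟨b0, hb0, e⟩ : ∃ b0 ∈ (T : Subgroup C), c * φ b0 * c⁻¹ = b := by
        rw [← hc, Sylow.coe_subgroup_smul] at hb
        obtain ⟨w, hw, e⟩ := hb
        rw [Sylow.coe_ofCard] at hw
        obtain ⟨b0, hb0, rfl⟩ := hw
        exact ⟨b0, hb0, e⟩
      rw [← e]
      calc c * φ a * c⁻¹ * (c * φ b0 * c⁻¹) = c * φ (a * b0) * c⁻¹ := by rw [map_mul]; group
        _ = c * φ (b0 * a) * c⁻¹ := by rw [hcomm b0 hb0]
        _ = _ := by rw [map_mul]; group
  rw [← mul_inv_eq_iff_eq_mul]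
  have : (c : G) * (n * a * n⁻¹) * (c : G)⁻¹ = t0 D F := ha'
  rw [hat] at this
  calc (c : G) * n * t0 D F * ((c : G) * n)⁻¹ = (c : G) * (n * t0 D F * n⁻¹) * (c : G)⁻¹ := by group
    _ = t0 D F := this

/-- the action of the normaliser -/
theorem exists_split {n : G} (hn : n ∈ Subgroup.normalizer (S7 D F : Set G)) :
    ∃ c ∈ Subgroup.centralizer (S7 D F : Set G), ∃ j < 3, n = c * hh D F ^ j := by
  obtain ⟨c, hc, hcm⟩ := exists_adjust F hS hn
  set m := c * n with hm
  have hmN : m ∈ Subgroup.normalizer (D.V : Set G) := cent_du hS F.hpq hcm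
  have hCN : Subgroup.centralizer (S7 D F : Set G) ≤ Subgroup.normalizer (S7 D F : Set G) :=
    Subgroup.centralizer_le_normalizer _
  have hmS : m * Y D F * m⁻¹ ∈ S7 D F :=
    (Subgroup.mem_normalizer_iff.1 (Subgroup.mul_mem _ (hCN hc) hn) _).1 (Subgroup.mem_zpowers _)
  obtain ⟨e0, he0⟩ := (isOfFinOrder_of_finite (Y D F)).mem_powers_iff_mem_zpowers.2 hmS
  change Y D F ^ e0 = m * Y D F * m⁻¹ at he0
  have hY7 : Y D F ^ 7 = 1 := by rw [← orderOf_Y D F, pow_orderOf_eq_one]
  rw [pow_eq_pow_mod _ hY7] at he0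
  set e := e0 % 7 with he
  have he7 : e < 7 := Nat.mod_lt _ (by norm_num)
  have hiter : ∀ (w : G) (d : ℕ), w * Y D F * w⁻¹ = Y D F ^ d →
      ∀ k : ℕ, w ^ k * Y D F * (w ^ k)⁻¹ = Y D F ^ (d ^ k) := by
    intro w d hw k
    induction k with
    | zero => simp
    | succ k ih =>
      calc w ^ (k + 1) * Y D F * (w ^ (k + 1))⁻¹
          = w * (w ^ k * Y D F * (w ^ k)⁻¹) * w⁻¹ := by rw [pow_succ']; group
        _ = Y D F ^ (d ^ (k + 1)) := by
          rw [ih, ← conj_pow, hw, ← pow_mul, pow_succ']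
  have hH := hiter (hh D F) 2 (by rw [pow_two]; exact hh_Y D F)
  have he1 : e ≠ 0 := by
    intro h
    rw [h, pow_zero, eq_comm, conj_eq_one_iff] at he0
    have := orderOf_Y D F
    rw [he0, orderOf_one] at this
    norm_num at this
  have he124 : e = 1 ∨ e = 2 ∨ e = 4 := by
    by_contra hcon
    have h3 := hiter m e he0.symm 3
    have h6 : e ^ 3 % 7 = 6 := by
      clear h3 he0 he
      revert he1 hcon
      clear_value e
      interval_cases e <;> decide
    rw [pow_eq_pow_mod _ hY7, h6] at h3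
    set c0 := m ^ 3 with hc0
    have hc0N : c0 ∈ Subgroup.normalizer (D.V : Set G) := Subgroup.pow_mem _ hmN 3
    have hc0t : c0 * t0 D F = t0 D F * c0 := (Commute.pow_left (show Commute m (t0 D F) from hcm) 3)
    set σ := (pr D c0 : P24) with hσ
    have hinv : σ * F.y * σ⁻¹ = F.y⁻¹ := by
      have := congrArg (fun w => (pr D w : P24)) h3
      simp only [pr_mul D (Subgroup.mul_mem _ hc0N (Y_mem D F)) (Subgroup.inv_mem _ hc0N),
        pr_mul D hc0N (Y_mem D F), pr_inv D hc0N, Subgroup.coe_mul, Subgroup.coe_inv, pr_Y] at this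
      rw [hσ, this]
      have hp : ∀ k : ℕ, (pr D (Y D F ^ k) : P24) = F.y ^ k := by
        intro k
        induction k with
        | zero => rw [pow_zero, pr_one]; rfl
        | succ k ih =>
          rw [pow_succ, pr_mul D (Subgroup.pow_mem _ (Y_mem D F) k) (Y_mem D F), Subgroup.coe_mul,
            ih, pr_Y, pow_succ]
      rw [hp]
      exact (inv_eq_of_mul_eq_one_right (by rw [← pow_succ', F.y7])).symm
    rcases cent_du_pair hS F.hpq hc0t with ⟨h1, h2⟩ | ⟨h1, h2⟩
    · exact F.no_inverse (pr D c0).2 hinv h1 h2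
    · refine F.no_inverse (c := F.s * σ) (mul_mem F.hs (pr D c0).2) ?_
        (by rw [Equiv.Perm.mul_apply, h1, F.sq]) (by rw [Equiv.Perm.mul_apply, h2, F.sp])
      have hcs : F.s * F.y⁻¹ * F.s⁻¹ = F.y⁻¹ := by
        rw [mul_inv_eq_iff_eq_mul]
        exact (Commute.inv_right (show Commute F.s F.y from F.sy)).eq
      calc F.s * σ * F.y * (F.s * σ)⁻¹ = F.s * (σ * F.y * σ⁻¹) * F.s⁻¹ := by group
        _ = F.y⁻¹ := by rw [hinv, hcs]
  obtain ⟨j, hj3, hj⟩ : ∃ j < 3, e = 2 ^ j := by
    rcases he124 with h | h | h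
    · exact ⟨0, by norm_num, h⟩
    · exact ⟨1, by norm_num, h⟩
    · exact ⟨2, by norm_num, h⟩
  set w := hh D F ^ j with hw
  have h1 := hH j
  rw [← hj, he0, ← hw] at h1
  refine ⟨c⁻¹ * (m * w⁻¹), Subgroup.mul_mem _ (Subgroup.inv_mem _ hc) (mem_cent_S7 F ?_), j, hj3,
    by rw [← hw, hm]; group⟩
  have hY' : m * w⁻¹ * Y D F * (m * w⁻¹)⁻¹ = Y D F := by
    have h2 : ∀ k, w * Y D F ^ k * w⁻¹ = (Y D F ^ e) ^ k := fun k => by
      rw [← conj_pow, h1, he0]
    obtain ⟨f, hf⟩ : ∃ f, e * f % 7 = 1 := by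
      rcases he124 with h | h | h <;> rw [h]
      exacts [⟨1, rfl⟩, ⟨4, rfl⟩, ⟨2, rfl⟩]
    have h4 : Y D F = (Y D F ^ e) ^ f := by
      rw [← pow_mul, pow_eq_pow_mod _ hY7, hf, pow_one]
    have h5 : m * Y D F ^ f * m⁻¹ = Y D F := by
      rw [← conj_pow, ← he0]; exact h4.symm
    calc m * w⁻¹ * Y D F * (m * w⁻¹)⁻¹ = m * (w⁻¹ * Y D F * w) * m⁻¹ := by group
      _ = m * (w⁻¹ * (w * Y D F ^ f * w⁻¹) * w) * m⁻¹ := by rw [h2, ← h4]
      _ = m * Y D F ^ f * m⁻¹ := by group
      _ = Y D F := h5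
  exact mul_inv_eq_iff_eq_mul.1 hY'

end CfsgLib.Spor.JankoFourSeven
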