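import Cfsg.Agent.Lib.Spor.OctadFixCentral
import Cfsg.Agent.Lib.Spor.OctadInvolution
import Cfsg.Agent.Lib.Spor.Transit
import Cfsg.Agent.Lib.Spor.LargeFi.DuadM24

/-!
An element of order seven of `M24`, an involution commuting with it and exchanging two of its
fixed points, and an element of order three normalising it: combinatorial consequences.
-/

set_option autoImplicit false
set_option maxRecDepth 100000

namespace CfsgLib.Spor.JankoFourSeven

open Cfsg CfsgLib.Spor
open scoped Pointwise symmDiff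

abbrev P24 : Type := Equiv.Perm GolayPt

/-- element of order seven, commuting involution exchanging two fixed points, normalising element -/
structure Cfg where
  y : P24
  s : P24
  h : P24
  p : GolayPt
  q : GolayPt
  r : GolayPt
  hy : y ∈ M24
  hs : s ∈ M24
  hh : h ∈ M24
  y7 : y ^ 7 = 1
  yfix : ∀ x, y x = x ↔ x = p ∨ x = q ∨ x = r
  hpq : p ≠ q
  hrp : r ≠ p
  hrq : r ≠ q
  s2 : s * s = 1
  sp : s p = q
  sq : s q = p
  sr : s r = r
  sy : s * y = y * s
  hyh : h * y * h⁻¹ = y * y
  hsh : h * s = s * h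
  hp : h p = p
  hq : h q = q

/-- packed element of order seven -/
def yP : ℕ := 236679795457526421506627863648252452
/-- packed commuting involution -/
def sP : ℕ := 601760342656483832298090621631039626
/-- packed normalising element -/
def hP : ℕ := 70317308834102405040907278140879392

theorem pack_check :
    isM24P yP = true ∧ isM24P sP = true ∧ isM24P hP = true ∧
    compP yP (compP yP (compP yP (compP yP (compP yP (compP yP yP))))) = packL (List.range 24) ∧
    compP sP sP = packL (List.range 24) ∧ compP sP yP = compP yP sP ∧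
    compP hP yP = compP (compP yP yP) hP ∧ compP hP sP = compP sP hP ∧
    ((List.range 24).all fun i => (getP yP i == i) == (i == 15 || i == 22 || i == 7)) = true ∧
    getP sP 15 = 22 ∧ getP sP 22 = 15 ∧ getP sP 7 = 7 ∧ getP hP 15 = 15 ∧ getP hP 22 = 22 := by
  decide +kernel

theorem exists_cfg : Nonempty Cfg := by
  obtain ⟨h1, h2, h3, h7, hs2, hsy, hhy, hhs, hfix, e1, e2, e3, e4, e5⟩ := pack_check
  obtain ⟨y, hy, ry⟩ := exists_rep_M24 h1
  obtain ⟨s, hs, rs⟩ := exists_rep_M24 h2
  obtain ⟨h, hh, rh⟩ := exists_rep_M24 h3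
  have ev : ∀ {σ : P24} {a : ℕ} {i j : ℕ}, Rep σ a → i < 24 → getP a i = j → σ (pt i) = pt j := by
    intro σ a i j hr hi he
    rw [← he, hr i hi, pt_idx]
  refine ⟨⟨y, s, h, pt 15, pt 22, pt 7, hy, hs, hh, ?_, ?_, by decide, by decide, by decide, ?_,
    ev rs (by norm_num) e1, ev rs (by norm_num) e2, ev rs (by norm_num) e3, ?_, ?_, ?_,
    ev rh (by norm_num) e4, ev rh (by norm_num) e5⟩⟩
  · have := (ry.mul (ry.mul (ry.mul (ry.mul (ry.mul (ry.mul ry))))))
    rw [h7] at this
    rw [← this.inj rep_one]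
    simp only [pow_succ, pow_zero, one_mul, mul_assoc]
  · intro x
    simp only [List.all_eq_true, List.mem_range] at hfix
    have := hfix (idx x) (idx_lt x)
    simp only [beq_iff_eq] at this
    have hx : y x = x ↔ getP yP (idx x) = idx x := by
      rw [← ry.fix_iff (idx_lt x), pt_idx]
    have hi : ∀ j, j < 24 → (x = pt j ↔ idx x = j) := fun j hj =>
      ⟨fun e => by rw [e, idx_pt hj], fun e => by rw [← e, pt_idx]⟩
    rw [hx, hi 15 (by norm_num), hi 22 (by norm_num), hi 7 (by norm_num)]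
    rw [Bool.eq_iff_iff] at this
    simpa [or_assoc] using this
  · have := rs.mul rs
    rw [hs2] at this
    exact this.inj rep_one
  · have := rs.mul ry
    rw [hsy] at this
    exact this.inj (ry.mul rs)
  · have := rh.mul ry
    rw [hhy] at this
    rw [this.inj ((ry.mul ry).mul rh), mul_inv_cancel_right]
  · have := rh.mul rs
    rw [hhs] at this
    exact this.inj (rs.mul rh)

/-- two involutions of `M24`, the first with fixed points, agree as soon as the first preserves
every pair preserved by the second -/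
theorem invol_eq {σ τ : P24} (hσ : σ ∈ M24) (hτ : τ ∈ M24) (hσ2 : σ * σ = 1) (hτ2 : τ * τ = 1)
    (hσ1 : σ ≠ 1) (hτ1 : τ ≠ 1) (hfix : ∃ x, σ x = x)
    (hpair : ∀ a b, a ≠ b → ({τ a, τ b} : Finset GolayPt) = {a, b} →
      ({σ a, σ b} : Finset GolayPt) = {a, b}) : σ = τ := by
  classical
  have oσ : orderOf σ = 2 := orderOf_eq_prime (by rw [pow_two]; exact hσ2) hσ1
  have oτ : orderOf τ = 2 := orderOf_eq_prime (by rw [pow_two]; exact hτ2) hτ1
  have hin : ∀ a b, a ≠ b → ({τ a, τ b} : Finset GolayPt) = {a, b} → σ a = a ∨ σ a = b := by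
    intro a b hab hP
    have : σ a ∈ ({a, b} : Finset GolayPt) := by
      rw [← hpair a b hab hP]; exact Finset.mem_insert_self _ _
    simpa using this
  have hswap : ∀ a, τ a ≠ a → σ a ≠ a → σ a = τ a := by
    intro a ha hs
    have htt : τ (τ a) = a := by rw [← Equiv.Perm.mul_apply, hτ2]; rfl
    exact (hin a (τ a) (Ne.symm ha) (by rw [htt, Finset.pair_comm])).resolve_left hs
  have hoctσ := invol_fix_octad hσ oσ (fun h => hfix.elim fun x hx => h x hx)
  set Fs := Finset.univ.filter (fun x => σ x = x) with hFs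
  by_cases hτfix : ∀ x, τ x ≠ x
  · have h16 : 9 ≤ Fsᶜ.card := by
      rw [Finset.card_compl, card_golayPt, card_octad hoctσ]; norm_num
    have := eq_one_of_nine_fixed (mul_mem hσ hτ) Fsᶜ h16 fun x hx => by
      have hx' : σ x ≠ x := fun e =>
        Finset.mem_compl.1 hx (Finset.mem_filter.2 ⟨Finset.mem_univ _, e⟩)
      rw [Equiv.Perm.mul_apply, ← hswap x (hτfix x) hx', ← Equiv.Perm.mul_apply, hσ2]; rfl
    rw [mul_eq_one_iff_eq_inv] at this
    rw [this]
    exact inv_eq_of_mul_eq_one_right hτ2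
  · have hoctτ := invol_fix_octad hτ oτ hτfix
    set Ft := Finset.univ.filter (fun x => τ x = x) with hFt
    have hsub : Ft ⊆ Fs := by
      intro a ha
      have ha' : τ a = a := (Finset.mem_filter.1 ha).2
      have h2 : 2 ≤ (Ft.erase a).card := by
        rw [Finset.card_erase_of_mem ha, card_octad hoctτ]; norm_num
      obtain ⟨b, hb, c, hc, hbc⟩ := Finset.one_lt_card.1 h2
      rw [Finset.mem_erase] at hb hc
      have hb' : τ b = b := (Finset.mem_filter.1 hb.2).2
      have hc' : τ c = c := (Finset.mem_filter.1 hc.2).2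
      refine Finset.mem_filter.2 ⟨Finset.mem_univ _, ?_⟩
      rcases hin a b (Ne.symm hb.1) (by rw [ha', hb']) with e | e
      · exact e
      rcases hin a c (Ne.symm hc.1) (by rw [ha', hc']) with e' | e'
      · exact e'
      · exact absurd (e.symm.trans e') hbc
    have heq : Ft = Fs := Finset.eq_of_subset_of_card_le hsub
      (by rw [card_octad hoctσ, card_octad hoctτ])
    refine Equiv.ext fun a => ?_
    by_cases ha : τ a = a
    · have : a ∈ Fs := heq ▸ Finset.mem_filter.2 ⟨Finset.mem_univ _, ha⟩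
      rw [ha]; exact (Finset.mem_filter.1 this).2
    · refine hswap a ha fun e => ha ?_
      have : a ∈ Ft := heq ▸ Finset.mem_filter.2 ⟨Finset.mem_univ _, e⟩
      exact (Finset.mem_filter.1 this).2

namespace Cfg

variable (F : Cfg)

theorem s_invol (x : GolayPt) : F.s (F.s x) = x := by
  rw [← Equiv.Perm.mul_apply, F.s2]; rfl

theorem y_ne_one : F.y ≠ 1 := by
  intro h
  have hc : ({F.p, F.q, F.r} : Finset GolayPt).card ≤ 3 := Finset.card_le_three
  have := Finset.card_le_card (fun x _ => by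
    have := (F.yfix x).1 (by rw [h]; rfl)
    simpa using this : (Finset.univ : Finset GolayPt) ⊆ {F.p, F.q, F.r})
  rw [Finset.card_univ, card_golayPt] at this
  omega

theorem orderOf_y : orderOf F.y = 7 :=
  haveI : Fact (Nat.Prime 7) := ⟨by norm_num⟩
  orderOf_eq_prime F.y7 F.y_ne_one

theorem pow_fix {i : ℕ} {x : GolayPt} (h : F.y x = x) : (F.y ^ i) x = x := by
  induction i with
  | zero => rfl
  | succ i ih => rw [pow_succ', Equiv.Perm.mul_apply, ih, h]

theorem pow_fixed {i : ℕ} (hi : ¬ 7 ∣ i) {x : GolayPt} (h : (F.y ^ i) x = x) : F.y x = x := by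
  have key : ∀ a < 7, a ≠ 0 → ∃ j, a * j % 7 = 1 := by
    intro a ha h0
    interval_cases a
    · exact absurd rfl h0
    exacts [⟨1, rfl⟩, ⟨4, rfl⟩, ⟨5, rfl⟩, ⟨2, rfl⟩, ⟨3, rfl⟩, ⟨6, rfl⟩]
  obtain ⟨j, hj⟩ := key (i % 7) (Nat.mod_lt _ (by norm_num)) (fun e => hi (Nat.dvd_of_mod_eq_zero e))
  have hfix : ∀ m : ℕ, ((F.y ^ i) ^ m) x = x := by
    intro m
    induction m with
    | zero => rfl
    | succ m ih => rw [pow_succ', Equiv.Perm.mul_apply, ih, h]
  have e : F.y = (F.y ^ i) ^ j := by
    rw [← pow_mul, pow_eq_pow_mod _ F.y7, Nat.mul_mod]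
    conv_lhs => rw [← pow_one F.y]
    congr 1
    rw [Nat.mul_mod (i % 7) j 7, Nat.mod_mod] at hj
    exact hj.symm
  rw [e]
  exact hfix j

/-- the orbit of a point under the element of order seven -/
def orb (x : GolayPt) : Finset GolayPt := (Finset.range 7).image fun i => (F.y ^ i) x

theorem mem_orb {x : GolayPt} (i : ℕ) : (F.y ^ i) x ∈ F.orb x := by
  rw [pow_eq_pow_mod i F.y7]
  exact Finset.mem_image.2 ⟨i % 7, Finset.mem_range.2 (Nat.mod_lt _ (by norm_num)), rfl⟩

theorem self_mem_orb (x : GolayPt) : x ∈ F.orb x := by simpa using F.mem_orb (x := x) 0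

theorem exists_of_mem_orb {x x' : GolayPt} (h : x' ∈ F.orb x) : ∃ i, (F.y ^ i) x = x' := by
  obtain ⟨i, -, e⟩ := Finset.mem_image.1 h
  exact ⟨i, e⟩

theorem y_pow_inj {x : GolayPt} (hx : F.y x ≠ x) {i j : ℕ} (hi : i < 7) (hj : j < 7)
    (hij : i < j) : (F.y ^ i) x ≠ (F.y ^ j) x := by
  intro h
  refine hx (F.pow_fixed (i := j - i) (fun hd => ?_) ((F.y ^ i).injective ?_))
  · have := Nat.le_of_dvd (by omega) hd; omega
  · rw [← Equiv.Perm.mul_apply, ← pow_add, show i + (j - i) = j by omega]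
    exact h.symm

theorem card_orb {x : GolayPt} (hx : F.y x ≠ x) : (F.orb x).card = 7 := by
  rw [orb, Finset.card_image_of_injOn, Finset.card_range]
  intro i hi j hj e
  simp only [Finset.coe_range, Set.mem_Iio] at hi hj
  rcases Nat.lt_trichotomy i j with h | h | h
  · exact absurd e (F.y_pow_inj hx hi hj h)
  · exact h
  · exact absurd e.symm (F.y_pow_inj hx hj hi h)

/-- the fixed points of the involution -/
def O : Finset GolayPt := Finset.univ.filter fun x => F.s x = x

theorem mem_O {x : GolayPt} : x ∈ F.O ↔ F.s x = x := by simp [O]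

theorem s_ne_one : F.s ≠ 1 := fun h => F.hpq (by
  have := F.sp
  rw [h] at this
  exact this)

theorem O_octad : F.O ∈ octads :=
  invol_fix_octad F.hs (orderOf_eq_prime (by rw [pow_two]; exact F.s2) F.s_ne_one)
    (fun h => h F.r F.sr)

theorem r_mem : F.r ∈ F.O := F.mem_O.2 F.sr

theorem p_notMem : F.p ∉ F.O := fun h => F.hpq ((F.mem_O.1 h).symm.trans F.sp)

theorem q_notMem : F.q ∉ F.O := fun h => F.hpq (F.sq.symm.trans (F.mem_O.1 h))

theorem s_pow_y (i : ℕ) (x : GolayPt) : F.s ((F.y ^ i) x) = (F.y ^ i) (F.s x) := by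
  rw [← Equiv.Perm.mul_apply, (Commute.pow_right (show Commute F.s F.y from F.sy) i).eq]
  rfl

theorem pow_mem_O {x : GolayPt} (i : ℕ) (hx : x ∈ F.O) : (F.y ^ i) x ∈ F.O :=
  F.mem_O.2 (by rw [F.s_pow_y, F.mem_O.1 hx])

theorem y_moves {x : GolayPt} (hp : x ≠ F.p) (hq : x ≠ F.q) (hr : x ≠ F.r) : F.y x ≠ x := by
  rw [Ne, F.yfix]
  tauto

theorem O_orbit {x x' : GolayPt} (hx : x ∈ F.O) (hxr : x ≠ F.r) (hx' : x' ∈ F.O)
    (hxr' : x' ≠ F.r) : ∃ i, (F.y ^ i) x = x' := by
  classical
  have hmv : F.y x ≠ x :=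
    F.y_moves (fun e => F.p_notMem (e ▸ hx)) (fun e => F.q_notMem (e ▸ hx)) hxr
  have heq : F.orb x = F.O.erase F.r := by
    refine Finset.eq_of_subset_of_card_le (fun z hz => ?_) ?_
    · obtain ⟨i, rfl⟩ := F.exists_of_mem_orb hz
      refine Finset.mem_erase.2 ⟨fun e => hxr ?_, F.pow_mem_O i hx⟩
      rw [← F.pow_fix (i := i) ((F.yfix F.r).2 (Or.inr (Or.inr rfl)))] at e
      exact (F.y ^ i).injective e
    · rw [F.card_orb hmv, Finset.card_erase_of_mem F.r_mem, card_octad F.O_octad]
  exact F.exists_of_mem_orb (heq ▸ Finset.mem_erase.2 ⟨hxr', hx'⟩)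

theorem fix_O_of_fix {c : P24} (hr : c F.r = F.r) {x : GolayPt} (hx : x ∈ F.O) (hxr : x ≠ F.r)
    (hfix : ∀ i, c ((F.y ^ i) x) = (F.y ^ i) x) : ∀ z ∈ F.O, c z = z := by
  intro z hz
  by_cases hzr : z = F.r
  · rw [hzr, hr]
  obtain ⟨i, rfl⟩ := F.O_orbit hx hxr hz hzr
  exact hfix i

theorem outside_orbit {x x' : GolayPt} (hx : x ∉ F.O) (hxp : x ≠ F.p) (hxq : x ≠ F.q)
    (hx' : x' ∉ F.O) (hxp' : x' ≠ F.p) (hxq' : x' ≠ F.q) :
    ∃ i, (F.y ^ i) x = x' ∨ (F.y ^ i) (F.s x) = x' := by
  classical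
  have hsx : F.s x ∉ F.O := fun h => hx (F.mem_O.2 (by
    have := F.mem_O.1 h
    rw [F.s_invol] at this
    exact this.symm))
  have hsp : F.s x ≠ F.p := fun h => hxq (by
    have := congrArg F.s h; rwa [F.s_invol, F.sp] at this)
  have hsq : F.s x ≠ F.q := fun h => hxp (by
    have := congrArg F.s h; rwa [F.s_invol, F.sq] at this)
  have hmv : F.y x ≠ x := F.y_moves hxp hxq fun e => hx (e ▸ F.r_mem)
  have hmv' : F.y (F.s x) ≠ F.s x := F.y_moves hsp hsq fun e => hsx (e ▸ F.r_mem)
  have hdis : Disjoint (F.orb x) (F.orb (F.s x)) := by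
    rw [Finset.disjoint_left]
    intro z hz hz'
    obtain ⟨i, rfl⟩ := F.exists_of_mem_orb hz
    obtain ⟨j, hj⟩ := F.exists_of_mem_orb hz'
    have e : (F.y ^ (i * 6 + j)) (F.s x) = x := by
      rw [pow_add, Equiv.Perm.mul_apply, hj, ← Equiv.Perm.mul_apply, ← pow_add,
        show i * 6 + i = 7 * i by ring, pow_mul, F.y7, one_pow]
      rfl
    set m := i * 6 + j with hm
    have e2 : (F.y ^ (2 * m)) x = x := by
      have e' : (F.y ^ m) x = F.s x := by
        have h1 := F.s_pow_y m (F.s x)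
        rw [e, F.s_invol] at h1
        exact h1.symm
      rw [two_mul, pow_add, Equiv.Perm.mul_apply, e', e]
    by_cases hd : 7 ∣ 2 * m
    · obtain ⟨k, hk⟩ := (Nat.Coprime.dvd_of_dvd_mul_left (by norm_num) hd : 7 ∣ m)
      rw [hk, pow_mul, F.y7, one_pow] at e
      exact hx (F.mem_O.2 e)
    · exact hmv (F.pow_fixed hd e2)
  have hrest : F.orb x ∪ F.orb (F.s x) = (F.Oᶜ.erase F.p).erase F.q := by
    refine Finset.eq_of_subset_of_card_le (fun z hz => ?_) ?_
    · have key : ∀ w, w ∉ F.O → w ≠ F.p → w ≠ F.q → ∀ i,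
          (F.y ^ i) w ∈ (F.Oᶜ.erase F.p).erase F.q := by
        intro w hw hwp hwq i
        simp only [Finset.mem_erase, Finset.mem_compl]
        refine ⟨fun e => hwq ?_, fun e => hwp ?_, fun h => hw ?_⟩
        · rw [← F.pow_fix (i := i) ((F.yfix F.q).2 (Or.inr (Or.inl rfl)))] at e
          exact (F.y ^ i).injective e
        · rw [← F.pow_fix (i := i) ((F.yfix F.p).2 (Or.inl rfl))] at e
          exact (F.y ^ i).injective e
        · have := F.mem_O.1 h
          rw [F.s_pow_y] at this
          exact F.mem_O.2 ((F.y ^ i).injective this)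
      rcases Finset.mem_union.1 hz with h | h
      · obtain ⟨i, rfl⟩ := F.exists_of_mem_orb h; exact key x hx hxp hxq i
      · obtain ⟨i, rfl⟩ := F.exists_of_mem_orb h; exact key _ hsx hsp hsq i
    · rw [Finset.card_union_of_disjoint hdis, F.card_orb hmv, F.card_orb hmv',
        Finset.card_erase_of_mem (Finset.mem_erase.2 ⟨F.hpq.symm, Finset.mem_compl.2 F.q_notMem⟩),
        Finset.card_erase_of_mem (Finset.mem_compl.2 F.p_notMem), Finset.card_compl, card_golayPt,
        card_octad F.O_octad]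
  have : x' ∈ F.orb x ∪ F.orb (F.s x) := by
    rw [hrest]; simp [Finset.mem_erase, Finset.mem_compl, hx', hxp', hxq']
  rcases Finset.mem_union.1 this with h | h
  · exact (F.exists_of_mem_orb h).imp fun i => Or.inl
  · exact (F.exists_of_mem_orb h).imp fun i => Or.inr

theorem r_fixed {c : P24} (hc : c * F.y = F.y * c) (hset : (c F.p = F.p ∧ c F.q = F.q) ∨
    (c F.p = F.q ∧ c F.q = F.p)) : c F.r = F.r := by
  have : F.y (c F.r) = c F.r := by
    rw [← Equiv.Perm.mul_apply, ← hc, Equiv.Perm.mul_apply, (F.yfix F.r).2 (Or.inr (Or.inr rfl))]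
  rcases (F.yfix _).1 this with e | e | e
  · rcases hset with ⟨h1, -⟩ | ⟨-, h2⟩
    · exact absurd (c.injective (e.trans h1.symm)) F.hrp
    · exact absurd (c.injective (e.trans h2.symm)) F.hrq
  · rcases hset with ⟨-, h2⟩ | ⟨h1, -⟩
    · exact absurd (c.injective (e.trans h2.symm)) F.hrq
    · exact absurd (c.injective (e.trans h1.symm)) F.hrp
  · exact e

/-- the centraliser of the element of order seven fixing both points -/
theorem cent_pair {c : P24} (hc : c ∈ M24) (hcy : c * F.y = F.y * c) (hp : c F.p = F.p)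
    (hq : c F.q = F.q) : ∃ i, c = F.y ^ i := by
  classical
  have hr := F.r_fixed hcy (Or.inl ⟨hp, hq⟩)
  have hO' : c • F.O ∈ octads := smul_octad_mem hc F.O_octad
  have hrO' : F.r ∈ c • F.O := Finset.mem_smul_finset.2 ⟨F.r, F.r_mem, hr⟩
  have h2 : 2 ≤ (F.O ∩ c • F.O).card := by
    have h0 : 0 < (F.O ∩ c • F.O).card :=
      Finset.card_pos.2 ⟨F.r, Finset.mem_inter.2 ⟨F.r_mem, hrO'⟩⟩
    have h8 := card_symmDiff_add F.O (c • F.O)
    rw [card_octad F.O_octad, card_octad hO'] at h8
    rcases card_symmDiff_cases F.O_octad.1 hO'.1 with h | h | h | h | h <;> omega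
  obtain ⟨x, hx, hxr⟩ := Finset.exists_mem_ne (show 1 < (F.O ∩ c • F.O).card by omega) F.r
  obtain ⟨hxO, hxO'⟩ := Finset.mem_inter.1 hx
  obtain ⟨x0, hx0, rfl⟩ := Finset.mem_smul_finset.1 hxO'
  have hx0r : x0 ≠ F.r := fun e => hxr (by rw [e]; exact hr)
  obtain ⟨i, hi⟩ := F.O_orbit hx0 hx0r hxO hxr
  refine ⟨i, ?_⟩
  set d := (F.y ^ i)⁻¹ * c with hd
  have hdy : d * F.y = F.y * d := by
    have h1 : Commute (F.y ^ i)⁻¹ F.y := ((Commute.refl F.y).pow_left i).inv_left
    exact (h1.mul_left hcy).eq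
  have hfixy : ∀ w, F.y w = w → (F.y ^ i)⁻¹ w = w := fun w hw => by
    rw [Equiv.Perm.inv_def, Equiv.symm_apply_eq, F.pow_fix hw]
  have hdr : d F.r = F.r := by
    rw [hd, Equiv.Perm.mul_apply, hr, hfixy _ ((F.yfix _).2 (Or.inr (Or.inr rfl)))]
  have hdx : d x0 = x0 := by
    rw [hd, Equiv.Perm.mul_apply, Equiv.Perm.inv_def, Equiv.symm_apply_eq]
    exact hi.symm
  have hdp : d F.p = F.p := by
    rw [hd, Equiv.Perm.mul_apply, hp, hfixy _ ((F.yfix _).2 (Or.inl rfl))]
  have hO : ∀ w ∈ F.O, d w = w := F.fix_O_of_fix hdr hx0 hx0r fun j => by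
    rw [← Equiv.Perm.mul_apply, (Commute.pow_right (show Commute d F.y from hdy) j).eq,
      Equiv.Perm.mul_apply, hdx]
  have h1 := eq_one_of_fixM24_fix F.O_octad
    (mem_fixM24.2 ⟨mul_mem (inv_mem (pow_mem F.hy i)) hc, hO⟩) F.p_notMem hdp
  exact (inv_mul_eq_one.1 h1).symm

/-- the centraliser of the element of order seven preserving the pair -/
theorem cent_set {c : P24} (hc : c ∈ M24) (hcy : c * F.y = F.y * c)
    (hset : (c F.p = F.p ∧ c F.q = F.q) ∨ (c F.p = F.q ∧ c F.q = F.p)) :
    ∃ i, c = F.y ^ i ∨ c = F.s * F.y ^ i := by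
  rcases hset with ⟨h1, h2⟩ | ⟨h1, h2⟩
  · exact (F.cent_pair hc hcy h1 h2).imp fun i => Or.inl
  · obtain ⟨i, hi⟩ := F.cent_pair (c := F.s * c) (mul_mem F.hs hc)
      (by rw [mul_assoc, hcy, ← mul_assoc, F.sy, mul_assoc])
      (by rw [Equiv.Perm.mul_apply, h1, F.sq]) (by rw [Equiv.Perm.mul_apply, h2, F.sp])
    exact ⟨i, Or.inr (by rw [← hi, ← mul_assoc, F.s2, one_mul])⟩

theorem cent_invol {c : P24} (hc : c ∈ M24) (hc2 : c * c = 1) (hcy : c * F.y = F.y * c)
    (hset : (c F.p = F.p ∧ c F.q = F.q) ∨ (c F.p = F.q ∧ c F.q = F.p)) : c = 1 ∨ c = F.s := by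
  obtain ⟨i, hi⟩ := F.cent_set hc hcy hset
  have h2 : F.y ^ (2 * i) = 1 := by
    rcases hi with rfl | rfl
    · rw [two_mul, pow_add, hc2]
    · rw [two_mul, pow_add]
      have hcm : Commute F.s (F.y ^ i) := Commute.pow_right F.sy i
      rw [← hc2, hcm.symm.mul_mul_mul_comm, F.s2, one_mul]
  have hi1 : F.y ^ i = 1 := by
    rw [← orderOf_dvd_iff_pow_eq_one, F.orderOf_y] at h2 ⊢
    exact Nat.Coprime.dvd_of_dvd_mul_left (by norm_num) h2
  rcases hi with rfl | rfl
  · exact Or.inl hi1
  · exact Or.inr (by rw [hi1, mul_one])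

theorem pair_fix {P : Finset GolayPt} (hP : P.card = 2) (hy : F.y • P = P) :
    P ⊆ {F.p, F.q, F.r} := by
  intro x hx
  by_contra h
  simp only [Finset.mem_insert, Finset.mem_singleton, not_or] at h
  have hmv := F.y_moves h.1 h.2.1 h.2.2
  have hsub : F.orb x ⊆ P := by
    intro z hz
    obtain ⟨i, rfl⟩ := F.exists_of_mem_orb hz
    clear hz
    induction i with
    | zero => exact hx
    | succ i ih =>
      rw [pow_succ', Equiv.Perm.mul_apply, ← hy]
      exact Finset.smul_mem_smul_finset ih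
  have := Finset.card_le_card hsub
  rw [F.card_orb hmv, hP] at this
  omega

theorem tetrad_code {T : Finset GolayPt} (hT : T.card = 4)
    (h : (F.y • T) ∆ T ∈ supports (golayCode : Set (GolayPt → ZMod 2))) : False := by
  classical
  have hpow : ∀ i j : ℕ, ((F.y ^ i) • T) ∆ ((F.y ^ j) • T) ∈
      supports (golayCode : Set (GolayPt → ZMod 2)) := by
    have h0 : ∀ i, ((F.y ^ i) • T) ∆ T ∈ supports (golayCode : Set (GolayPt → ZMod 2)) := by
      intro i
      induction i with
      | zero => rw [pow_zero, one_smul, symmDiff_self]; exact ⟨0, zero_mem _, by simp [support₂]⟩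
      | succ i ih =>
        have h1 : ((F.y ^ (i + 1)) • T) ∆ ((F.y ^ i) • T) ∈
            supports (golayCode : Set (GolayPt → ZMod 2)) := by
          have hM : F.y ^ i ∈ M24 := pow_mem F.hy i
          have := (MulAction.mem_stabilizer_iff.1 hM)
          have h2 : (F.y ^ i) • ((F.y • T) ∆ T) ∈ supports (golayCode : Set (GolayPt → ZMod 2)) :=
            this ▸ Set.smul_mem_smul_set h
          rwa [Finset.smul_finset_symmDiff, smul_smul, ← pow_succ] at h2
        have := symmDiff_mem_supports h1 ih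
        rwa [symmDiff_assoc, ← symmDiff_assoc ((F.y ^ i) • T), symmDiff_self, bot_symmDiff] at this
    intro i j
    have := symmDiff_mem_supports (h0 i) (h0 j)
    rwa [symmDiff_assoc, symmDiff_comm ((F.y ^ j) • T) T, ← symmDiff_assoc T, symmDiff_self,
      bot_symmDiff] at this
  have hdis : ∀ i j : ℕ, (F.y ^ i) • T = (F.y ^ j) • T ∨
      Disjoint ((F.y ^ i) • T) ((F.y ^ j) • T) := by
    intro i j
    have hc := card_symmDiff_add ((F.y ^ i) • T) ((F.y ^ j) • T)
    simp only [Finset.card_smul_finset, hT] at hc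
    rw [or_comm, Finset.disjoint_iff_inter_eq_empty, ← Finset.card_eq_zero]
    rcases DuadM24.card_cases (hpow i j) with h | h | h | h | h
    · exact Or.inr (symmDiff_eq_bot.1 (Finset.card_eq_zero.1 h))
    all_goals exact Or.inl (by omega)
  by_cases hfix : F.y • T = T
  · have hsub : T ⊆ {F.p, F.q, F.r} := by
      intro x hx
      by_contra h
      simp only [Finset.mem_insert, Finset.mem_singleton, not_or] at h
      have hmv := F.y_moves h.1 h.2.1 h.2.2
      have hsub : F.orb x ⊆ T := by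
        intro z hz
        obtain ⟨i, rfl⟩ := F.exists_of_mem_orb hz
        clear hz
        induction i with
        | zero => exact hx
        | succ i ih =>
          rw [pow_succ', Equiv.Perm.mul_apply, ← hfix]
          exact Finset.smul_mem_smul_finset ih
      have := Finset.card_le_card hsub
      rw [F.card_orb hmv, hT] at this
      omega
    have := Finset.card_le_card hsub
    have h3 : ({F.p, F.q, F.r} : Finset GolayPt).card ≤ 3 := Finset.card_le_three
    omega
  · have hne : ∀ i j, i < 7 → j < 7 → i ≠ j → (F.y ^ i) • T ≠ (F.y ^ j) • T := by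
      have key : ∀ i j, i < j → j < 7 → (F.y ^ i) • T ≠ (F.y ^ j) • T := by
        intro i j hij hj e
        apply hfix
        have h1 : (F.y ^ (j - i)) • T = T := by
          have := congrArg ((F.y ^ i)⁻¹ • ·) e
          simp only [inv_smul_smul] at this
          rw [smul_smul] at this
          conv_rhs => rw [this]
          rw [show (F.y ^ i)⁻¹ * F.y ^ j = F.y ^ (j - i) by
            rw [inv_mul_eq_iff_eq_mul, ← pow_add]; congr 1; omega]
        have hst : F.y ^ (j - i) ∈ MulAction.stabilizer P24 T := h1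
        have hcop : Nat.Coprime (j - i) (orderOf F.y) := by
          rw [F.orderOf_y]
          exact Nat.Coprime.symm ((Nat.Prime.coprime_iff_not_dvd (by norm_num)).2
            (Nat.not_dvd_of_pos_of_lt (by omega) (by omega)))
        obtain ⟨m, hm⟩ := exists_pow_eq_self_of_coprime hcop
        have := pow_mem hst m
        rwa [hm] at this
      intro i j hi hj hij
      rcases Nat.lt_or_gt_of_ne hij with h | h
      · exact key i j h hj
      · exact (key j i h hi).symm
    have hcard : ((Finset.range 7).biUnion fun i => (F.y ^ i) • T).card = 28 := by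
      rw [Finset.card_biUnion fun i hi j hj hij => (hdis i j).resolve_left
        (hne i j (Finset.mem_range.1 hi) (Finset.mem_range.1 hj) hij)]
      simp [hT]
    have := Finset.card_le_univ ((Finset.range 7).biUnion fun i => (F.y ^ i) • T)
    rw [hcard, card_golayPt] at this
    omega

/-- an elementary abelian subgroup of `M24` centralising the involution and normalised by the
element of order seven has order at most sixteen -/
theorem card_le_sixteen (B : Subgroup P24) (hB : B ≤ M24) (hexp : ∀ b ∈ B, b * b = 1)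
    (hny : ∀ b ∈ B, F.y * b * F.y⁻¹ ∈ B) (hcs : ∀ b ∈ B, b * F.s = F.s * b) (hsB : F.s ∈ B) :
    Nat.card B ≤ 16 := by
  classical
  have h16 := (octad_pointwise_stabilizer F.O_octad).1
  change Nat.card ↥(fixM24 F.O) = 16 at h16
  have hcomm : ∀ a ∈ B, ∀ b ∈ B, a * b = b * a := by
    intro a ha b hb
    calc a * b = a * (a * b * (a * b)) * b := by rw [hexp _ (mul_mem ha hb), mul_one]
      _ = (a * a) * (b * a) * (b * b) := by simp only [mul_assoc]
      _ = b * a := by rw [hexp a ha, hexp b hb, one_mul, mul_one]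
  have hny' : ∀ i : ℕ, ∀ b ∈ B, F.y ^ i * b * (F.y ^ i)⁻¹ ∈ B := by
    intro i
    induction i with
    | zero => intro b hb; simpa using hb
    | succ i ih =>
      intro b hb
      have := hny _ (ih b hb)
      rwa [pow_succ', mul_inv_rev,
        show F.y * F.y ^ i * b * ((F.y ^ i)⁻¹ * F.y⁻¹) = F.y * (F.y ^ i * b * (F.y ^ i)⁻¹) * F.y⁻¹
          by group]
  by_cases hA : ∃ e ∈ B, e ∈ fixM24 F.O ∧ e ≠ 1 ∧ e ≠ F.s
  · obtain ⟨e, heB, heF, he1, hes⟩ := hA
    have hsF : F.s ∈ fixM24 F.O := mem_fixM24.2 ⟨F.hs, fun x hx => F.mem_O.1 hx⟩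
    have hep : e F.p ≠ F.p := fun h => he1 (eq_one_of_fixM24_fix F.O_octad heF F.p_notMem h)
    have heq : e F.p ≠ F.q := fun h => hes (by
      have := eq_one_of_fixM24_fix F.O_octad (mul_mem hsF heF) F.p_notMem
        (by rw [Equiv.Perm.mul_apply, h, F.sq])
      rw [mul_eq_one_iff_eq_inv] at this
      rw [← inv_inv e, ← this]
      exact inv_eq_of_mul_eq_one_right F.s2)
    have heO : e F.p ∉ F.O := fun h => F.p_notMem (by
      have := (mem_fixM24.1 heF).2 _ h
      rwa [e.injective this] at h)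
    have hall : fixM24 F.O ≤ B := by
      intro f hf
      obtain ⟨b, hbB, hbF, hbp⟩ : ∃ b, b ∈ B ∧ b ∈ fixM24 F.O ∧ b F.p = f F.p := by
        by_cases h1 : f F.p = F.p
        · exact ⟨1, one_mem _, one_mem _, h1.symm⟩
        by_cases h2 : f F.p = F.q
        · exact ⟨F.s, hsB, hsF, by rw [F.sp, h2]⟩
        have hfO : f F.p ∉ F.O := fun h => F.p_notMem (by
          have := (mem_fixM24.1 hf).2 _ h
          rwa [f.injective this] at h)
        have hyO : ∀ i, F.y ^ i ∈ octStab F.O := fun i =>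
          centralizer_le_octStab (fun x => F.mem_O) (pow_mem F.hy i)
            ((Commute.pow_left (show Commute F.y F.s from F.sy.symm) i).eq)
        have hi0 : ∀ i, (F.y ^ i)⁻¹ F.p = F.p := fun i => by
          rw [Equiv.Perm.inv_def, Equiv.symm_apply_eq, F.pow_fix ((F.yfix _).2 (Or.inl rfl))]
        obtain ⟨i, hi | hi⟩ := F.outside_orbit heO hep heq hfO h1 h2
        · exact ⟨F.y ^ i * e * (F.y ^ i)⁻¹, hny' i e heB, conj_fixM24 (hyO i) heF, by
            simp only [Equiv.Perm.mul_apply]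
            rw [hi0]; exact hi⟩
        · exact ⟨F.y ^ i * (F.s * e) * (F.y ^ i)⁻¹, hny' i _ (mul_mem hsB heB),
            conj_fixM24 (hyO i) (mul_mem hsF heF), by
            simp only [Equiv.Perm.mul_apply]
            rw [hi0]; exact hi⟩
      have := eq_one_of_fixM24_fix F.O_octad (mul_mem (inv_mem hbF) hf) F.p_notMem
        (by rw [Equiv.Perm.mul_apply, ← hbp]; simp)
      exact (inv_mul_eq_one.1 this) ▸ hbB
    have hle : B ≤ fixM24 F.O := fun c hc =>
      mem_fixM24_of_commute F.O_octad (hB hc) fun g hg => hcomm g (hall hg) c hc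
    exact (Nat.card_le_card_of_injective (Subgroup.inclusion hle)
      (Subgroup.inclusion_injective hle)).trans h16.le
  · push Not at hA
    have hpres : ∀ b ∈ B, ∀ x ∈ F.O, b x ∈ F.O := by
      intro b hb x hx
      rw [F.mem_O] at hx ⊢
      rw [← Equiv.Perm.mul_apply, ← hcs b hb, Equiv.Perm.mul_apply, hx]
    let R : Subgroup P24 := B ⊓ MulAction.stabilizer P24 F.r
    have hR : ∀ b, b ∈ R ↔ b ∈ B ∧ b F.r = F.r := fun b => Iff.rfl
    have hR2 : ∀ b ∈ R, b = 1 ∨ b = F.s := by
      haveI : Fact (Nat.Prime 2) := ⟨Nat.prime_two⟩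
      have hp : IsPGroup 2 R := fun b => ⟨1, Subtype.ext (by
        show (b : P24) ^ (2 ^ 1) = 1
        rw [pow_one, pow_two]; exact hexp _ b.2.1)⟩
      let X : SubMulAction R GolayPt :=
        { carrier := {x | x ∈ F.O ∧ x ≠ F.r}
          smul_mem' := by
            rintro ⟨b, hb⟩ x ⟨hx, hxr⟩
            exact ⟨hpres b hb.1 x hx, fun e => hxr (b.injective (e.trans hb.2.symm))⟩ }
      have hX : Nat.card X = 7 := by
        show Nat.card {x // x ∈ F.O ∧ x ≠ F.r} = 7
        rw [Nat.card_congr (Equiv.subtypeEquivRight (p := fun x => x ∈ F.O ∧ x ≠ F.r)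
          (q := fun x => x ∈ F.O.erase F.r) fun x => by rw [Finset.mem_erase]; tauto),
          Nat.card_eq_fintype_card, Fintype.card_coe, Finset.card_erase_of_mem F.r_mem,
          card_octad F.O_octad]
      obtain ⟨⟨x, hx, hxr⟩, hfx⟩ :=
        hp.nonempty_fixed_point_of_prime_not_dvd_card X (by rw [hX]; norm_num)
      have hfix : ∀ c ∈ R, c x = x := fun c hc => congrArg Subtype.val (hfx ⟨c, hc⟩)
      intro b hb
      have hO : ∀ z ∈ F.O, b z = z := F.fix_O_of_fix hb.2 hx hxr fun i => by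
        have hri : (F.y ^ i) F.r = F.r := F.pow_fix ((F.yfix _).2 (Or.inr (Or.inr rfl)))
        have hc : (F.y ^ i)⁻¹ * b * F.y ^ i ∈ R := by
          refine (hR _).2 ⟨?_, ?_⟩
          · have h7 : (F.y ^ i)⁻¹ = F.y ^ (6 * i) := by
              rw [inv_eq_iff_mul_eq_one, ← pow_add, show i + 6 * i = 7 * i by ring, pow_mul, F.y7,
                one_pow]
            have := hny' (6 * i) b hb.1
            rwa [← h7, inv_inv] at this
          · simp only [Equiv.Perm.mul_apply, hri]
            rw [show b F.r = F.r from hb.2, Equiv.Perm.inv_def, Equiv.symm_apply_eq, hri]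
        have := hfix _ hc
        simp only [Equiv.Perm.mul_apply, Equiv.Perm.inv_def, Equiv.symm_apply_eq] at this
        exact this
      by_contra hne
      push Not at hne
      exact hne.2 (hA b hb.1 (mem_fixM24.2 ⟨hB hb.1, hO⟩) hne.1)
    have hRc : Nat.card R ≤ 2 := by
      have hsub : (R : Set P24) ⊆ {1, F.s} := fun b hb => by
        rcases hR2 b hb with rfl | rfl <;> simp
      calc Nat.card R = (R : Set P24).ncard := (Nat.card_coe_set_eq _)
        _ ≤ ({1, F.s} : Set P24).ncard := Set.ncard_le_ncard hsub (Set.toFinite _)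
        _ ≤ 2 := by
          calc ({1, F.s} : Set P24).ncard ≤ ({F.s} : Set P24).ncard + 1 := Set.ncard_insert_le _ _
            _ = 2 := by rw [Set.ncard_singleton]
    have h1 := MulAction.card_orbit_mul_card_stabilizer_eq_card_group B F.r
    haveI : Fintype B := Fintype.ofFinite _
    have horb : Nat.card (MulAction.orbit B F.r) ≤ 8 := by
      rw [Nat.card_coe_set_eq, ← card_octad F.O_octad, ← Set.ncard_coe_finset]
      refine Set.ncard_le_ncard ?_ (Set.toFinite _)
      rintro _ ⟨b, rfl⟩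
      exact hpres b b.2 _ F.r_mem
    have hst : Nat.card (MulAction.stabilizer B F.r) ≤ 2 := by
      refine le_trans (le_of_eq (Nat.card_congr
        { toFun := fun b => (⟨b.1.1, b.1.2, b.2⟩ : R)
          invFun := fun b => ⟨⟨b.1, b.2.1⟩, b.2.2⟩
          left_inv := fun _ => rfl
          right_inv := fun _ => rfl })) hRc
    simp only [← Nat.card_eq_fintype_card] at h1
    rw [← h1]
    calc Nat.card (MulAction.orbit B F.r) * Nat.card (MulAction.stabilizer B F.r) ≤ 8 * 2 :=
        Nat.mul_le_mul horb hst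
      _ = 16 := rfl

/-- an involution fixing `p`, preserving the pair and centralising `s` fixes a point off the
octad other than the two points -/
theorem exists_outside {b : P24} (hb : b ∈ M24) (hb2 : b * b = 1) (hb1 : b ≠ 1)
    (hp : b F.p = F.p) :
    ∃ x, x ∉ F.O ∧ x ≠ F.p ∧ x ≠ F.q ∧ b x = x := by
  classical
  have hoct := invol_fix_octad hb (orderOf_eq_prime (by rw [pow_two]; exact hb2) hb1)
    (fun h => h F.p hp)
  set B8 := Finset.univ.filter (fun x => b x = x) with hB8
  have hpB : F.p ∈ B8 := Finset.mem_filter.2 ⟨Finset.mem_univ _, hp⟩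
  have hint : (F.O ∩ B8).card ≤ 4 := by
    have h8 := card_symmDiff_add F.O B8
    rw [card_octad F.O_octad, card_octad hoct] at h8
    rcases card_symmDiff_cases F.O_octad.1 hoct.1 with h | h | h | h | h
    · exfalso
      have e := symmDiff_eq_bot.1 (Finset.card_eq_zero.1 h)
      exact F.p_notMem (e.symm ▸ hpB)
    all_goals omega
  have h1 : 0 < (((B8 \ F.O).erase F.p).erase F.q).card := by
    have h2 := Finset.card_sdiff_add_card_inter B8 F.O
    rw [Finset.inter_comm, card_octad hoct] at h2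
    have h3 := Finset.pred_card_le_card_erase (a := F.p) (s := B8 \ F.O)
    have h4 := Finset.pred_card_le_card_erase (a := F.q) (s := (B8 \ F.O).erase F.p)
    omega
  obtain ⟨x, hx⟩ := Finset.card_pos.1 h1
  simp only [Finset.mem_erase, Finset.mem_sdiff] at hx
  exact ⟨x, hx.2.2.2, hx.2.1, hx.1, (Finset.mem_filter.1 hx.2.2.1).2⟩

end Cfg

end CfsgLib.Spor.JankoFourSeven
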